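import Mathlib
import Cfsg.Agent.Spor.Comp.Chain

/-! Generated by tools/pg: coset enumeration ht -/

set_option autoImplicit false
set_option maxRecDepth 100000
set_option linter.unusedVariables false
set_option exponentiation.threshold 100000

namespace Cfsg.Agent.Spor.MFi24

open Cfsg.Agent.Spor

noncomputable def ht_rules : LT :=
(.node (.node (.node (.node (.node (.node (.node (.node (.node (.leaf [nat_lit 23,nat_lit 1,nat_lit 1,nat_lit 0,nat_lit 11,nat_lit 0,nat_lit 11])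
 (.leaf [nat_lit 64,nat_lit 2,nat_lit 1,nat_lit 12,nat_lit 7,nat_lit 6,nat_lit 7,nat_lit 6,nat_lit 7,nat_lit 6])
) (.leaf [nat_lit 41,nat_lit 2,nat_lit 1,nat_lit 10,nat_lit 2,nat_lit 10,nat_lit 2])
) (.node (.leaf [nat_lit 42,nat_lit 2,nat_lit 1,nat_lit 11,nat_lit 2,nat_lit 11,nat_lit 2])
 (.leaf [nat_lit 79,nat_lit 61,nat_lit 1,nat_lit 6,nat_lit 2,nat_lit 10,nat_lit 8,nat_lit 4,nat_lit 1,nat_lit 0,nat_lit 3,nat_lit 6,nat_lit 2,nat_lit 8,nat_lit 4,nat_lit 1,nat_lit 0,nat_lit 3,nat_lit 6,nat_lit 2,nat_lit 8,nat_lit 4,nat_lit 1,nat_lit 0,nat_lit 3,nat_lit 6,nat_lit 2,nat_lit 8,nat_lit 4,nat_lit 1,nat_lit 0,nat_lit 3,nat_lit 6,nat_lit 2,nat_lit 8,nat_lit 4,nat_lit 1,nat_lit 0,nat_lit 3,nat_lit 6,nat_lit 2,nat_lit 8,nat_lit 4,nat_lit 1,nat_lit 0,nat_lit 3,nat_lit 6,nat_lit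 2,nat_lit 8,nat_lit 4,nat_lit 1,nat_lit 0,nat_lit 3,nat_lit 6,nat_lit 2,nat_lit 8,nat_lit 4,nat_lit 1,nat_lit 0,nat_lit 3,nat_lit 6,nat_lit 2,nat_lit 8,nat_lit 4,nat_lit 1,nat_lit 0,nat_lit 3])
)) (.node (.node (.node (.leaf [nat_lit 52,nat_lit 2,nat_lit 1,nat_lit 6,nat_lit 4,nat_lit 6,nat_lit 4])
 (.leaf [nat_lit 12,nat_lit 0,nat_lit 0,nat_lit 12,nat_lit 11,nat_lit 11])
) (.leaf [nat_lit 79,nat_lit 22,nat_lit 1,nat_lit 4,nat_lit 1,nat_lit 0,nat_lit 3,nat_lit 6,nat_lit 2,nat_lit 8,nat_lit 4,nat_lit 1,nat_lit 0,nat_lit 3,nat_lit 6,nat_lit 2,nat_lit 8,nat_lit 4,nat_lit 1,nat_lit 0,nat_lit 3,nat_lit 6,nat_lit 2,nat_lit 8,nat_lit 4,nat_lit 1,nat_lit 0,nat_lit 3,nat_lit 6,nat_lit 2,nat_lit 8,nat_lit 4,nat_lit 1,nat_lit 0,nat_lit 3,nat_lit 6,nat_lit 2,nat_lit 8,nat_lit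 4,nat_lit 1,nat_lit 0,nat_lit 3,nat_lit 6,nat_lit 2,nat_lit 10,nat_lit 8,nat_lit 4,nat_lit 1,nat_lit 0,nat_lit 3,nat_lit 6,nat_lit 2,nat_lit 8,nat_lit 4,nat_lit 1,nat_lit 0,nat_lit 3,nat_lit 6,nat_lit 2,nat_lit 8,nat_lit 4,nat_lit 1,nat_lit 0,nat_lit 3,nat_lit 6,nat_lit 2,nat_lit 8])
) (.node (.leaf [nat_lit 37,nat_lit 1,nat_lit 1,nat_lit 2,nat_lit 6,nat_lit 2,nat_lit 6])
 (.leaf [nat_lit 65,nat_lit 2,nat_lit 1,nat_lit 12,nat_lit 8,nat_lit 6,nat_lit 8,nat_lit 6])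
))) (.node (.node (.node (.node (.leaf [nat_lit 73,nat_lit 2,nat_lit 1,nat_lit 9,nat_lit 8,nat_lit 9,nat_lit 8])
 (.leaf [nat_lit 29,nat_lit 2,nat_lit 1,nat_lit 12,nat_lit 7,nat_lit 1,nat_lit 7,nat_lit 1])
) (.leaf [nat_lit 79,nat_lit 56,nat_lit 1,nat_lit 8,nat_lit 4,nat_lit 1,nat_lit 0,nat_lit 3,nat_lit 6,nat_lit 2,nat_lit 10,nat_lit 8,nat_lit 4,nat_lit 1,nat_lit 0,nat_lit 3,nat_lit 6,nat_lit 2,nat_lit 8,nat_lit 4,nat_lit 1,nat_lit 0,nat_lit 3,nat_lit 6,nat_lit 2,nat_lit 8,nat_lit 4,nat_lit 1,nat_lit 0,nat_lit 3,nat_lit 6,nat_lit 2,nat_lit 8,nat_lit 4,nat_lit 1,nat_lit 0,nat_lit 3,nat_lit 6,nat_lit 2,nat_lit 8,nat_lit 4,nat_lit 1,nat_lit 0,nat_lit 3,nat_lit 6,nat_lit 2,nat_lit 8,nat_lit 4,nat_lit 1,nat_lit 0,nat_lit 3,nat_lit 6,nat_lit 2,nat_lit 8,nat_lit 4,nat_lit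 1,nat_lit 0,nat_lit 3,nat_lit 6,nat_lit 2,nat_lit 8,nat_lit 4,nat_lit 1,nat_lit 0,nat_lit 3,nat_lit 6,nat_lit 2])
) (.node (.leaf [nat_lit 58,nat_lit 2,nat_lit 1,nat_lit 6,nat_lit 5,nat_lit 6,nat_lit 5])
 (.leaf [nat_lit 48,nat_lit 2,nat_lit 1,nat_lit 12,nat_lit 9,nat_lit 3,nat_lit 9,nat_lit 3])
)) (.node (.node (.leaf [nat_lit 78,nat_lit 3,nat_lit 1,nat_lit 10,nat_lit 11,nat_lit 10,nat_lit 11,nat_lit 10,nat_lit 11])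
 (.leaf [nat_lit 79,nat_lit 50,nat_lit 1,nat_lit 4,nat_lit 1,nat_lit 0,nat_lit 3,nat_lit 6,nat_lit 2,nat_lit 8,nat_lit 4,nat_lit 1,nat_lit 0,nat_lit 3,nat_lit 6,nat_lit 2,nat_lit 10,nat_lit 8,nat_lit 4,nat_lit 1,nat_lit 0,nat_lit 3,nat_lit 6,nat_lit 2,nat_lit 8,nat_lit 4,nat_lit 1,nat_lit 0,nat_lit 3,nat_lit 6,nat_lit 2,nat_lit 8,nat_lit 4,nat_lit 1,nat_lit 0,nat_lit 3,nat_lit 6,nat_lit 2,nat_lit 8,nat_lit 4,nat_lit 1,nat_lit 0,nat_lit 3,nat_lit 6,nat_lit 2,nat_lit 8,nat_lit 4,nat_lit 1,nat_lit 0,nat_lit 3,nat_lit 6,nat_lit 2,nat_lit 8,nat_lit 4,nat_lit 1,nat_lit 0,nat_lit 3,nat_lit 6,nat_lit 2,nat_lit 8,nat_lit 4,nat_lit 1,nat_lit 0,nat_lit 3,nat_lit 6,nat_lit 2,nat_lit 8])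
) (.node (.leaf [nat_lit 55,nat_lit 1,nat_lit 1,nat_lit 4,nat_lit 9,nat_lit 4,nat_lit 9])
 (.leaf [nat_lit 33,nat_lit 1,nat_lit 1,nat_lit 12,nat_lit 1,nat_lit 11,nat_lit 1,nat_lit 11])
)))) (.node (.node (.node (.node (.node (.leaf [nat_lit 77,nat_lit 1,nat_lit 1,nat_lit 9,nat_lit 11,nat_lit 9,nat_lit 11])
 (.leaf [nat_lit 14,nat_lit 2,nat_lit 1,nat_lit 12,nat_lit 2,nat_lit 0,nat_lit 2,nat_lit 0,nat_lit 2,nat_lit 0])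
) (.leaf [nat_lit 79,nat_lit 57,nat_lit 1,nat_lit 4,nat_lit 1,nat_lit 0,nat_lit 3,nat_lit 6,nat_lit 2,nat_lit 10,nat_lit 8,nat_lit 4,nat_lit 1,nat_lit 0,nat_lit 3,nat_lit 6,nat_lit 2,nat_lit 8,nat_lit 4,nat_lit 1,nat_lit 0,nat_lit 3,nat_lit 6,nat_lit 2,nat_lit 8,nat_lit 4,nat_lit 1,nat_lit 0,nat_lit 3,nat_lit 6,nat_lit 2,nat_lit 8,nat_lit 4,nat_lit 1,nat_lit 0,nat_lit 3,nat_lit 6,nat_lit 2,nat_lit 8,nat_lit 4,nat_lit 1,nat_lit 0,nat_lit 3,nat_lit 6,nat_lit 2,nat_lit 8,nat_lit 4,nat_lit 1,nat_lit 0,nat_lit 3,nat_lit 6,nat_lit 2,nat_lit 8,nat_lit 4,nat_lit 1,nat_lit 0,nat_lit 3,nat_lit 6,nat_lit 2,nat_lit 8,nat_lit 4,nat_lit 1,nat_lit 0,nat_lit 3,nat_lit 6,nat_lit 2,nat_lit 8])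
) (.node (.leaf [nat_lit 50,nat_lit 2,nat_lit 1,nat_lit 11,nat_lit 3,nat_lit 11,nat_lit 3])
 (.leaf [nat_lit 74,nat_lit 1,nat_lit 1,nat_lit 12,nat_lit 8,nat_lit 10,nat_lit 8,nat_lit 10])
)) (.node (.node (.leaf [nat_lit 26,nat_lit 4,nat_lit 1,nat_lit 4,nat_lit 1,nat_lit 4,nat_lit 1,nat_lit 4,nat_lit 1])
 (.leaf [nat_lit 80,nat_lit 224,nat_lit 1,nat_lit 5,nat_lit 2,nat_lit 0,nat_lit 9,nat_lit 7,nat_lit 6,nat_lit 3,nat_lit 0,nat_lit 10,nat_lit 11,nat_lit 8,nat_lit 4,nat_lit 1,nat_lit 0,nat_lit 5,nat_lit 2,nat_lit 0,nat_lit 9,nat_lit 7,nat_lit 6,nat_lit 3,nat_lit 0,nat_lit 10,nat_lit 11,nat_lit 8,nat_lit 4,nat_lit 1,nat_lit 0,nat_lit 5,nat_lit 2,nat_lit 0,nat_lit 9,nat_lit 7,nat_lit 6,nat_lit 3,nat_lit 0,nat_lit 10,nat_lit 11,nat_lit 8,nat_lit 4,nat_lit 1,nat_lit 0,nat_lit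 5,nat_lit 2,nat_lit 0,nat_lit 9,nat_lit 7,nat_lit 6,nat_lit 3,nat_lit 0,nat_lit 10,nat_lit 11,nat_lit 8,nat_lit 4,nat_lit 1,nat_lit 0,nat_lit 5,nat_lit 2,nat_lit 0,nat_lit 9,nat_lit 7,nat_lit 6,nat_lit 3,nat_lit 0,nat_lit 10,nat_lit 11,nat_lit 8,nat_lit 4,nat_lit 1,nat_lit 0,nat_lit 5,nat_lit 2,nat_lit 0,nat_lit 9,nat_lit 7,nat_lit 6,nat_lit 3,nat_lit 0,nat_lit 10,nat_lit 11,nat_lit 8,nat_lit 4,nat_lit 1,nat_lit 0,nat_lit 5,nat_lit 2,nat_lit 0,nat_lit 9,nat_lit 7,nat_lit 6,nat_lit 3,nat_lit 0,nat_lit 10,nat_lit 11,nat_lit 8,nat_lit 4,nat_lit 1,nat_lit 0,nat_lit 5,nat_lit 2,nat_lit 0,nat_lit 9,nat_lit 7,nat_lit 6,nat_lit 3,nat_lit 0,nat_lit 10,nat_lit 11,nat_lit 8,nat_lit 4,nat_lit 1,nat_lit 0,nat_lit 5,nat_lit 2,nat_lit 0,nat_lit 9,nat_lit 7,nat_lit 6,nat_lit 3,nat_lit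 0,nat_lit 10,nat_lit 11,nat_lit 8,nat_lit 4,nat_lit 1,nat_lit 0,nat_lit 5,nat_lit 2,nat_lit 0,nat_lit 9,nat_lit 7,nat_lit 6,nat_lit 3,nat_lit 0,nat_lit 10,nat_lit 11,nat_lit 8,nat_lit 4,nat_lit 1,nat_lit 0,nat_lit 5,nat_lit 2,nat_lit 0,nat_lit 9,nat_lit 7,nat_lit 6,nat_lit 3,nat_lit 0,nat_lit 10,nat_lit 11,nat_lit 8,nat_lit 4,nat_lit 1,nat_lit 0,nat_lit 5,nat_lit 2,nat_lit 0,nat_lit 9,nat_lit 7,nat_lit 6,nat_lit 3,nat_lit 0,nat_lit 10,nat_lit 11,nat_lit 8,nat_lit 4,nat_lit 1,nat_lit 0,nat_lit 5,nat_lit 2,nat_lit 0,nat_lit 9,nat_lit 7,nat_lit 6,nat_lit 3,nat_lit 0,nat_lit 10,nat_lit 11,nat_lit 8,nat_lit 4,nat_lit 1,nat_lit 0,nat_lit 5,nat_lit 2,nat_lit 0,nat_lit 9,nat_lit 7,nat_lit 6,nat_lit 3,nat_lit 0,nat_lit 10,nat_lit 11,nat_lit 8,nat_lit 4,nat_lit 1,nat_lit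 0,nat_lit 5,nat_lit 2,nat_lit 0,nat_lit 9,nat_lit 7,nat_lit 6,nat_lit 3,nat_lit 0,nat_lit 10,nat_lit 11,nat_lit 8,nat_lit 4,nat_lit 1,nat_lit 0,nat_lit 5,nat_lit 2,nat_lit 0,nat_lit 9,nat_lit 7,nat_lit 6,nat_lit 3,nat_lit 0,nat_lit 10,nat_lit 11,nat_lit 8,nat_lit 4,nat_lit 1,nat_lit 0,nat_lit 5,nat_lit 2,nat_lit 0,nat_lit 9,nat_lit 7,nat_lit 6,nat_lit 3,nat_lit 0,nat_lit 10,nat_lit 11,nat_lit 8,nat_lit 4,nat_lit 1,nat_lit 0])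
) (.node (.leaf [nat_lit 72,nat_lit 2,nat_lit 1,nat_lit 11,nat_lit 7,nat_lit 11,nat_lit 7])
 (.leaf [nat_lit 28,nat_lit 1,nat_lit 1,nat_lit 12,nat_lit 1,nat_lit 6,nat_lit 1,nat_lit 6])
))) (.node (.node (.node (.node (.leaf [nat_lit 67,nat_lit 1,nat_lit 1,nat_lit 6,nat_lit 10,nat_lit 6,nat_lit 10])
 (.leaf [nat_lit 5,nat_lit 0,nat_lit 0,nat_lit 12,nat_lit 4,nat_lit 4])
) (.leaf [nat_lit 79,nat_lit 51,nat_lit 1,nat_lit 1,nat_lit 0,nat_lit 3,nat_lit 6,nat_lit 2,nat_lit 8,nat_lit 4,nat_lit 1,nat_lit 0,nat_lit 3,nat_lit 6,nat_lit 2,nat_lit 10,nat_lit 8,nat_lit 4,nat_lit 1,nat_lit 0,nat_lit 3,nat_lit 6,nat_lit 2,nat_lit 8,nat_lit 4,nat_lit 1,nat_lit 0,nat_lit 3,nat_lit 6,nat_lit 2,nat_lit 8,nat_lit 4,nat_lit 1,nat_lit 0,nat_lit 3,nat_lit 6,nat_lit 2,nat_lit 8,nat_lit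 4,nat_lit 1,nat_lit 0,nat_lit 3,nat_lit 6,nat_lit 2,nat_lit 8,nat_lit 4,nat_lit 1,nat_lit 0,nat_lit 3,nat_lit 6,nat_lit 2,nat_lit 8,nat_lit 4,nat_lit 1,nat_lit 0,nat_lit 3,nat_lit 6,nat_lit 2,nat_lit 8,nat_lit 4,nat_lit 1,nat_lit 0,nat_lit 3,nat_lit 6,nat_lit 2,nat_lit 8,nat_lit 4])
) (.node (.leaf [nat_lit 52,nat_lit 1,nat_lit 1,nat_lit 4,nat_lit 6,nat_lit 4,nat_lit 6])
 (.leaf [nat_lit 51,nat_lit 3,nat_lit 1,nat_lit 12,nat_lit 4,nat_lit 5,nat_lit 4,nat_lit 5])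
)) (.node (.node (.leaf [nat_lit 23,nat_lit 2,nat_lit 1,nat_lit 11,nat_lit 0,nat_lit 11,nat_lit 0])
 (.leaf [nat_lit 80,nat_lit 227,nat_lit 1,nat_lit 9,nat_lit 7,nat_lit 6,nat_lit 3,nat_lit 0,nat_lit 10,nat_lit 11,nat_lit 8,nat_lit 4,nat_lit 1,nat_lit 0,nat_lit 5,nat_lit 2,nat_lit 0,nat_lit 9,nat_lit 7,nat_lit 6,nat_lit 3,nat_lit 0,nat_lit 10,nat_lit 11,nat_lit 8,nat_lit 4,nat_lit 1,nat_lit 0,nat_lit 5,nat_lit 2,nat_lit 0,nat_lit 9,nat_lit 7,nat_lit 6,nat_lit 3,nat_lit 0,nat_lit 10,nat_lit 11,nat_lit 8,nat_lit 4,nat_lit 1,nat_lit 0,nat_lit 5,nat_lit 2,nat_lit 0,nat_lit 9,nat_lit 7,nat_lit 6,nat_lit 3,nat_lit 0,nat_lit 10,nat_lit 11,nat_lit 8,nat_lit 4,nat_lit 1,nat_lit 0,nat_lit 5,nat_lit 2,nat_lit 0,nat_lit 9,nat_lit 7,nat_lit 6,nat_lit 3,nat_lit 0,nat_lit 10,nat_lit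 11,nat_lit 8,nat_lit 4,nat_lit 1,nat_lit 0,nat_lit 5,nat_lit 2,nat_lit 0,nat_lit 9,nat_lit 7,nat_lit 6,nat_lit 3,nat_lit 0,nat_lit 10,nat_lit 11,nat_lit 8,nat_lit 4,nat_lit 1,nat_lit 0,nat_lit 5,nat_lit 2,nat_lit 0,nat_lit 9,nat_lit 7,nat_lit 6,nat_lit 3,nat_lit 0,nat_lit 10,nat_lit 11,nat_lit 8,nat_lit 4,nat_lit 1,nat_lit 0,nat_lit 5,nat_lit 2,nat_lit 0,nat_lit 9,nat_lit 7,nat_lit 6,nat_lit 3,nat_lit 0,nat_lit 10,nat_lit 11,nat_lit 8,nat_lit 4,nat_lit 1,nat_lit 0,nat_lit 5,nat_lit 2,nat_lit 0,nat_lit 9,nat_lit 7,nat_lit 6,nat_lit 3,nat_lit 0,nat_lit 10,nat_lit 11,nat_lit 8,nat_lit 4,nat_lit 1,nat_lit 0,nat_lit 5,nat_lit 2,nat_lit 0,nat_lit 9,nat_lit 7,nat_lit 6,nat_lit 3,nat_lit 0,nat_lit 10,nat_lit 11,nat_lit 8,nat_lit 4,nat_lit 1,nat_lit 0,nat_lit 5,nat_lit 2,nat_lit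 0,nat_lit 9,nat_lit 7,nat_lit 6,nat_lit 3,nat_lit 0,nat_lit 10,nat_lit 11,nat_lit 8,nat_lit 4,nat_lit 1,nat_lit 0,nat_lit 5,nat_lit 2,nat_lit 0,nat_lit 9,nat_lit 7,nat_lit 6,nat_lit 3,nat_lit 0,nat_lit 10,nat_lit 11,nat_lit 8,nat_lit 4,nat_lit 1,nat_lit 0,nat_lit 5,nat_lit 2,nat_lit 0,nat_lit 9,nat_lit 7,nat_lit 6,nat_lit 3,nat_lit 0,nat_lit 10,nat_lit 11,nat_lit 8,nat_lit 4,nat_lit 1,nat_lit 0,nat_lit 5,nat_lit 2,nat_lit 0,nat_lit 9,nat_lit 7,nat_lit 6,nat_lit 3,nat_lit 0,nat_lit 10,nat_lit 11,nat_lit 8,nat_lit 4,nat_lit 1,nat_lit 0,nat_lit 5,nat_lit 2,nat_lit 0,nat_lit 9,nat_lit 7,nat_lit 6,nat_lit 3,nat_lit 0,nat_lit 10,nat_lit 11,nat_lit 8,nat_lit 4,nat_lit 1,nat_lit 0,nat_lit 5,nat_lit 2,nat_lit 0,nat_lit 9,nat_lit 7,nat_lit 6,nat_lit 3,nat_lit 0,nat_lit 10,nat_lit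 11,nat_lit 8,nat_lit 4,nat_lit 1,nat_lit 0,nat_lit 5,nat_lit 2,nat_lit 0,nat_lit 9,nat_lit 7,nat_lit 6,nat_lit 3,nat_lit 0,nat_lit 10,nat_lit 11,nat_lit 8,nat_lit 4,nat_lit 1,nat_lit 0,nat_lit 5,nat_lit 2,nat_lit 0])
) (.node (.leaf [nat_lit 45,nat_lit 4,nat_lit 1,nat_lit 6,nat_lit 3,nat_lit 6,nat_lit 3,nat_lit 6,nat_lit 3])
 (.leaf [nat_lit 29,nat_lit 1,nat_lit 1,nat_lit 12,nat_lit 1,nat_lit 7,nat_lit 1,nat_lit 7])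
))))) (.node (.node (.node (.node (.node (.node (.leaf [nat_lit 57,nat_lit 1,nat_lit 1,nat_lit 4,nat_lit 11,nat_lit 4,nat_lit 11])
 (.leaf [nat_lit 40,nat_lit 2,nat_lit 1,nat_lit 12,nat_lit 9,nat_lit 2,nat_lit 9,nat_lit 2])
) (.leaf [nat_lit 79,nat_lit 63,nat_lit 1,nat_lit 10,nat_lit 8,nat_lit 4,nat_lit 1,nat_lit 0,nat_lit 3,nat_lit 6,nat_lit 2,nat_lit 8,nat_lit 4,nat_lit 1,nat_lit 0,nat_lit 3,nat_lit 6,nat_lit 2,nat_lit 8,nat_lit 4,nat_lit 1,nat_lit 0,nat_lit 3,nat_lit 6,nat_lit 2,nat_lit 8,nat_lit 4,nat_lit 1,nat_lit 0,nat_lit 3,nat_lit 6,nat_lit 2,nat_lit 8,nat_lit 4,nat_lit 1,nat_lit 0,nat_lit 3,nat_lit 6,nat_lit 2,nat_lit 8,nat_lit 4,nat_lit 1,nat_lit 0,nat_lit 3,nat_lit 6,nat_lit 2,nat_lit 8,nat_lit 4,nat_lit 1,nat_lit 0,nat_lit 3,nat_lit 6,nat_lit 2,nat_lit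 8,nat_lit 4,nat_lit 1,nat_lit 0,nat_lit 3,nat_lit 6,nat_lit 2,nat_lit 8,nat_lit 4,nat_lit 1,nat_lit 0,nat_lit 3,nat_lit 6,nat_lit 2])
) (.node (.leaf [nat_lit 44,nat_lit 2,nat_lit 1,nat_lit 5,nat_lit 3,nat_lit 5,nat_lit 3])
 (.leaf [nat_lit 80,nat_lit 225,nat_lit 1,nat_lit 2,nat_lit 0,nat_lit 9,nat_lit 7,nat_lit 6,nat_lit 3,nat_lit 0,nat_lit 10,nat_lit 11,nat_lit 8,nat_lit 4,nat_lit 1,nat_lit 0,nat_lit 5,nat_lit 2,nat_lit 0,nat_lit 9,nat_lit 7,nat_lit 6,nat_lit 3,nat_lit 0,nat_lit 10,nat_lit 11,nat_lit 8,nat_lit 4,nat_lit 1,nat_lit 0,nat_lit 5,nat_lit 2,nat_lit 0,nat_lit 9,nat_lit 7,nat_lit 6,nat_lit 3,nat_lit 0,nat_lit 10,nat_lit 11,nat_lit 8,nat_lit 4,nat_lit 1,nat_lit 0,nat_lit 5,nat_lit 2,nat_lit 0,nat_lit 9,nat_lit 7,nat_lit 6,nat_lit 3,nat_lit 0,nat_lit 10,nat_lit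 11,nat_lit 8,nat_lit 4,nat_lit 1,nat_lit 0,nat_lit 5,nat_lit 2,nat_lit 0,nat_lit 9,nat_lit 7,nat_lit 6,nat_lit 3,nat_lit 0,nat_lit 10,nat_lit 11,nat_lit 8,nat_lit 4,nat_lit 1,nat_lit 0,nat_lit 5,nat_lit 2,nat_lit 0,nat_lit 9,nat_lit 7,nat_lit 6,nat_lit 3,nat_lit 0,nat_lit 10,nat_lit 11,nat_lit 8,nat_lit 4,nat_lit 1,nat_lit 0,nat_lit 5,nat_lit 2,nat_lit 0,nat_lit 9,nat_lit 7,nat_lit 6,nat_lit 3,nat_lit 0,nat_lit 10,nat_lit 11,nat_lit 8,nat_lit 4,nat_lit 1,nat_lit 0,nat_lit 5,nat_lit 2,nat_lit 0,nat_lit 9,nat_lit 7,nat_lit 6,nat_lit 3,nat_lit 0,nat_lit 10,nat_lit 11,nat_lit 8,nat_lit 4,nat_lit 1,nat_lit 0,nat_lit 5,nat_lit 2,nat_lit 0,nat_lit 9,nat_lit 7,nat_lit 6,nat_lit 3,nat_lit 0,nat_lit 10,nat_lit 11,nat_lit 8,nat_lit 4,nat_lit 1,nat_lit 0,nat_lit 5,nat_lit 2,nat_lit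 0,nat_lit 9,nat_lit 7,nat_lit 6,nat_lit 3,nat_lit 0,nat_lit 10,nat_lit 11,nat_lit 8,nat_lit 4,nat_lit 1,nat_lit 0,nat_lit 5,nat_lit 2,nat_lit 0,nat_lit 9,nat_lit 7,nat_lit 6,nat_lit 3,nat_lit 0,nat_lit 10,nat_lit 11,nat_lit 8,nat_lit 4,nat_lit 1,nat_lit 0,nat_lit 5,nat_lit 2,nat_lit 0,nat_lit 9,nat_lit 7,nat_lit 6,nat_lit 3,nat_lit 0,nat_lit 10,nat_lit 11,nat_lit 8,nat_lit 4,nat_lit 1,nat_lit 0,nat_lit 5,nat_lit 2,nat_lit 0,nat_lit 9,nat_lit 7,nat_lit 6,nat_lit 3,nat_lit 0,nat_lit 10,nat_lit 11,nat_lit 8,nat_lit 4,nat_lit 1,nat_lit 0,nat_lit 5,nat_lit 2,nat_lit 0,nat_lit 9,nat_lit 7,nat_lit 6,nat_lit 3,nat_lit 0,nat_lit 10,nat_lit 11,nat_lit 8,nat_lit 4,nat_lit 1,nat_lit 0,nat_lit 5,nat_lit 2,nat_lit 0,nat_lit 9,nat_lit 7,nat_lit 6,nat_lit 3,nat_lit 0,nat_lit 10,nat_lit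 11,nat_lit 8,nat_lit 4,nat_lit 1,nat_lit 0,nat_lit 5,nat_lit 2,nat_lit 0,nat_lit 9,nat_lit 7,nat_lit 6,nat_lit 3,nat_lit 0,nat_lit 10,nat_lit 11,nat_lit 8,nat_lit 4,nat_lit 1,nat_lit 0,nat_lit 5,nat_lit 2,nat_lit 0,nat_lit 9,nat_lit 7,nat_lit 6,nat_lit 3,nat_lit 0,nat_lit 10,nat_lit 11,nat_lit 8,nat_lit 4,nat_lit 1,nat_lit 0,nat_lit 5])
)) (.node (.node (.node (.leaf [nat_lit 57,nat_lit 2,nat_lit 1,nat_lit 11,nat_lit 4,nat_lit 11,nat_lit 4])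
 (.leaf [nat_lit 79,nat_lit 2,nat_lit 1,nat_lit 12,nat_lit 1,nat_lit 0,nat_lit 3,nat_lit 6,nat_lit 2,nat_lit 8,nat_lit 4,nat_lit 1,nat_lit 0,nat_lit 3,nat_lit 6,nat_lit 2,nat_lit 8,nat_lit 4,nat_lit 1,nat_lit 0,nat_lit 3,nat_lit 6,nat_lit 2,nat_lit 8,nat_lit 4,nat_lit 1,nat_lit 0,nat_lit 3,nat_lit 6,nat_lit 2,nat_lit 8,nat_lit 4,nat_lit 1,nat_lit 0,nat_lit 3,nat_lit 6,nat_lit 2,nat_lit 8,nat_lit 4,nat_lit 1,nat_lit 0,nat_lit 3,nat_lit 6,nat_lit 2,nat_lit 8,nat_lit 4,nat_lit 1,nat_lit 0,nat_lit 3,nat_lit 6,nat_lit 2,nat_lit 8,nat_lit 4,nat_lit 1,nat_lit 0,nat_lit 3,nat_lit 6,nat_lit 2,nat_lit 8,nat_lit 4,nat_lit 1,nat_lit 0,nat_lit 3,nat_lit 6,nat_lit 2,nat_lit 10,nat_lit 8,nat_lit 4])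
) (.leaf [nat_lit 80,nat_lit 227,nat_lit 0,nat_lit 8,nat_lit 11,nat_lit 10,nat_lit 0,nat_lit 3,nat_lit 6,nat_lit 7,nat_lit 9,nat_lit 0,nat_lit 2,nat_lit 5,nat_lit 0,nat_lit 1,nat_lit 4,nat_lit 8,nat_lit 11,nat_lit 10,nat_lit 0,nat_lit 3,nat_lit 6,nat_lit 7,nat_lit 9,nat_lit 0,nat_lit 2,nat_lit 5,nat_lit 0,nat_lit 1,nat_lit 4,nat_lit 8,nat_lit 11,nat_lit 10,nat_lit 0,nat_lit 3,nat_lit 6,nat_lit 7,nat_lit 9,nat_lit 0,nat_lit 2,nat_lit 5,nat_lit 0,nat_lit 1,nat_lit 4,nat_lit 8,nat_lit 11,nat_lit 10,nat_lit 0,nat_lit 3,nat_lit 6,nat_lit 7,nat_lit 9,nat_lit 0,nat_lit 2,nat_lit 5,nat_lit 0,nat_lit 1,nat_lit 4,nat_lit 8,nat_lit 11,nat_lit 10,nat_lit 0,nat_lit 3,nat_lit 6,nat_lit 7,nat_lit 9,nat_lit 0,nat_lit 2,nat_lit 5,nat_lit 0,nat_lit 1,nat_lit 4,nat_lit 8,nat_lit 11,nat_lit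 10,nat_lit 0,nat_lit 3,nat_lit 6,nat_lit 7,nat_lit 9,nat_lit 0,nat_lit 2,nat_lit 5,nat_lit 0,nat_lit 1,nat_lit 4,nat_lit 8,nat_lit 11,nat_lit 10,nat_lit 0,nat_lit 3,nat_lit 6,nat_lit 7,nat_lit 9,nat_lit 0,nat_lit 2,nat_lit 5,nat_lit 0,nat_lit 1,nat_lit 4,nat_lit 8,nat_lit 11,nat_lit 10,nat_lit 0,nat_lit 3,nat_lit 6,nat_lit 7,nat_lit 9,nat_lit 0,nat_lit 2,nat_lit 5,nat_lit 0,nat_lit 1,nat_lit 4,nat_lit 8,nat_lit 11,nat_lit 10,nat_lit 0,nat_lit 3,nat_lit 6,nat_lit 7,nat_lit 9,nat_lit 0,nat_lit 2,nat_lit 5,nat_lit 0,nat_lit 1,nat_lit 4,nat_lit 8,nat_lit 11,nat_lit 10,nat_lit 0,nat_lit 3,nat_lit 6,nat_lit 7,nat_lit 9,nat_lit 0,nat_lit 2,nat_lit 5,nat_lit 0,nat_lit 1,nat_lit 4,nat_lit 8,nat_lit 11,nat_lit 10,nat_lit 0,nat_lit 3,nat_lit 6,nat_lit 7,nat_lit 9,nat_lit 0,nat_lit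 2,nat_lit 5,nat_lit 0,nat_lit 1,nat_lit 4,nat_lit 8,nat_lit 11,nat_lit 10,nat_lit 0,nat_lit 3,nat_lit 6,nat_lit 7,nat_lit 9,nat_lit 0,nat_lit 2,nat_lit 5,nat_lit 0,nat_lit 1,nat_lit 4,nat_lit 8,nat_lit 11,nat_lit 10,nat_lit 0,nat_lit 3,nat_lit 6,nat_lit 7,nat_lit 9,nat_lit 0,nat_lit 2,nat_lit 5,nat_lit 0,nat_lit 1,nat_lit 4,nat_lit 8,nat_lit 11,nat_lit 10,nat_lit 0,nat_lit 3,nat_lit 6,nat_lit 7,nat_lit 9,nat_lit 0,nat_lit 2,nat_lit 5,nat_lit 0,nat_lit 1,nat_lit 4,nat_lit 8,nat_lit 11,nat_lit 10,nat_lit 0,nat_lit 3,nat_lit 6,nat_lit 7,nat_lit 9,nat_lit 0,nat_lit 2,nat_lit 5,nat_lit 0,nat_lit 1,nat_lit 4,nat_lit 8,nat_lit 11,nat_lit 10,nat_lit 0,nat_lit 3,nat_lit 6,nat_lit 7,nat_lit 9,nat_lit 0,nat_lit 2,nat_lit 5,nat_lit 0,nat_lit 1,nat_lit 4,nat_lit 8,nat_lit 11,nat_lit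 10,nat_lit 0,nat_lit 3,nat_lit 6,nat_lit 7,nat_lit 9,nat_lit 0,nat_lit 2,nat_lit 5,nat_lit 0,nat_lit 1,nat_lit 4])
) (.node (.leaf [nat_lit 53,nat_lit 1,nat_lit 1,nat_lit 4,nat_lit 7,nat_lit 4,nat_lit 7])
 (.leaf [nat_lit 44,nat_lit 1,nat_lit 1,nat_lit 12,nat_lit 3,nat_lit 5,nat_lit 3,nat_lit 5])
))) (.node (.node (.node (.node (.leaf [nat_lit 41,nat_lit 1,nat_lit 1,nat_lit 2,nat_lit 10,nat_lit 2,nat_lit 10])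
 (.leaf [nat_lit 72,nat_lit 1,nat_lit 1,nat_lit 12,nat_lit 7,nat_lit 11,nat_lit 7,nat_lit 11])
) (.leaf [nat_lit 79,nat_lit 62,nat_lit 0,nat_lit 4,nat_lit 8,nat_lit 10,nat_lit 2,nat_lit 6,nat_lit 3,nat_lit 0,nat_lit 1,nat_lit 4,nat_lit 8,nat_lit 2,nat_lit 6,nat_lit 3,nat_lit 0,nat_lit 1,nat_lit 4,nat_lit 8,nat_lit 2,nat_lit 6,nat_lit 3,nat_lit 0,nat_lit 1,nat_lit 4,nat_lit 8,nat_lit 2,nat_lit 6,nat_lit 3,nat_lit 0,nat_lit 1,nat_lit 4,nat_lit 8,nat_lit 2,nat_lit 6,nat_lit 3,nat_lit 0,nat_lit 1,nat_lit 4,nat_lit 8,nat_lit 2,nat_lit 6,nat_lit 3,nat_lit 0,nat_lit 1,nat_lit 4,nat_lit 8,nat_lit 2,nat_lit 6,nat_lit 3,nat_lit 0,nat_lit 1,nat_lit 4,nat_lit 8,nat_lit 2,nat_lit 6,nat_lit 3,nat_lit 0,nat_lit 1,nat_lit 4,nat_lit 8,nat_lit 2,nat_lit 6,nat_lit 3,nat_lit 0,nat_lit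 1])
) (.node (.leaf [nat_lit 63,nat_lit 2,nat_lit 1,nat_lit 11,nat_lit 5,nat_lit 11,nat_lit 5])
 (.leaf [nat_lit 59,nat_lit 1,nat_lit 1,nat_lit 12,nat_lit 5,nat_lit 7,nat_lit 5,nat_lit 7])
)) (.node (.node (.leaf [nat_lit 18,nat_lit 2,nat_lit 1,nat_lit 6,nat_lit 0,nat_lit 6,nat_lit 0])
 (.leaf [nat_lit 79,nat_lit 7,nat_lit 1,nat_lit 8,nat_lit 4,nat_lit 1,nat_lit 0,nat_lit 3,nat_lit 6,nat_lit 2,nat_lit 8,nat_lit 4,nat_lit 1,nat_lit 0,nat_lit 3,nat_lit 6,nat_lit 2,nat_lit 8,nat_lit 4,nat_lit 1,nat_lit 0,nat_lit 3,nat_lit 6,nat_lit 2,nat_lit 8,nat_lit 4,nat_lit 1,nat_lit 0,nat_lit 3,nat_lit 6,nat_lit 2,nat_lit 8,nat_lit 4,nat_lit 1,nat_lit 0,nat_lit 3,nat_lit 6,nat_lit 2,nat_lit 8,nat_lit 4,nat_lit 1,nat_lit 0,nat_lit 3,nat_lit 6,nat_lit 2,nat_lit 8,nat_lit 4,nat_lit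 1,nat_lit 0,nat_lit 3,nat_lit 6,nat_lit 2,nat_lit 8,nat_lit 4,nat_lit 1,nat_lit 0,nat_lit 3,nat_lit 6,nat_lit 2,nat_lit 10,nat_lit 8,nat_lit 4,nat_lit 1,nat_lit 0,nat_lit 3,nat_lit 6,nat_lit 2])
) (.node (.leaf [nat_lit 73,nat_lit 1,nat_lit 1,nat_lit 8,nat_lit 9,nat_lit 8,nat_lit 9])
 (.leaf [nat_lit 52,nat_lit 1,nat_lit 1,nat_lit 12,nat_lit 4,nat_lit 6,nat_lit 4,nat_lit 6])
)))) (.node (.node (.node (.node (.node (.leaf [nat_lit 47,nat_lit 1,nat_lit 1,nat_lit 3,nat_lit 8,nat_lit 3,nat_lit 8])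
 (.leaf [nat_lit 59,nat_lit 2,nat_lit 1,nat_lit 12,nat_lit 7,nat_lit 5,nat_lit 7,nat_lit 5])
) (.leaf [nat_lit 79,nat_lit 0,nat_lit 0,nat_lit 10,nat_lit 2,nat_lit 6,nat_lit 3,nat_lit 0,nat_lit 1,nat_lit 4,nat_lit 8,nat_lit 2,nat_lit 6,nat_lit 3,nat_lit 0,nat_lit 1,nat_lit 4,nat_lit 8,nat_lit 2,nat_lit 6,nat_lit 3,nat_lit 0,nat_lit 1,nat_lit 4,nat_lit 8,nat_lit 2,nat_lit 6,nat_lit 3,nat_lit 0,nat_lit 1,nat_lit 4,nat_lit 8,nat_lit 2,nat_lit 6,nat_lit 3,nat_lit 0,nat_lit 1,nat_lit 4,nat_lit 8,nat_lit 2,nat_lit 6,nat_lit 3,nat_lit 0,nat_lit 1,nat_lit 4,nat_lit 8,nat_lit 2,nat_lit 6,nat_lit 3,nat_lit 0,nat_lit 1,nat_lit 4,nat_lit 8,nat_lit 2,nat_lit 6,nat_lit 3,nat_lit 0,nat_lit 1,nat_lit 4,nat_lit 8,nat_lit 2,nat_lit 6,nat_lit 3,nat_lit 0,nat_lit 1,nat_lit 4,nat_lit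 8])
) (.node (.leaf [nat_lit 17,nat_lit 1,nat_lit 1,nat_lit 0,nat_lit 5,nat_lit 0,nat_lit 5])
 (.leaf [nat_lit 34,nat_lit 2,nat_lit 1,nat_lit 12,nat_lit 3,nat_lit 2,nat_lit 3,nat_lit 2])
)) (.node (.node (.leaf [nat_lit 30,nat_lit 2,nat_lit 1,nat_lit 8,nat_lit 1,nat_lit 8,nat_lit 1])
 (.leaf [nat_lit 80,nat_lit 236,nat_lit 0,nat_lit 2,nat_lit 5,nat_lit 0,nat_lit 1,nat_lit 4,nat_lit 8,nat_lit 11,nat_lit 10,nat_lit 0,nat_lit 3,nat_lit 6,nat_lit 7,nat_lit 9,nat_lit 0,nat_lit 2,nat_lit 5,nat_lit 0,nat_lit 1,nat_lit 4,nat_lit 8,nat_lit 11,nat_lit 10,nat_lit 0,nat_lit 3,nat_lit 6,nat_lit 7,nat_lit 9,nat_lit 0,nat_lit 2,nat_lit 5,nat_lit 0,nat_lit 1,nat_lit 4,nat_lit 8,nat_lit 11,nat_lit 10,nat_lit 0,nat_lit 3,nat_lit 6,nat_lit 7,nat_lit 9,nat_lit 0,nat_lit 2,nat_lit 5,nat_lit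 0,nat_lit 1,nat_lit 4,nat_lit 8,nat_lit 11,nat_lit 10,nat_lit 0,nat_lit 3,nat_lit 6,nat_lit 7,nat_lit 9,nat_lit 0,nat_lit 2,nat_lit 5,nat_lit 0,nat_lit 1,nat_lit 4,nat_lit 8,nat_lit 11,nat_lit 10,nat_lit 0,nat_lit 3,nat_lit 6,nat_lit 7,nat_lit 9,nat_lit 0,nat_lit 2,nat_lit 5,nat_lit 0,nat_lit 1,nat_lit 4,nat_lit 8,nat_lit 11,nat_lit 10,nat_lit 0,nat_lit 3,nat_lit 6,nat_lit 7,nat_lit 9,nat_lit 0,nat_lit 2,nat_lit 5,nat_lit 0,nat_lit 1,nat_lit 4,nat_lit 8,nat_lit 11,nat_lit 10,nat_lit 0,nat_lit 3,nat_lit 6,nat_lit 7,nat_lit 9,nat_lit 0,nat_lit 2,nat_lit 5,nat_lit 0,nat_lit 1,nat_lit 4,nat_lit 8,nat_lit 11,nat_lit 10,nat_lit 0,nat_lit 3,nat_lit 6,nat_lit 7,nat_lit 9,nat_lit 0,nat_lit 2,nat_lit 5,nat_lit 0,nat_lit 1,nat_lit 4,nat_lit 8,nat_lit 11,nat_lit 10,nat_lit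 0,nat_lit 3,nat_lit 6,nat_lit 7,nat_lit 9,nat_lit 0,nat_lit 2,nat_lit 5,nat_lit 0,nat_lit 1,nat_lit 4,nat_lit 8,nat_lit 11,nat_lit 10,nat_lit 0,nat_lit 3,nat_lit 6,nat_lit 7,nat_lit 9,nat_lit 0,nat_lit 2,nat_lit 5,nat_lit 0,nat_lit 1,nat_lit 4,nat_lit 8,nat_lit 11,nat_lit 10,nat_lit 0,nat_lit 3,nat_lit 6,nat_lit 7,nat_lit 9,nat_lit 0,nat_lit 2,nat_lit 5,nat_lit 0,nat_lit 1,nat_lit 4,nat_lit 8,nat_lit 11,nat_lit 10,nat_lit 0,nat_lit 3,nat_lit 6,nat_lit 7,nat_lit 9,nat_lit 0,nat_lit 2,nat_lit 5,nat_lit 0,nat_lit 1,nat_lit 4,nat_lit 8,nat_lit 11,nat_lit 10,nat_lit 0,nat_lit 3,nat_lit 6,nat_lit 7,nat_lit 9,nat_lit 0,nat_lit 2,nat_lit 5,nat_lit 0,nat_lit 1,nat_lit 4,nat_lit 8,nat_lit 11,nat_lit 10,nat_lit 0,nat_lit 3,nat_lit 6,nat_lit 7,nat_lit 9,nat_lit 0,nat_lit 2,nat_lit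 5,nat_lit 0,nat_lit 1,nat_lit 4,nat_lit 8,nat_lit 11,nat_lit 10,nat_lit 0,nat_lit 3,nat_lit 6,nat_lit 7,nat_lit 9,nat_lit 0,nat_lit 2,nat_lit 5,nat_lit 0,nat_lit 1,nat_lit 4,nat_lit 8,nat_lit 11,nat_lit 10,nat_lit 0,nat_lit 3,nat_lit 6,nat_lit 7,nat_lit 9,nat_lit 0,nat_lit 2,nat_lit 5,nat_lit 0,nat_lit 1,nat_lit 4,nat_lit 8,nat_lit 11,nat_lit 10,nat_lit 0,nat_lit 3,nat_lit 6,nat_lit 7,nat_lit 9,nat_lit 0])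
) (.node (.leaf [nat_lit 38,nat_lit 1,nat_lit 1,nat_lit 2,nat_lit 7,nat_lit 2,nat_lit 7])
 (.leaf [nat_lit 38,nat_lit 1,nat_lit 1,nat_lit 12,nat_lit 2,nat_lit 7,nat_lit 2,nat_lit 7])
))) (.node (.node (.node (.node (.leaf [nat_lit 16,nat_lit 1,nat_lit 1,nat_lit 0,nat_lit 4,nat_lit 0,nat_lit 4])
 (.leaf [nat_lit 8,nat_lit 0,nat_lit 0,nat_lit 12,nat_lit 7,nat_lit 7])
) (.leaf [nat_lit 79,nat_lit 56,nat_lit 0,nat_lit 8,nat_lit 2,nat_lit 6,nat_lit 3,nat_lit 0,nat_lit 1,nat_lit 4,nat_lit 8,nat_lit 10,nat_lit 2,nat_lit 6,nat_lit 3,nat_lit 0,nat_lit 1,nat_lit 4,nat_lit 8,nat_lit 2,nat_lit 6,nat_lit 3,nat_lit 0,nat_lit 1,nat_lit 4,nat_lit 8,nat_lit 2,nat_lit 6,nat_lit 3,nat_lit 0,nat_lit 1,nat_lit 4,nat_lit 8,nat_lit 2,nat_lit 6,nat_lit 3,nat_lit 0,nat_lit 1,nat_lit 4,nat_lit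 8,nat_lit 2,nat_lit 6,nat_lit 3,nat_lit 0,nat_lit 1,nat_lit 4,nat_lit 8,nat_lit 2,nat_lit 6,nat_lit 3,nat_lit 0,nat_lit 1,nat_lit 4,nat_lit 8,nat_lit 2,nat_lit 6,nat_lit 3,nat_lit 0,nat_lit 1,nat_lit 4,nat_lit 8,nat_lit 2,nat_lit 6,nat_lit 3,nat_lit 0,nat_lit 1,nat_lit 4])
) (.node (.leaf [nat_lit 68,nat_lit 2,nat_lit 1,nat_lit 11,nat_lit 6,nat_lit 11,nat_lit 6])
 (.leaf [nat_lit 41,nat_lit 2,nat_lit 1,nat_lit 12,nat_lit 10,nat_lit 2,nat_lit 10,nat_lit 2])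
)) (.node (.node (.leaf [nat_lit 37,nat_lit 2,nat_lit 1,nat_lit 6,nat_lit 2,nat_lit 6,nat_lit 2])
 (.leaf [nat_lit 79,nat_lit 2,nat_lit 0,nat_lit 6,nat_lit 3,nat_lit 0,nat_lit 1,nat_lit 4,nat_lit 8,nat_lit 2,nat_lit 6,nat_lit 3,nat_lit 0,nat_lit 1,nat_lit 4,nat_lit 8,nat_lit 2,nat_lit 6,nat_lit 3,nat_lit 0,nat_lit 1,nat_lit 4,nat_lit 8,nat_lit 2,nat_lit 6,nat_lit 3,nat_lit 0,nat_lit 1,nat_lit 4,nat_lit 8,nat_lit 2,nat_lit 6,nat_lit 3,nat_lit 0,nat_lit 1,nat_lit 4,nat_lit 8,nat_lit 2,nat_lit 6,nat_lit 3,nat_lit 0,nat_lit 1,nat_lit 4,nat_lit 8,nat_lit 2,nat_lit 6,nat_lit 3,nat_lit 0,nat_lit 1,nat_lit 4,nat_lit 8,nat_lit 2,nat_lit 6,nat_lit 3,nat_lit 0,nat_lit 1,nat_lit 4,nat_lit 8,nat_lit 2,nat_lit 6,nat_lit 3,nat_lit 0,nat_lit 1,nat_lit 4,nat_lit 8,nat_lit 10,nat_lit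 2])
) (.node (.leaf [nat_lit 22,nat_lit 2,nat_lit 1,nat_lit 10,nat_lit 0,nat_lit 10,nat_lit 0])
 (.leaf [nat_lit 19,nat_lit 1,nat_lit 1,nat_lit 12,nat_lit 0,nat_lit 7,nat_lit 0,nat_lit 7])
)))))) (.node (.node (.node (.node (.node (.node (.node (.leaf [nat_lit 42,nat_lit 1,nat_lit 1,nat_lit 2,nat_lit 11,nat_lit 2,nat_lit 11])
 (.leaf [nat_lit 21,nat_lit 2,nat_lit 1,nat_lit 12,nat_lit 9,nat_lit 0,nat_lit 9,nat_lit 0])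
) (.leaf [nat_lit 62,nat_lit 2,nat_lit 1,nat_lit 10,nat_lit 5,nat_lit 10,nat_lit 5])
) (.node (.leaf [nat_lit 25,nat_lit 1,nat_lit 1,nat_lit 1,nat_lit 3,nat_lit 1,nat_lit 3])
 (.leaf [nat_lit 79,nat_lit 42,nat_lit 0,nat_lit 8,nat_lit 2,nat_lit 6,nat_lit 3,nat_lit 0,nat_lit 1,nat_lit 4,nat_lit 8,nat_lit 2,nat_lit 6,nat_lit 3,nat_lit 0,nat_lit 1,nat_lit 4,nat_lit 8,nat_lit 2,nat_lit 6,nat_lit 3,nat_lit 0,nat_lit 1,nat_lit 4,nat_lit 8,nat_lit 10,nat_lit 2,nat_lit 6,nat_lit 3,nat_lit 0,nat_lit 1,nat_lit 4,nat_lit 8,nat_lit 2,nat_lit 6,nat_lit 3,nat_lit 0,nat_lit 1,nat_lit 4,nat_lit 8,nat_lit 2,nat_lit 6,nat_lit 3,nat_lit 0,nat_lit 1,nat_lit 4,nat_lit 8,nat_lit 2,nat_lit 6,nat_lit 3,nat_lit 0,nat_lit 1,nat_lit 4,nat_lit 8,nat_lit 2,nat_lit 6,nat_lit 3,nat_lit 0,nat_lit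 1,nat_lit 4,nat_lit 8,nat_lit 2,nat_lit 6,nat_lit 3,nat_lit 0,nat_lit 1,nat_lit 4])
)) (.node (.node (.node (.leaf [nat_lit 54,nat_lit 4,nat_lit 1,nat_lit 8,nat_lit 4,nat_lit 8,nat_lit 4,nat_lit 8,nat_lit 4])
 (.leaf [nat_lit 57,nat_lit 1,nat_lit 1,nat_lit 12,nat_lit 4,nat_lit 11,nat_lit 4,nat_lit 11])
) (.leaf [nat_lit 79,nat_lit 1,nat_lit 0,nat_lit 2,nat_lit 6,nat_lit 3,nat_lit 0,nat_lit 1,nat_lit 4,nat_lit 8,nat_lit 2,nat_lit 6,nat_lit 3,nat_lit 0,nat_lit 1,nat_lit 4,nat_lit 8,nat_lit 2,nat_lit 6,nat_lit 3,nat_lit 0,nat_lit 1,nat_lit 4,nat_lit 8,nat_lit 2,nat_lit 6,nat_lit 3,nat_lit 0,nat_lit 1,nat_lit 4,nat_lit 8,nat_lit 2,nat_lit 6,nat_lit 3,nat_lit 0,nat_lit 1,nat_lit 4,nat_lit 8,nat_lit 2,nat_lit 6,nat_lit 3,nat_lit 0,nat_lit 1,nat_lit 4,nat_lit 8,nat_lit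 2,nat_lit 6,nat_lit 3,nat_lit 0,nat_lit 1,nat_lit 4,nat_lit 8,nat_lit 2,nat_lit 6,nat_lit 3,nat_lit 0,nat_lit 1,nat_lit 4,nat_lit 8,nat_lit 2,nat_lit 6,nat_lit 3,nat_lit 0,nat_lit 1,nat_lit 4,nat_lit 8,nat_lit 10])
) (.node (.leaf [nat_lit 29,nat_lit 1,nat_lit 1,nat_lit 1,nat_lit 7,nat_lit 1,nat_lit 7])
 (.leaf [nat_lit 37,nat_lit 1,nat_lit 1,nat_lit 12,nat_lit 2,nat_lit 6,nat_lit 2,nat_lit 6])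
))) (.node (.node (.node (.node (.leaf [nat_lit 22,nat_lit 1,nat_lit 1,nat_lit 0,nat_lit 10,nat_lit 0,nat_lit 10])
 (.leaf [nat_lit 61,nat_lit 1,nat_lit 1,nat_lit 12,nat_lit 5,nat_lit 9,nat_lit 5,nat_lit 9])
) (.leaf [nat_lit 79,nat_lit 14,nat_lit 1,nat_lit 8,nat_lit 4,nat_lit 1,nat_lit 0,nat_lit 3,nat_lit 6,nat_lit 2,nat_lit 8,nat_lit 4,nat_lit 1,nat_lit 0,nat_lit 3,nat_lit 6,nat_lit 2,nat_lit 8,nat_lit 4,nat_lit 1,nat_lit 0,nat_lit 3,nat_lit 6,nat_lit 2,nat_lit 8,nat_lit 4,nat_lit 1,nat_lit 0,nat_lit 3,nat_lit 6,nat_lit 2,nat_lit 8,nat_lit 4,nat_lit 1,nat_lit 0,nat_lit 3,nat_lit 6,nat_lit 2,nat_lit 8,nat_lit 4,nat_lit 1,nat_lit 0,nat_lit 3,nat_lit 6,nat_lit 2,nat_lit 8,nat_lit 4,nat_lit 1,nat_lit 0,nat_lit 3,nat_lit 6,nat_lit 2,nat_lit 10,nat_lit 8,nat_lit 4,nat_lit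 1,nat_lit 0,nat_lit 3,nat_lit 6,nat_lit 2,nat_lit 8,nat_lit 4,nat_lit 1,nat_lit 0,nat_lit 3,nat_lit 6,nat_lit 2])
) (.node (.leaf [nat_lit 60,nat_lit 2,nat_lit 1,nat_lit 8,nat_lit 5,nat_lit 8,nat_lit 5])
 (.leaf [nat_lit 53,nat_lit 2,nat_lit 1,nat_lit 12,nat_lit 7,nat_lit 4,nat_lit 7,nat_lit 4])
)) (.node (.node (.leaf [nat_lit 16,nat_lit 2,nat_lit 1,nat_lit 4,nat_lit 0,nat_lit 4,nat_lit 0])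
 (.leaf [nat_lit 79,nat_lit 28,nat_lit 1,nat_lit 8,nat_lit 4,nat_lit 1,nat_lit 0,nat_lit 3,nat_lit 6,nat_lit 2,nat_lit 8,nat_lit 4,nat_lit 1,nat_lit 0,nat_lit 3,nat_lit 6,nat_lit 2,nat_lit 8,nat_lit 4,nat_lit 1,nat_lit 0,nat_lit 3,nat_lit 6,nat_lit 2,nat_lit 8,nat_lit 4,nat_lit 1,nat_lit 0,nat_lit 3,nat_lit 6,nat_lit 2,nat_lit 8,nat_lit 4,nat_lit 1,nat_lit 0,nat_lit 3,nat_lit 6,nat_lit 2,nat_lit 10,nat_lit 8,nat_lit 4,nat_lit 1,nat_lit 0,nat_lit 3,nat_lit 6,nat_lit 2,nat_lit 8,nat_lit 4,nat_lit 1,nat_lit 0,nat_lit 3,nat_lit 6,nat_lit 2,nat_lit 8,nat_lit 4,nat_lit 1,nat_lit 0,nat_lit 3,nat_lit 6,nat_lit 2,nat_lit 8,nat_lit 4,nat_lit 1,nat_lit 0,nat_lit 3,nat_lit 6,nat_lit 2])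
) (.node (.leaf [nat_lit 66,nat_lit 1,nat_lit 1,nat_lit 6,nat_lit 9,nat_lit 6,nat_lit 9])
 (.leaf [nat_lit 43,nat_lit 3,nat_lit 1,nat_lit 12,nat_lit 3,nat_lit 4,nat_lit 3,nat_lit 4])
)))) (.node (.node (.node (.node (.node (.leaf [nat_lit 30,nat_lit 1,nat_lit 1,nat_lit 1,nat_lit 8,nat_lit 1,nat_lit 8])
 (.leaf [nat_lit 70,nat_lit 3,nat_lit 1,nat_lit 12,nat_lit 7,nat_lit 9,nat_lit 7,nat_lit 9,nat_lit 7,nat_lit 9])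
) (.leaf [nat_lit 79,nat_lit 61,nat_lit 0,nat_lit 1,nat_lit 4,nat_lit 8,nat_lit 10,nat_lit 2,nat_lit 6,nat_lit 3,nat_lit 0,nat_lit 1,nat_lit 4,nat_lit 8,nat_lit 2,nat_lit 6,nat_lit 3,nat_lit 0,nat_lit 1,nat_lit 4,nat_lit 8,nat_lit 2,nat_lit 6,nat_lit 3,nat_lit 0,nat_lit 1,nat_lit 4,nat_lit 8,nat_lit 2,nat_lit 6,nat_lit 3,nat_lit 0,nat_lit 1,nat_lit 4,nat_lit 8,nat_lit 2,nat_lit 6,nat_lit 3,nat_lit 0,nat_lit 1,nat_lit 4,nat_lit 8,nat_lit 2,nat_lit 6,nat_lit 3,nat_lit 0,nat_lit 1,nat_lit 4,nat_lit 8,nat_lit 2,nat_lit 6,nat_lit 3,nat_lit 0,nat_lit 1,nat_lit 4,nat_lit 8,nat_lit 2,nat_lit 6,nat_lit 3,nat_lit 0,nat_lit 1,nat_lit 4,nat_lit 8,nat_lit 2,nat_lit 6,nat_lit 3,nat_lit 0])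
) (.node (.leaf [nat_lit 74,nat_lit 2,nat_lit 1,nat_lit 10,nat_lit 8,nat_lit 10,nat_lit 8])
 (.leaf [nat_lit 32,nat_lit 1,nat_lit 1,nat_lit 12,nat_lit 1,nat_lit 10,nat_lit 1,nat_lit 10])
)) (.node (.node (.leaf [nat_lit 28,nat_lit 2,nat_lit 1,nat_lit 6,nat_lit 1,nat_lit 6,nat_lit 1])
 (.leaf [nat_lit 80,nat_lit 233,nat_lit 1,nat_lit 11,nat_lit 8,nat_lit 4,nat_lit 1,nat_lit 0,nat_lit 5,nat_lit 2,nat_lit 0,nat_lit 9,nat_lit 7,nat_lit 6,nat_lit 3,nat_lit 0,nat_lit 10,nat_lit 11,nat_lit 8,nat_lit 4,nat_lit 1,nat_lit 0,nat_lit 5,nat_lit 2,nat_lit 0,nat_lit 9,nat_lit 7,nat_lit 6,nat_lit 3,nat_lit 0,nat_lit 10,nat_lit 11,nat_lit 8,nat_lit 4,nat_lit 1,nat_lit 0,nat_lit 5,nat_lit 2,nat_lit 0,nat_lit 9,nat_lit 7,nat_lit 6,nat_lit 3,nat_lit 0,nat_lit 10,nat_lit 11,nat_lit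 8,nat_lit 4,nat_lit 1,nat_lit 0,nat_lit 5,nat_lit 2,nat_lit 0,nat_lit 9,nat_lit 7,nat_lit 6,nat_lit 3,nat_lit 0,nat_lit 10,nat_lit 11,nat_lit 8,nat_lit 4,nat_lit 1,nat_lit 0,nat_lit 5,nat_lit 2,nat_lit 0,nat_lit 9,nat_lit 7,nat_lit 6,nat_lit 3,nat_lit 0,nat_lit 10,nat_lit 11,nat_lit 8,nat_lit 4,nat_lit 1,nat_lit 0,nat_lit 5,nat_lit 2,nat_lit 0,nat_lit 9,nat_lit 7,nat_lit 6,nat_lit 3,nat_lit 0,nat_lit 10,nat_lit 11,nat_lit 8,nat_lit 4,nat_lit 1,nat_lit 0,nat_lit 5,nat_lit 2,nat_lit 0,nat_lit 9,nat_lit 7,nat_lit 6,nat_lit 3,nat_lit 0,nat_lit 10,nat_lit 11,nat_lit 8,nat_lit 4,nat_lit 1,nat_lit 0,nat_lit 5,nat_lit 2,nat_lit 0,nat_lit 9,nat_lit 7,nat_lit 6,nat_lit 3,nat_lit 0,nat_lit 10,nat_lit 11,nat_lit 8,nat_lit 4,nat_lit 1,nat_lit 0,nat_lit 5,nat_lit 2,nat_lit 0,nat_lit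 9,nat_lit 7,nat_lit 6,nat_lit 3,nat_lit 0,nat_lit 10,nat_lit 11,nat_lit 8,nat_lit 4,nat_lit 1,nat_lit 0,nat_lit 5,nat_lit 2,nat_lit 0,nat_lit 9,nat_lit 7,nat_lit 6,nat_lit 3,nat_lit 0,nat_lit 10,nat_lit 11,nat_lit 8,nat_lit 4,nat_lit 1,nat_lit 0,nat_lit 5,nat_lit 2,nat_lit 0,nat_lit 9,nat_lit 7,nat_lit 6,nat_lit 3,nat_lit 0,nat_lit 10,nat_lit 11,nat_lit 8,nat_lit 4,nat_lit 1,nat_lit 0,nat_lit 5,nat_lit 2,nat_lit 0,nat_lit 9,nat_lit 7,nat_lit 6,nat_lit 3,nat_lit 0,nat_lit 10,nat_lit 11,nat_lit 8,nat_lit 4,nat_lit 1,nat_lit 0,nat_lit 5,nat_lit 2,nat_lit 0,nat_lit 9,nat_lit 7,nat_lit 6,nat_lit 3,nat_lit 0,nat_lit 10,nat_lit 11,nat_lit 8,nat_lit 4,nat_lit 1,nat_lit 0,nat_lit 5,nat_lit 2,nat_lit 0,nat_lit 9,nat_lit 7,nat_lit 6,nat_lit 3,nat_lit 0,nat_lit 10,nat_lit 11,nat_lit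 8,nat_lit 4,nat_lit 1,nat_lit 0,nat_lit 5,nat_lit 2,nat_lit 0,nat_lit 9,nat_lit 7,nat_lit 6,nat_lit 3,nat_lit 0,nat_lit 10,nat_lit 11,nat_lit 8,nat_lit 4,nat_lit 1,nat_lit 0,nat_lit 5,nat_lit 2,nat_lit 0,nat_lit 9,nat_lit 7,nat_lit 6,nat_lit 3,nat_lit 0,nat_lit 10,nat_lit 11,nat_lit 8,nat_lit 4,nat_lit 1,nat_lit 0,nat_lit 5,nat_lit 2,nat_lit 0,nat_lit 9,nat_lit 7,nat_lit 6,nat_lit 3,nat_lit 0,nat_lit 10])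
) (.node (.leaf [nat_lit 56,nat_lit 2,nat_lit 1,nat_lit 10,nat_lit 4,nat_lit 10,nat_lit 4])
 (.leaf [nat_lit 32,nat_lit 2,nat_lit 1,nat_lit 12,nat_lit 10,nat_lit 1,nat_lit 10,nat_lit 1])
))) (.node (.node (.node (.node (.leaf [nat_lit 76,nat_lit 1,nat_lit 1,nat_lit 9,nat_lit 10,nat_lit 9,nat_lit 10])
 (.leaf [nat_lit 7,nat_lit 0,nat_lit 0,nat_lit 12,nat_lit 6,nat_lit 6])
) (.leaf [nat_lit 79,nat_lit 7,nat_lit 0,nat_lit 8,nat_lit 2,nat_lit 6,nat_lit 3,nat_lit 0,nat_lit 1,nat_lit 4,nat_lit 8,nat_lit 2,nat_lit 6,nat_lit 3,nat_lit 0,nat_lit 1,nat_lit 4,nat_lit 8,nat_lit 2,nat_lit 6,nat_lit 3,nat_lit 0,nat_lit 1,nat_lit 4,nat_lit 8,nat_lit 2,nat_lit 6,nat_lit 3,nat_lit 0,nat_lit 1,nat_lit 4,nat_lit 8,nat_lit 2,nat_lit 6,nat_lit 3,nat_lit 0,nat_lit 1,nat_lit 4,nat_lit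 8,nat_lit 2,nat_lit 6,nat_lit 3,nat_lit 0,nat_lit 1,nat_lit 4,nat_lit 8,nat_lit 2,nat_lit 6,nat_lit 3,nat_lit 0,nat_lit 1,nat_lit 4,nat_lit 8,nat_lit 2,nat_lit 6,nat_lit 3,nat_lit 0,nat_lit 1,nat_lit 4,nat_lit 8,nat_lit 10,nat_lit 2,nat_lit 6,nat_lit 3,nat_lit 0,nat_lit 1,nat_lit 4])
) (.node (.leaf [nat_lit 65,nat_lit 2,nat_lit 1,nat_lit 8,nat_lit 6,nat_lit 8,nat_lit 6])
 (.leaf [nat_lit 62,nat_lit 2,nat_lit 1,nat_lit 12,nat_lit 10,nat_lit 5,nat_lit 10,nat_lit 5])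
)) (.node (.node (.leaf [nat_lit 24,nat_lit 1,nat_lit 1,nat_lit 1,nat_lit 2,nat_lit 1,nat_lit 2])
 (.leaf [nat_lit 79,nat_lit 53,nat_lit 1,nat_lit 3,nat_lit 6,nat_lit 2,nat_lit 8,nat_lit 4,nat_lit 1,nat_lit 0,nat_lit 3,nat_lit 6,nat_lit 2,nat_lit 10,nat_lit 8,nat_lit 4,nat_lit 1,nat_lit 0,nat_lit 3,nat_lit 6,nat_lit 2,nat_lit 8,nat_lit 4,nat_lit 1,nat_lit 0,nat_lit 3,nat_lit 6,nat_lit 2,nat_lit 8,nat_lit 4,nat_lit 1,nat_lit 0,nat_lit 3,nat_lit 6,nat_lit 2,nat_lit 8,nat_lit 4,nat_lit 1,nat_lit 0,nat_lit 3,nat_lit 6,nat_lit 2,nat_lit 8,nat_lit 4,nat_lit 1,nat_lit 0,nat_lit 3,nat_lit 6,nat_lit 2,nat_lit 8,nat_lit 4,nat_lit 1,nat_lit 0,nat_lit 3,nat_lit 6,nat_lit 2,nat_lit 8,nat_lit 4,nat_lit 1,nat_lit 0,nat_lit 3,nat_lit 6,nat_lit 2,nat_lit 8,nat_lit 4,nat_lit 1,nat_lit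 0])
) (.node (.leaf [nat_lit 32,nat_lit 2,nat_lit 1,nat_lit 10,nat_lit 1,nat_lit 10,nat_lit 1])
 (.leaf [nat_lit 45,nat_lit 1,nat_lit 1,nat_lit 12,nat_lit 3,nat_lit 6,nat_lit 3,nat_lit 6,nat_lit 3,nat_lit 6])
))))) (.node (.node (.node (.node (.node (.node (.leaf [nat_lit 68,nat_lit 1,nat_lit 1,nat_lit 6,nat_lit 11,nat_lit 6,nat_lit 11])
 (.leaf [nat_lit 66,nat_lit 2,nat_lit 1,nat_lit 12,nat_lit 9,nat_lit 6,nat_lit 9,nat_lit 6])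
) (.leaf [nat_lit 67,nat_lit 2,nat_lit 1,nat_lit 10,nat_lit 6,nat_lit 10,nat_lit 6])
) (.node (.leaf [nat_lit 47,nat_lit 2,nat_lit 1,nat_lit 8,nat_lit 3,nat_lit 8,nat_lit 3])
 (.leaf [nat_lit 80,nat_lit 231,nat_lit 1,nat_lit 0,nat_lit 10,nat_lit 11,nat_lit 8,nat_lit 4,nat_lit 1,nat_lit 0,nat_lit 5,nat_lit 2,nat_lit 0,nat_lit 9,nat_lit 7,nat_lit 6,nat_lit 3,nat_lit 0,nat_lit 10,nat_lit 11,nat_lit 8,nat_lit 4,nat_lit 1,nat_lit 0,nat_lit 5,nat_lit 2,nat_lit 0,nat_lit 9,nat_lit 7,nat_lit 6,nat_lit 3,nat_lit 0,nat_lit 10,nat_lit 11,nat_lit 8,nat_lit 4,nat_lit 1,nat_lit 0,nat_lit 5,nat_lit 2,nat_lit 0,nat_lit 9,nat_lit 7,nat_lit 6,nat_lit 3,nat_lit 0,nat_lit 10,nat_lit 11,nat_lit 8,nat_lit 4,nat_lit 1,nat_lit 0,nat_lit 5,nat_lit 2,nat_lit 0,nat_lit 9,nat_lit 7,nat_lit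 6,nat_lit 3,nat_lit 0,nat_lit 10,nat_lit 11,nat_lit 8,nat_lit 4,nat_lit 1,nat_lit 0,nat_lit 5,nat_lit 2,nat_lit 0,nat_lit 9,nat_lit 7,nat_lit 6,nat_lit 3,nat_lit 0,nat_lit 10,nat_lit 11,nat_lit 8,nat_lit 4,nat_lit 1,nat_lit 0,nat_lit 5,nat_lit 2,nat_lit 0,nat_lit 9,nat_lit 7,nat_lit 6,nat_lit 3,nat_lit 0,nat_lit 10,nat_lit 11,nat_lit 8,nat_lit 4,nat_lit 1,nat_lit 0,nat_lit 5,nat_lit 2,nat_lit 0,nat_lit 9,nat_lit 7,nat_lit 6,nat_lit 3,nat_lit 0,nat_lit 10,nat_lit 11,nat_lit 8,nat_lit 4,nat_lit 1,nat_lit 0,nat_lit 5,nat_lit 2,nat_lit 0,nat_lit 9,nat_lit 7,nat_lit 6,nat_lit 3,nat_lit 0,nat_lit 10,nat_lit 11,nat_lit 8,nat_lit 4,nat_lit 1,nat_lit 0,nat_lit 5,nat_lit 2,nat_lit 0,nat_lit 9,nat_lit 7,nat_lit 6,nat_lit 3,nat_lit 0,nat_lit 10,nat_lit 11,nat_lit 8,nat_lit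 4,nat_lit 1,nat_lit 0,nat_lit 5,nat_lit 2,nat_lit 0,nat_lit 9,nat_lit 7,nat_lit 6,nat_lit 3,nat_lit 0,nat_lit 10,nat_lit 11,nat_lit 8,nat_lit 4,nat_lit 1,nat_lit 0,nat_lit 5,nat_lit 2,nat_lit 0,nat_lit 9,nat_lit 7,nat_lit 6,nat_lit 3,nat_lit 0,nat_lit 10,nat_lit 11,nat_lit 8,nat_lit 4,nat_lit 1,nat_lit 0,nat_lit 5,nat_lit 2,nat_lit 0,nat_lit 9,nat_lit 7,nat_lit 6,nat_lit 3,nat_lit 0,nat_lit 10,nat_lit 11,nat_lit 8,nat_lit 4,nat_lit 1,nat_lit 0,nat_lit 5,nat_lit 2,nat_lit 0,nat_lit 9,nat_lit 7,nat_lit 6,nat_lit 3,nat_lit 0,nat_lit 10,nat_lit 11,nat_lit 8,nat_lit 4,nat_lit 1,nat_lit 0,nat_lit 5,nat_lit 2,nat_lit 0,nat_lit 9,nat_lit 7,nat_lit 6,nat_lit 3,nat_lit 0,nat_lit 10,nat_lit 11,nat_lit 8,nat_lit 4,nat_lit 1,nat_lit 0,nat_lit 5,nat_lit 2,nat_lit 0,nat_lit 9,nat_lit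 7,nat_lit 6,nat_lit 3,nat_lit 0,nat_lit 10,nat_lit 11,nat_lit 8,nat_lit 4,nat_lit 1,nat_lit 0,nat_lit 5,nat_lit 2,nat_lit 0,nat_lit 9,nat_lit 7,nat_lit 6,nat_lit 3,nat_lit 0,nat_lit 10,nat_lit 11,nat_lit 8,nat_lit 4,nat_lit 1,nat_lit 0,nat_lit 5,nat_lit 2,nat_lit 0,nat_lit 9,nat_lit 7,nat_lit 6,nat_lit 3])
)) (.node (.node (.node (.leaf [nat_lit 24,nat_lit 2,nat_lit 1,nat_lit 2,nat_lit 1,nat_lit 2,nat_lit 1])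
 (.leaf [nat_lit 6,nat_lit 0,nat_lit 0,nat_lit 12,nat_lit 5,nat_lit 5])
) (.leaf [nat_lit 80,nat_lit 229,nat_lit 0,nat_lit 10,nat_lit 0,nat_lit 3,nat_lit 6,nat_lit 7,nat_lit 9,nat_lit 0,nat_lit 2,nat_lit 5,nat_lit 0,nat_lit 1,nat_lit 4,nat_lit 8,nat_lit 11,nat_lit 10,nat_lit 0,nat_lit 3,nat_lit 6,nat_lit 7,nat_lit 9,nat_lit 0,nat_lit 2,nat_lit 5,nat_lit 0,nat_lit 1,nat_lit 4,nat_lit 8,nat_lit 11,nat_lit 10,nat_lit 0,nat_lit 3,nat_lit 6,nat_lit 7,nat_lit 9,nat_lit 0,nat_lit 2,nat_lit 5,nat_lit 0,nat_lit 1,nat_lit 4,nat_lit 8,nat_lit 11,nat_lit 10,nat_lit 0,nat_lit 3,nat_lit 6,nat_lit 7,nat_lit 9,nat_lit 0,nat_lit 2,nat_lit 5,nat_lit 0,nat_lit 1,nat_lit 4,nat_lit 8,nat_lit 11,nat_lit 10,nat_lit 0,nat_lit 3,nat_lit 6,nat_lit 7,nat_lit 9,nat_lit 0,nat_lit 2,nat_lit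 5,nat_lit 0,nat_lit 1,nat_lit 4,nat_lit 8,nat_lit 11,nat_lit 10,nat_lit 0,nat_lit 3,nat_lit 6,nat_lit 7,nat_lit 9,nat_lit 0,nat_lit 2,nat_lit 5,nat_lit 0,nat_lit 1,nat_lit 4,nat_lit 8,nat_lit 11,nat_lit 10,nat_lit 0,nat_lit 3,nat_lit 6,nat_lit 7,nat_lit 9,nat_lit 0,nat_lit 2,nat_lit 5,nat_lit 0,nat_lit 1,nat_lit 4,nat_lit 8,nat_lit 11,nat_lit 10,nat_lit 0,nat_lit 3,nat_lit 6,nat_lit 7,nat_lit 9,nat_lit 0,nat_lit 2,nat_lit 5,nat_lit 0,nat_lit 1,nat_lit 4,nat_lit 8,nat_lit 11,nat_lit 10,nat_lit 0,nat_lit 3,nat_lit 6,nat_lit 7,nat_lit 9,nat_lit 0,nat_lit 2,nat_lit 5,nat_lit 0,nat_lit 1,nat_lit 4,nat_lit 8,nat_lit 11,nat_lit 10,nat_lit 0,nat_lit 3,nat_lit 6,nat_lit 7,nat_lit 9,nat_lit 0,nat_lit 2,nat_lit 5,nat_lit 0,nat_lit 1,nat_lit 4,nat_lit 8,nat_lit 11,nat_lit 10,nat_lit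 0,nat_lit 3,nat_lit 6,nat_lit 7,nat_lit 9,nat_lit 0,nat_lit 2,nat_lit 5,nat_lit 0,nat_lit 1,nat_lit 4,nat_lit 8,nat_lit 11,nat_lit 10,nat_lit 0,nat_lit 3,nat_lit 6,nat_lit 7,nat_lit 9,nat_lit 0,nat_lit 2,nat_lit 5,nat_lit 0,nat_lit 1,nat_lit 4,nat_lit 8,nat_lit 11,nat_lit 10,nat_lit 0,nat_lit 3,nat_lit 6,nat_lit 7,nat_lit 9,nat_lit 0,nat_lit 2,nat_lit 5,nat_lit 0,nat_lit 1,nat_lit 4,nat_lit 8,nat_lit 11,nat_lit 10,nat_lit 0,nat_lit 3,nat_lit 6,nat_lit 7,nat_lit 9,nat_lit 0,nat_lit 2,nat_lit 5,nat_lit 0,nat_lit 1,nat_lit 4,nat_lit 8,nat_lit 11,nat_lit 10,nat_lit 0,nat_lit 3,nat_lit 6,nat_lit 7,nat_lit 9,nat_lit 0,nat_lit 2,nat_lit 5,nat_lit 0,nat_lit 1,nat_lit 4,nat_lit 8,nat_lit 11,nat_lit 10,nat_lit 0,nat_lit 3,nat_lit 6,nat_lit 7,nat_lit 9,nat_lit 0,nat_lit 2,nat_lit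 5,nat_lit 0,nat_lit 1,nat_lit 4,nat_lit 8,nat_lit 11,nat_lit 10,nat_lit 0,nat_lit 3,nat_lit 6,nat_lit 7,nat_lit 9,nat_lit 0,nat_lit 2,nat_lit 5,nat_lit 0,nat_lit 1,nat_lit 4,nat_lit 8,nat_lit 11])
) (.node (.leaf [nat_lit 64,nat_lit 3,nat_lit 1,nat_lit 6,nat_lit 7,nat_lit 6,nat_lit 7,nat_lit 6,nat_lit 7])
 (.leaf [nat_lit 30,nat_lit 1,nat_lit 1,nat_lit 12,nat_lit 1,nat_lit 8,nat_lit 1,nat_lit 8])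
))) (.node (.node (.node (.node (.leaf [nat_lit 56,nat_lit 1,nat_lit 1,nat_lit 4,nat_lit 10,nat_lit 4,nat_lit 10])
 (.leaf [nat_lit 79,nat_lit 60,nat_lit 1,nat_lit 12,nat_lit 3,nat_lit 6,nat_lit 2,nat_lit 10,nat_lit 8,nat_lit 4,nat_lit 1,nat_lit 0,nat_lit 3,nat_lit 6,nat_lit 2,nat_lit 8,nat_lit 4,nat_lit 1,nat_lit 0,nat_lit 3,nat_lit 6,nat_lit 2,nat_lit 8,nat_lit 4,nat_lit 1,nat_lit 0,nat_lit 3,nat_lit 6,nat_lit 2,nat_lit 8,nat_lit 4,nat_lit 1,nat_lit 0,nat_lit 3,nat_lit 6,nat_lit 2,nat_lit 8,nat_lit 4,nat_lit 1,nat_lit 0,nat_lit 3,nat_lit 6,nat_lit 2,nat_lit 8,nat_lit 4,nat_lit 1,nat_lit 0,nat_lit 3,nat_lit 6,nat_lit 2,nat_lit 8,nat_lit 4,nat_lit 1,nat_lit 0,nat_lit 3,nat_lit 6,nat_lit 2,nat_lit 8,nat_lit 4,nat_lit 1,nat_lit 0,nat_lit 3,nat_lit 6,nat_lit 2,nat_lit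 8,nat_lit 4,nat_lit 1,nat_lit 0])
) (.leaf [nat_lit 79,nat_lit 3,nat_lit 0,nat_lit 3,nat_lit 0,nat_lit 1,nat_lit 4,nat_lit 8,nat_lit 2,nat_lit 6,nat_lit 3,nat_lit 0,nat_lit 1,nat_lit 4,nat_lit 8,nat_lit 2,nat_lit 6,nat_lit 3,nat_lit 0,nat_lit 1,nat_lit 4,nat_lit 8,nat_lit 2,nat_lit 6,nat_lit 3,nat_lit 0,nat_lit 1,nat_lit 4,nat_lit 8,nat_lit 2,nat_lit 6,nat_lit 3,nat_lit 0,nat_lit 1,nat_lit 4,nat_lit 8,nat_lit 2,nat_lit 6,nat_lit 3,nat_lit 0,nat_lit 1,nat_lit 4,nat_lit 8,nat_lit 2,nat_lit 6,nat_lit 3,nat_lit 0,nat_lit 1,nat_lit 4,nat_lit 8,nat_lit 2,nat_lit 6,nat_lit 3,nat_lit 0,nat_lit 1,nat_lit 4,nat_lit 8,nat_lit 2,nat_lit 6,nat_lit 3,nat_lit 0,nat_lit 1,nat_lit 4,nat_lit 8,nat_lit 10,nat_lit 2,nat_lit 6])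
) (.node (.leaf [nat_lit 28,nat_lit 1,nat_lit 1,nat_lit 1,nat_lit 6,nat_lit 1,nat_lit 6])
 (.leaf [nat_lit 21,nat_lit 1,nat_lit 1,nat_lit 12,nat_lit 0,nat_lit 9,nat_lit 0,nat_lit 9])
)) (.node (.node (.leaf [nat_lit 20,nat_lit 2,nat_lit 1,nat_lit 8,nat_lit 0,nat_lit 8,nat_lit 0])
 (.leaf [nat_lit 79,nat_lit 27,nat_lit 0,nat_lit 4,nat_lit 8,nat_lit 2,nat_lit 6,nat_lit 3,nat_lit 0,nat_lit 1,nat_lit 4,nat_lit 8,nat_lit 2,nat_lit 6,nat_lit 3,nat_lit 0,nat_lit 1,nat_lit 4,nat_lit 8,nat_lit 2,nat_lit 6,nat_lit 3,nat_lit 0,nat_lit 1,nat_lit 4,nat_lit 8,nat_lit 2,nat_lit 6,nat_lit 3,nat_lit 0,nat_lit 1,nat_lit 4,nat_lit 8,nat_lit 2,nat_lit 6,nat_lit 3,nat_lit 0,nat_lit 1,nat_lit 4,nat_lit 8,nat_lit 10,nat_lit 2,nat_lit 6,nat_lit 3,nat_lit 0,nat_lit 1,nat_lit 4,nat_lit 8,nat_lit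 2,nat_lit 6,nat_lit 3,nat_lit 0,nat_lit 1,nat_lit 4,nat_lit 8,nat_lit 2,nat_lit 6,nat_lit 3,nat_lit 0,nat_lit 1,nat_lit 4,nat_lit 8,nat_lit 2,nat_lit 6,nat_lit 3,nat_lit 0,nat_lit 1])
) (.node (.leaf [nat_lit 34,nat_lit 2,nat_lit 1,nat_lit 3,nat_lit 2,nat_lit 3,nat_lit 2])
 (.leaf [nat_lit 53,nat_lit 1,nat_lit 1,nat_lit 12,nat_lit 4,nat_lit 7,nat_lit 4,nat_lit 7])
)))) (.node (.node (.node (.node (.node (.leaf [nat_lit 65,nat_lit 1,nat_lit 1,nat_lit 6,nat_lit 8,nat_lit 6,nat_lit 8])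
 (.leaf [nat_lit 38,nat_lit 2,nat_lit 1,nat_lit 12,nat_lit 7,nat_lit 2,nat_lit 7,nat_lit 2])
) (.leaf [nat_lit 79,nat_lit 58,nat_lit 1,nat_lit 1,nat_lit 0,nat_lit 3,nat_lit 6,nat_lit 2,nat_lit 10,nat_lit 8,nat_lit 4,nat_lit 1,nat_lit 0,nat_lit 3,nat_lit 6,nat_lit 2,nat_lit 8,nat_lit 4,nat_lit 1,nat_lit 0,nat_lit 3,nat_lit 6,nat_lit 2,nat_lit 8,nat_lit 4,nat_lit 1,nat_lit 0,nat_lit 3,nat_lit 6,nat_lit 2,nat_lit 8,nat_lit 4,nat_lit 1,nat_lit 0,nat_lit 3,nat_lit 6,nat_lit 2,nat_lit 8,nat_lit 4,nat_lit 1,nat_lit 0,nat_lit 3,nat_lit 6,nat_lit 2,nat_lit 8,nat_lit 4,nat_lit 1,nat_lit 0,nat_lit 3,nat_lit 6,nat_lit 2,nat_lit 8,nat_lit 4,nat_lit 1,nat_lit 0,nat_lit 3,nat_lit 6,nat_lit 2,nat_lit 8,nat_lit 4,nat_lit 1,nat_lit 0,nat_lit 3,nat_lit 6,nat_lit 2,nat_lit 8,nat_lit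 4])
) (.node (.leaf [nat_lit 36,nat_lit 3,nat_lit 1,nat_lit 2,nat_lit 5,nat_lit 2,nat_lit 5,nat_lit 2,nat_lit 5])
 (.leaf [nat_lit 51,nat_lit 0,nat_lit 1,nat_lit 12,nat_lit 5,nat_lit 4,nat_lit 5,nat_lit 4])
)) (.node (.node (.leaf [nat_lit 33,nat_lit 2,nat_lit 1,nat_lit 11,nat_lit 1,nat_lit 11,nat_lit 1])
 (.leaf [nat_lit 79,nat_lit 17,nat_lit 0,nat_lit 3,nat_lit 0,nat_lit 1,nat_lit 4,nat_lit 8,nat_lit 2,nat_lit 6,nat_lit 3,nat_lit 0,nat_lit 1,nat_lit 4,nat_lit 8,nat_lit 2,nat_lit 6,nat_lit 3,nat_lit 0,nat_lit 1,nat_lit 4,nat_lit 8,nat_lit 2,nat_lit 6,nat_lit 3,nat_lit 0,nat_lit 1,nat_lit 4,nat_lit 8,nat_lit 2,nat_lit 6,nat_lit 3,nat_lit 0,nat_lit 1,nat_lit 4,nat_lit 8,nat_lit 2,nat_lit 6,nat_lit 3,nat_lit 0,nat_lit 1,nat_lit 4,nat_lit 8,nat_lit 2,nat_lit 6,nat_lit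 3,nat_lit 0,nat_lit 1,nat_lit 4,nat_lit 8,nat_lit 10,nat_lit 2,nat_lit 6,nat_lit 3,nat_lit 0,nat_lit 1,nat_lit 4,nat_lit 8,nat_lit 2,nat_lit 6,nat_lit 3,nat_lit 0,nat_lit 1,nat_lit 4,nat_lit 8,nat_lit 2,nat_lit 6])
) (.node (.leaf [nat_lit 31,nat_lit 1,nat_lit 1,nat_lit 1,nat_lit 9,nat_lit 1,nat_lit 9])
 (.leaf [nat_lit 13,nat_lit 4,nat_lit 1,nat_lit 12,nat_lit 1,nat_lit 0,nat_lit 1,nat_lit 0,nat_lit 1,nat_lit 0])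
))) (.node (.node (.node (.node (.leaf [nat_lit 43,nat_lit 1,nat_lit 1,nat_lit 3,nat_lit 4,nat_lit 3,nat_lit 4])
 (.leaf [nat_lit 11,nat_lit 0,nat_lit 0,nat_lit 12,nat_lit 10,nat_lit 10])
) (.leaf [nat_lit 80,nat_lit 236,nat_lit 1,nat_lit 1,nat_lit 0,nat_lit 5,nat_lit 2,nat_lit 0,nat_lit 9,nat_lit 7,nat_lit 6,nat_lit 3,nat_lit 0,nat_lit 10,nat_lit 11,nat_lit 8,nat_lit 4,nat_lit 1,nat_lit 0,nat_lit 5,nat_lit 2,nat_lit 0,nat_lit 9,nat_lit 7,nat_lit 6,nat_lit 3,nat_lit 0,nat_lit 10,nat_lit 11,nat_lit 8,nat_lit 4,nat_lit 1,nat_lit 0,nat_lit 5,nat_lit 2,nat_lit 0,nat_lit 9,nat_lit 7,nat_lit 6,nat_lit 3,nat_lit 0,nat_lit 10,nat_lit 11,nat_lit 8,nat_lit 4,nat_lit 1,nat_lit 0,nat_lit 5,nat_lit 2,nat_lit 0,nat_lit 9,nat_lit 7,nat_lit 6,nat_lit 3,nat_lit 0,nat_lit 10,nat_lit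 11,nat_lit 8,nat_lit 4,nat_lit 1,nat_lit 0,nat_lit 5,nat_lit 2,nat_lit 0,nat_lit 9,nat_lit 7,nat_lit 6,nat_lit 3,nat_lit 0,nat_lit 10,nat_lit 11,nat_lit 8,nat_lit 4,nat_lit 1,nat_lit 0,nat_lit 5,nat_lit 2,nat_lit 0,nat_lit 9,nat_lit 7,nat_lit 6,nat_lit 3,nat_lit 0,nat_lit 10,nat_lit 11,nat_lit 8,nat_lit 4,nat_lit 1,nat_lit 0,nat_lit 5,nat_lit 2,nat_lit 0,nat_lit 9,nat_lit 7,nat_lit 6,nat_lit 3,nat_lit 0,nat_lit 10,nat_lit 11,nat_lit 8,nat_lit 4,nat_lit 1,nat_lit 0,nat_lit 5,nat_lit 2,nat_lit 0,nat_lit 9,nat_lit 7,nat_lit 6,nat_lit 3,nat_lit 0,nat_lit 10,nat_lit 11,nat_lit 8,nat_lit 4,nat_lit 1,nat_lit 0,nat_lit 5,nat_lit 2,nat_lit 0,nat_lit 9,nat_lit 7,nat_lit 6,nat_lit 3,nat_lit 0,nat_lit 10,nat_lit 11,nat_lit 8,nat_lit 4,nat_lit 1,nat_lit 0,nat_lit 5,nat_lit 2,nat_lit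 0,nat_lit 9,nat_lit 7,nat_lit 6,nat_lit 3,nat_lit 0,nat_lit 10,nat_lit 11,nat_lit 8,nat_lit 4,nat_lit 1,nat_lit 0,nat_lit 5,nat_lit 2,nat_lit 0,nat_lit 9,nat_lit 7,nat_lit 6,nat_lit 3,nat_lit 0,nat_lit 10,nat_lit 11,nat_lit 8,nat_lit 4,nat_lit 1,nat_lit 0,nat_lit 5,nat_lit 2,nat_lit 0,nat_lit 9,nat_lit 7,nat_lit 6,nat_lit 3,nat_lit 0,nat_lit 10,nat_lit 11,nat_lit 8,nat_lit 4,nat_lit 1,nat_lit 0,nat_lit 5,nat_lit 2,nat_lit 0,nat_lit 9,nat_lit 7,nat_lit 6,nat_lit 3,nat_lit 0,nat_lit 10,nat_lit 11,nat_lit 8,nat_lit 4,nat_lit 1,nat_lit 0,nat_lit 5,nat_lit 2,nat_lit 0,nat_lit 9,nat_lit 7,nat_lit 6,nat_lit 3,nat_lit 0,nat_lit 10,nat_lit 11,nat_lit 8,nat_lit 4,nat_lit 1,nat_lit 0,nat_lit 5,nat_lit 2,nat_lit 0,nat_lit 9,nat_lit 7,nat_lit 6,nat_lit 3,nat_lit 0,nat_lit 10,nat_lit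 11,nat_lit 8,nat_lit 4,nat_lit 1,nat_lit 0,nat_lit 5,nat_lit 2,nat_lit 0,nat_lit 9,nat_lit 7,nat_lit 6,nat_lit 3,nat_lit 0,nat_lit 10,nat_lit 11,nat_lit 8,nat_lit 4,nat_lit 1,nat_lit 0,nat_lit 5,nat_lit 2,nat_lit 0,nat_lit 9,nat_lit 7,nat_lit 6,nat_lit 3,nat_lit 0,nat_lit 10,nat_lit 11,nat_lit 8,nat_lit 4])
) (.node (.leaf [nat_lit 15,nat_lit 4,nat_lit 1,nat_lit 3,nat_lit 0,nat_lit 3,nat_lit 0,nat_lit 3,nat_lit 0])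
 (.leaf [nat_lit 49,nat_lit 2,nat_lit 1,nat_lit 12,nat_lit 10,nat_lit 3,nat_lit 10,nat_lit 3])
)) (.node (.node (.leaf [nat_lit 39,nat_lit 2,nat_lit 1,nat_lit 8,nat_lit 2,nat_lit 8,nat_lit 2])
 (.leaf [nat_lit 79,nat_lit 46,nat_lit 1,nat_lit 3,nat_lit 6,nat_lit 2,nat_lit 8,nat_lit 4,nat_lit 1,nat_lit 0,nat_lit 3,nat_lit 6,nat_lit 2,nat_lit 8,nat_lit 4,nat_lit 1,nat_lit 0,nat_lit 3,nat_lit 6,nat_lit 2,nat_lit 10,nat_lit 8,nat_lit 4,nat_lit 1,nat_lit 0,nat_lit 3,nat_lit 6,nat_lit 2,nat_lit 8,nat_lit 4,nat_lit 1,nat_lit 0,nat_lit 3,nat_lit 6,nat_lit 2,nat_lit 8,nat_lit 4,nat_lit 1,nat_lit 0,nat_lit 3,nat_lit 6,nat_lit 2,nat_lit 8,nat_lit 4,nat_lit 1,nat_lit 0,nat_lit 3,nat_lit 6,nat_lit 2,nat_lit 8,nat_lit 4,nat_lit 1,nat_lit 0,nat_lit 3,nat_lit 6,nat_lit 2,nat_lit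 8,nat_lit 4,nat_lit 1,nat_lit 0,nat_lit 3,nat_lit 6,nat_lit 2,nat_lit 8,nat_lit 4,nat_lit 1,nat_lit 0])
) (.node (.leaf [nat_lit 70,nat_lit 4,nat_lit 1,nat_lit 9,nat_lit 7,nat_lit 9,nat_lit 7,nat_lit 9,nat_lit 7])
 (.leaf [nat_lit 25,nat_lit 1,nat_lit 1,nat_lit 12,nat_lit 1,nat_lit 3,nat_lit 1,nat_lit 3])
))))))) (.node (.node (.node (.node (.node (.node (.node (.node (.leaf [nat_lit 33,nat_lit 1,nat_lit 1,nat_lit 1,nat_lit 11,nat_lit 1,nat_lit 11])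
 (.leaf [nat_lit 36,nat_lit 3,nat_lit 1,nat_lit 12,nat_lit 2,nat_lit 5,nat_lit 2,nat_lit 5,nat_lit 2,nat_lit 5])
) (.leaf [nat_lit 49,nat_lit 2,nat_lit 1,nat_lit 10,nat_lit 3,nat_lit 10,nat_lit 3])
) (.node (.leaf [nat_lit 15,nat_lit 3,nat_lit 1,nat_lit 0,nat_lit 3,nat_lit 0,nat_lit 3,nat_lit 0,nat_lit 3])
 (.leaf [nat_lit 80,nat_lit 234,nat_lit 0,nat_lit 9,nat_lit 0,nat_lit 2,nat_lit 5,nat_lit 0,nat_lit 1,nat_lit 4,nat_lit 8,nat_lit 11,nat_lit 10,nat_lit 0,nat_lit 3,nat_lit 6,nat_lit 7,nat_lit 9,nat_lit 0,nat_lit 2,nat_lit 5,nat_lit 0,nat_lit 1,nat_lit 4,nat_lit 8,nat_lit 11,nat_lit 10,nat_lit 0,nat_lit 3,nat_lit 6,nat_lit 7,nat_lit 9,nat_lit 0,nat_lit 2,nat_lit 5,nat_lit 0,nat_lit 1,nat_lit 4,nat_lit 8,nat_lit 11,nat_lit 10,nat_lit 0,nat_lit 3,nat_lit 6,nat_lit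 7,nat_lit 9,nat_lit 0,nat_lit 2,nat_lit 5,nat_lit 0,nat_lit 1,nat_lit 4,nat_lit 8,nat_lit 11,nat_lit 10,nat_lit 0,nat_lit 3,nat_lit 6,nat_lit 7,nat_lit 9,nat_lit 0,nat_lit 2,nat_lit 5,nat_lit 0,nat_lit 1,nat_lit 4,nat_lit 8,nat_lit 11,nat_lit 10,nat_lit 0,nat_lit 3,nat_lit 6,nat_lit 7,nat_lit 9,nat_lit 0,nat_lit 2,nat_lit 5,nat_lit 0,nat_lit 1,nat_lit 4,nat_lit 8,nat_lit 11,nat_lit 10,nat_lit 0,nat_lit 3,nat_lit 6,nat_lit 7,nat_lit 9,nat_lit 0,nat_lit 2,nat_lit 5,nat_lit 0,nat_lit 1,nat_lit 4,nat_lit 8,nat_lit 11,nat_lit 10,nat_lit 0,nat_lit 3,nat_lit 6,nat_lit 7,nat_lit 9,nat_lit 0,nat_lit 2,nat_lit 5,nat_lit 0,nat_lit 1,nat_lit 4,nat_lit 8,nat_lit 11,nat_lit 10,nat_lit 0,nat_lit 3,nat_lit 6,nat_lit 7,nat_lit 9,nat_lit 0,nat_lit 2,nat_lit 5,nat_lit 0,nat_lit 1,nat_lit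 4,nat_lit 8,nat_lit 11,nat_lit 10,nat_lit 0,nat_lit 3,nat_lit 6,nat_lit 7,nat_lit 9,nat_lit 0,nat_lit 2,nat_lit 5,nat_lit 0,nat_lit 1,nat_lit 4,nat_lit 8,nat_lit 11,nat_lit 10,nat_lit 0,nat_lit 3,nat_lit 6,nat_lit 7,nat_lit 9,nat_lit 0,nat_lit 2,nat_lit 5,nat_lit 0,nat_lit 1,nat_lit 4,nat_lit 8,nat_lit 11,nat_lit 10,nat_lit 0,nat_lit 3,nat_lit 6,nat_lit 7,nat_lit 9,nat_lit 0,nat_lit 2,nat_lit 5,nat_lit 0,nat_lit 1,nat_lit 4,nat_lit 8,nat_lit 11,nat_lit 10,nat_lit 0,nat_lit 3,nat_lit 6,nat_lit 7,nat_lit 9,nat_lit 0,nat_lit 2,nat_lit 5,nat_lit 0,nat_lit 1,nat_lit 4,nat_lit 8,nat_lit 11,nat_lit 10,nat_lit 0,nat_lit 3,nat_lit 6,nat_lit 7,nat_lit 9,nat_lit 0,nat_lit 2,nat_lit 5,nat_lit 0,nat_lit 1,nat_lit 4,nat_lit 8,nat_lit 11,nat_lit 10,nat_lit 0,nat_lit 3,nat_lit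 6,nat_lit 7,nat_lit 9,nat_lit 0,nat_lit 2,nat_lit 5,nat_lit 0,nat_lit 1,nat_lit 4,nat_lit 8,nat_lit 11,nat_lit 10,nat_lit 0,nat_lit 3,nat_lit 6,nat_lit 7,nat_lit 9,nat_lit 0,nat_lit 2,nat_lit 5,nat_lit 0,nat_lit 1,nat_lit 4,nat_lit 8,nat_lit 11,nat_lit 10,nat_lit 0,nat_lit 3,nat_lit 6,nat_lit 7,nat_lit 9,nat_lit 0,nat_lit 2,nat_lit 5,nat_lit 0,nat_lit 1,nat_lit 4,nat_lit 8,nat_lit 11,nat_lit 10,nat_lit 0,nat_lit 3,nat_lit 6,nat_lit 7])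
)) (.node (.node (.node (.leaf [nat_lit 53,nat_lit 2,nat_lit 1,nat_lit 7,nat_lit 4,nat_lit 7,nat_lit 4])
 (.leaf [nat_lit 79,nat_lit 45,nat_lit 1,nat_lit 12,nat_lit 0,nat_lit 3,nat_lit 6,nat_lit 2,nat_lit 8,nat_lit 4,nat_lit 1,nat_lit 0,nat_lit 3,nat_lit 6,nat_lit 2,nat_lit 8,nat_lit 4,nat_lit 1,nat_lit 0,nat_lit 3,nat_lit 6,nat_lit 2,nat_lit 10,nat_lit 8,nat_lit 4,nat_lit 1,nat_lit 0,nat_lit 3,nat_lit 6,nat_lit 2,nat_lit 8,nat_lit 4,nat_lit 1,nat_lit 0,nat_lit 3,nat_lit 6,nat_lit 2,nat_lit 8,nat_lit 4,nat_lit 1,nat_lit 0,nat_lit 3,nat_lit 6,nat_lit 2,nat_lit 8,nat_lit 4,nat_lit 1,nat_lit 0,nat_lit 3,nat_lit 6,nat_lit 2,nat_lit 8,nat_lit 4,nat_lit 1,nat_lit 0,nat_lit 3,nat_lit 6,nat_lit 2,nat_lit 8,nat_lit 4,nat_lit 1,nat_lit 0,nat_lit 3,nat_lit 6,nat_lit 2,nat_lit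 8,nat_lit 4,nat_lit 1])
) (.leaf [nat_lit 79,nat_lit 15,nat_lit 1,nat_lit 4,nat_lit 1,nat_lit 0,nat_lit 3,nat_lit 6,nat_lit 2,nat_lit 8,nat_lit 4,nat_lit 1,nat_lit 0,nat_lit 3,nat_lit 6,nat_lit 2,nat_lit 8,nat_lit 4,nat_lit 1,nat_lit 0,nat_lit 3,nat_lit 6,nat_lit 2,nat_lit 8,nat_lit 4,nat_lit 1,nat_lit 0,nat_lit 3,nat_lit 6,nat_lit 2,nat_lit 8,nat_lit 4,nat_lit 1,nat_lit 0,nat_lit 3,nat_lit 6,nat_lit 2,nat_lit 8,nat_lit 4,nat_lit 1,nat_lit 0,nat_lit 3,nat_lit 6,nat_lit 2,nat_lit 8,nat_lit 4,nat_lit 1,nat_lit 0,nat_lit 3,nat_lit 6,nat_lit 2,nat_lit 10,nat_lit 8,nat_lit 4,nat_lit 1,nat_lit 0,nat_lit 3,nat_lit 6,nat_lit 2,nat_lit 8,nat_lit 4,nat_lit 1,nat_lit 0,nat_lit 3,nat_lit 6,nat_lit 2,nat_lit 8])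
) (.node (.leaf [nat_lit 19,nat_lit 1,nat_lit 1,nat_lit 0,nat_lit 7,nat_lit 0,nat_lit 7])
 (.leaf [nat_lit 43,nat_lit 2,nat_lit 1,nat_lit 12,nat_lit 4,nat_lit 3,nat_lit 4,nat_lit 3])
))) (.node (.node (.node (.node (.leaf [nat_lit 75,nat_lit 4,nat_lit 1,nat_lit 11,nat_lit 8,nat_lit 11,nat_lit 8,nat_lit 11,nat_lit 8])
 (.leaf [nat_lit 35,nat_lit 2,nat_lit 1,nat_lit 12,nat_lit 4,nat_lit 2,nat_lit 4,nat_lit 2])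
) (.leaf [nat_lit 79,nat_lit 0,nat_lit 1,nat_lit 8,nat_lit 4,nat_lit 1,nat_lit 0,nat_lit 3,nat_lit 6,nat_lit 2,nat_lit 8,nat_lit 4,nat_lit 1,nat_lit 0,nat_lit 3,nat_lit 6,nat_lit 2,nat_lit 8,nat_lit 4,nat_lit 1,nat_lit 0,nat_lit 3,nat_lit 6,nat_lit 2,nat_lit 8,nat_lit 4,nat_lit 1,nat_lit 0,nat_lit 3,nat_lit 6,nat_lit 2,nat_lit 8,nat_lit 4,nat_lit 1,nat_lit 0,nat_lit 3,nat_lit 6,nat_lit 2,nat_lit 8,nat_lit 4,nat_lit 1,nat_lit 0,nat_lit 3,nat_lit 6,nat_lit 2,nat_lit 8,nat_lit 4,nat_lit 1,nat_lit 0,nat_lit 3,nat_lit 6,nat_lit 2,nat_lit 8,nat_lit 4,nat_lit 1,nat_lit 0,nat_lit 3,nat_lit 6,nat_lit 2,nat_lit 8,nat_lit 4,nat_lit 1,nat_lit 0,nat_lit 3,nat_lit 6,nat_lit 2,nat_lit 10])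
) (.node (.leaf [nat_lit 59,nat_lit 2,nat_lit 1,nat_lit 7,nat_lit 5,nat_lit 7,nat_lit 5])
 (.leaf [nat_lit 58,nat_lit 2,nat_lit 1,nat_lit 12,nat_lit 6,nat_lit 5,nat_lit 6,nat_lit 5])
)) (.node (.node (.leaf [nat_lit 13,nat_lit 4,nat_lit 1,nat_lit 1,nat_lit 0,nat_lit 1,nat_lit 0,nat_lit 1,nat_lit 0])
 (.leaf [nat_lit 79,nat_lit 34,nat_lit 0,nat_lit 4,nat_lit 8,nat_lit 2,nat_lit 6,nat_lit 3,nat_lit 0,nat_lit 1,nat_lit 4,nat_lit 8,nat_lit 2,nat_lit 6,nat_lit 3,nat_lit 0,nat_lit 1,nat_lit 4,nat_lit 8,nat_lit 2,nat_lit 6,nat_lit 3,nat_lit 0,nat_lit 1,nat_lit 4,nat_lit 8,nat_lit 2,nat_lit 6,nat_lit 3,nat_lit 0,nat_lit 1,nat_lit 4,nat_lit 8,nat_lit 10,nat_lit 2,nat_lit 6,nat_lit 3,nat_lit 0,nat_lit 1,nat_lit 4,nat_lit 8,nat_lit 2,nat_lit 6,nat_lit 3,nat_lit 0,nat_lit 1,nat_lit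 4,nat_lit 8,nat_lit 2,nat_lit 6,nat_lit 3,nat_lit 0,nat_lit 1,nat_lit 4,nat_lit 8,nat_lit 2,nat_lit 6,nat_lit 3,nat_lit 0,nat_lit 1,nat_lit 4,nat_lit 8,nat_lit 2,nat_lit 6,nat_lit 3,nat_lit 0,nat_lit 1])
) (.node (.leaf [nat_lit 61,nat_lit 1,nat_lit 1,nat_lit 5,nat_lit 9,nat_lit 5,nat_lit 9])
 (.leaf [nat_lit 47,nat_lit 1,nat_lit 1,nat_lit 12,nat_lit 3,nat_lit 8,nat_lit 3,nat_lit 8])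
)))) (.node (.node (.node (.node (.node (.leaf [nat_lit 20,nat_lit 1,nat_lit 1,nat_lit 0,nat_lit 8,nat_lit 0,nat_lit 8])
 (.leaf [nat_lit 13,nat_lit 1,nat_lit 1,nat_lit 12,nat_lit 0,nat_lit 1,nat_lit 0,nat_lit 1,nat_lit 0,nat_lit 1])
) (.leaf [nat_lit 79,nat_lit 55,nat_lit 0,nat_lit 4,nat_lit 8,nat_lit 2,nat_lit 6,nat_lit 3,nat_lit 0,nat_lit 1,nat_lit 4,nat_lit 8,nat_lit 10,nat_lit 2,nat_lit 6,nat_lit 3,nat_lit 0,nat_lit 1,nat_lit 4,nat_lit 8,nat_lit 2,nat_lit 6,nat_lit 3,nat_lit 0,nat_lit 1,nat_lit 4,nat_lit 8,nat_lit 2,nat_lit 6,nat_lit 3,nat_lit 0,nat_lit 1,nat_lit 4,nat_lit 8,nat_lit 2,nat_lit 6,nat_lit 3,nat_lit 0,nat_lit 1,nat_lit 4,nat_lit 8,nat_lit 2,nat_lit 6,nat_lit 3,nat_lit 0,nat_lit 1,nat_lit 4,nat_lit 8,nat_lit 2,nat_lit 6,nat_lit 3,nat_lit 0,nat_lit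 1,nat_lit 4,nat_lit 8,nat_lit 2,nat_lit 6,nat_lit 3,nat_lit 0,nat_lit 1,nat_lit 4,nat_lit 8,nat_lit 2,nat_lit 6,nat_lit 3,nat_lit 0,nat_lit 1])
) (.node (.leaf [nat_lit 54,nat_lit 3,nat_lit 1,nat_lit 4,nat_lit 8,nat_lit 4,nat_lit 8,nat_lit 4,nat_lit 8])
 (.leaf [nat_lit 56,nat_lit 1,nat_lit 1,nat_lit 12,nat_lit 4,nat_lit 10,nat_lit 4,nat_lit 10])
)) (.node (.node (.leaf [nat_lit 27,nat_lit 2,nat_lit 1,nat_lit 5,nat_lit 1,nat_lit 5,nat_lit 1])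
 (.leaf [nat_lit 80,nat_lit 234,nat_lit 1,nat_lit 8,nat_lit 4,nat_lit 1,nat_lit 0,nat_lit 5,nat_lit 2,nat_lit 0,nat_lit 9,nat_lit 7,nat_lit 6,nat_lit 3,nat_lit 0,nat_lit 10,nat_lit 11,nat_lit 8,nat_lit 4,nat_lit 1,nat_lit 0,nat_lit 5,nat_lit 2,nat_lit 0,nat_lit 9,nat_lit 7,nat_lit 6,nat_lit 3,nat_lit 0,nat_lit 10,nat_lit 11,nat_lit 8,nat_lit 4,nat_lit 1,nat_lit 0,nat_lit 5,nat_lit 2,nat_lit 0,nat_lit 9,nat_lit 7,nat_lit 6,nat_lit 3,nat_lit 0,nat_lit 10,nat_lit 11,nat_lit 8,nat_lit 4,nat_lit 1,nat_lit 0,nat_lit 5,nat_lit 2,nat_lit 0,nat_lit 9,nat_lit 7,nat_lit 6,nat_lit 3,nat_lit 0,nat_lit 10,nat_lit 11,nat_lit 8,nat_lit 4,nat_lit 1,nat_lit 0,nat_lit 5,nat_lit 2,nat_lit 0,nat_lit 9,nat_lit 7,nat_lit 6,nat_lit 3,nat_lit 0,nat_lit 10,nat_lit 11,nat_lit 8,nat_lit 4,nat_lit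 1,nat_lit 0,nat_lit 5,nat_lit 2,nat_lit 0,nat_lit 9,nat_lit 7,nat_lit 6,nat_lit 3,nat_lit 0,nat_lit 10,nat_lit 11,nat_lit 8,nat_lit 4,nat_lit 1,nat_lit 0,nat_lit 5,nat_lit 2,nat_lit 0,nat_lit 9,nat_lit 7,nat_lit 6,nat_lit 3,nat_lit 0,nat_lit 10,nat_lit 11,nat_lit 8,nat_lit 4,nat_lit 1,nat_lit 0,nat_lit 5,nat_lit 2,nat_lit 0,nat_lit 9,nat_lit 7,nat_lit 6,nat_lit 3,nat_lit 0,nat_lit 10,nat_lit 11,nat_lit 8,nat_lit 4,nat_lit 1,nat_lit 0,nat_lit 5,nat_lit 2,nat_lit 0,nat_lit 9,nat_lit 7,nat_lit 6,nat_lit 3,nat_lit 0,nat_lit 10,nat_lit 11,nat_lit 8,nat_lit 4,nat_lit 1,nat_lit 0,nat_lit 5,nat_lit 2,nat_lit 0,nat_lit 9,nat_lit 7,nat_lit 6,nat_lit 3,nat_lit 0,nat_lit 10,nat_lit 11,nat_lit 8,nat_lit 4,nat_lit 1,nat_lit 0,nat_lit 5,nat_lit 2,nat_lit 0,nat_lit 9,nat_lit 7,nat_lit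 6,nat_lit 3,nat_lit 0,nat_lit 10,nat_lit 11,nat_lit 8,nat_lit 4,nat_lit 1,nat_lit 0,nat_lit 5,nat_lit 2,nat_lit 0,nat_lit 9,nat_lit 7,nat_lit 6,nat_lit 3,nat_lit 0,nat_lit 10,nat_lit 11,nat_lit 8,nat_lit 4,nat_lit 1,nat_lit 0,nat_lit 5,nat_lit 2,nat_lit 0,nat_lit 9,nat_lit 7,nat_lit 6,nat_lit 3,nat_lit 0,nat_lit 10,nat_lit 11,nat_lit 8,nat_lit 4,nat_lit 1,nat_lit 0,nat_lit 5,nat_lit 2,nat_lit 0,nat_lit 9,nat_lit 7,nat_lit 6,nat_lit 3,nat_lit 0,nat_lit 10,nat_lit 11,nat_lit 8,nat_lit 4,nat_lit 1,nat_lit 0,nat_lit 5,nat_lit 2,nat_lit 0,nat_lit 9,nat_lit 7,nat_lit 6,nat_lit 3,nat_lit 0,nat_lit 10,nat_lit 11,nat_lit 8,nat_lit 4,nat_lit 1,nat_lit 0,nat_lit 5,nat_lit 2,nat_lit 0,nat_lit 9,nat_lit 7,nat_lit 6,nat_lit 3,nat_lit 0,nat_lit 10,nat_lit 11,nat_lit 8,nat_lit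 4,nat_lit 1,nat_lit 0,nat_lit 5,nat_lit 2,nat_lit 0,nat_lit 9,nat_lit 7,nat_lit 6,nat_lit 3,nat_lit 0,nat_lit 10,nat_lit 11])
) (.node (.leaf [nat_lit 26,nat_lit 3,nat_lit 1,nat_lit 1,nat_lit 4,nat_lit 1,nat_lit 4,nat_lit 1,nat_lit 4])
 (.leaf [nat_lit 17,nat_lit 2,nat_lit 1,nat_lit 12,nat_lit 5,nat_lit 0,nat_lit 5,nat_lit 0])
))) (.node (.node (.node (.node (.leaf [nat_lit 71,nat_lit 1,nat_lit 1,nat_lit 7,nat_lit 10,nat_lit 7,nat_lit 10])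
 (.leaf [nat_lit 9,nat_lit 0,nat_lit 0,nat_lit 12,nat_lit 8,nat_lit 8])
) (.leaf [nat_lit 79,nat_lit 41,nat_lit 0,nat_lit 4,nat_lit 8,nat_lit 2,nat_lit 6,nat_lit 3,nat_lit 0,nat_lit 1,nat_lit 4,nat_lit 8,nat_lit 2,nat_lit 6,nat_lit 3,nat_lit 0,nat_lit 1,nat_lit 4,nat_lit 8,nat_lit 2,nat_lit 6,nat_lit 3,nat_lit 0,nat_lit 1,nat_lit 4,nat_lit 8,nat_lit 10,nat_lit 2,nat_lit 6,nat_lit 3,nat_lit 0,nat_lit 1,nat_lit 4,nat_lit 8,nat_lit 2,nat_lit 6,nat_lit 3,nat_lit 0,nat_lit 1,nat_lit 4,nat_lit 8,nat_lit 2,nat_lit 6,nat_lit 3,nat_lit 0,nat_lit 1,nat_lit 4,nat_lit 8,nat_lit 2,nat_lit 6,nat_lit 3,nat_lit 0,nat_lit 1,nat_lit 4,nat_lit 8,nat_lit 2,nat_lit 6,nat_lit 3,nat_lit 0,nat_lit 1,nat_lit 4,nat_lit 8,nat_lit 2,nat_lit 6,nat_lit 3,nat_lit 0,nat_lit 1])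
) (.node (.leaf [nat_lit 58,nat_lit 1,nat_lit 1,nat_lit 5,nat_lit 6,nat_lit 5,nat_lit 6])
 (.leaf [nat_lit 16,nat_lit 0,nat_lit 1,nat_lit 12,nat_lit 4,nat_lit 0,nat_lit 4,nat_lit 0])
)) (.node (.node (.leaf [nat_lit 14,nat_lit 3,nat_lit 1,nat_lit 0,nat_lit 2,nat_lit 0,nat_lit 2,nat_lit 0,nat_lit 2])
 (.leaf [nat_lit 79,nat_lit 24,nat_lit 0,nat_lit 3,nat_lit 0,nat_lit 1,nat_lit 4,nat_lit 8,nat_lit 2,nat_lit 6,nat_lit 3,nat_lit 0,nat_lit 1,nat_lit 4,nat_lit 8,nat_lit 2,nat_lit 6,nat_lit 3,nat_lit 0,nat_lit 1,nat_lit 4,nat_lit 8,nat_lit 2,nat_lit 6,nat_lit 3,nat_lit 0,nat_lit 1,nat_lit 4,nat_lit 8,nat_lit 2,nat_lit 6,nat_lit 3,nat_lit 0,nat_lit 1,nat_lit 4,nat_lit 8,nat_lit 2,nat_lit 6,nat_lit 3,nat_lit 0,nat_lit 1,nat_lit 4,nat_lit 8,nat_lit 10,nat_lit 2,nat_lit 6,nat_lit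 3,nat_lit 0,nat_lit 1,nat_lit 4,nat_lit 8,nat_lit 2,nat_lit 6,nat_lit 3,nat_lit 0,nat_lit 1,nat_lit 4,nat_lit 8,nat_lit 2,nat_lit 6,nat_lit 3,nat_lit 0,nat_lit 1,nat_lit 4,nat_lit 8,nat_lit 2,nat_lit 6])
) (.node (.leaf [nat_lit 40,nat_lit 1,nat_lit 1,nat_lit 2,nat_lit 9,nat_lit 2,nat_lit 9])
 (.leaf [nat_lit 26,nat_lit 2,nat_lit 1,nat_lit 12,nat_lit 4,nat_lit 1,nat_lit 4,nat_lit 1,nat_lit 4,nat_lit 1])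
))))) (.node (.node (.node (.node (.node (.node (.leaf [nat_lit 63,nat_lit 1,nat_lit 1,nat_lit 5,nat_lit 11,nat_lit 5,nat_lit 11])
 (.leaf [nat_lit 44,nat_lit 2,nat_lit 1,nat_lit 12,nat_lit 5,nat_lit 3,nat_lit 5,nat_lit 3])
) (.leaf [nat_lit 71,nat_lit 2,nat_lit 1,nat_lit 10,nat_lit 7,nat_lit 10,nat_lit 7])
) (.node (.leaf [nat_lit 46,nat_lit 2,nat_lit 1,nat_lit 7,nat_lit 3,nat_lit 7,nat_lit 3])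
 (.leaf [nat_lit 79,nat_lit 57,nat_lit 0,nat_lit 2,nat_lit 6,nat_lit 3,nat_lit 0,nat_lit 1,nat_lit 4,nat_lit 8,nat_lit 10,nat_lit 2,nat_lit 6,nat_lit 3,nat_lit 0,nat_lit 1,nat_lit 4,nat_lit 8,nat_lit 2,nat_lit 6,nat_lit 3,nat_lit 0,nat_lit 1,nat_lit 4,nat_lit 8,nat_lit 2,nat_lit 6,nat_lit 3,nat_lit 0,nat_lit 1,nat_lit 4,nat_lit 8,nat_lit 2,nat_lit 6,nat_lit 3,nat_lit 0,nat_lit 1,nat_lit 4,nat_lit 8,nat_lit 2,nat_lit 6,nat_lit 3,nat_lit 0,nat_lit 1,nat_lit 4,nat_lit 8,nat_lit 2,nat_lit 6,nat_lit 3,nat_lit 0,nat_lit 1,nat_lit 4,nat_lit 8,nat_lit 2,nat_lit 6,nat_lit 3,nat_lit 0,nat_lit 1,nat_lit 4,nat_lit 8,nat_lit 2,nat_lit 6,nat_lit 3,nat_lit 0,nat_lit 1,nat_lit 4,nat_lit 8])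
)) (.node (.node (.node (.leaf [nat_lit 74,nat_lit 1,nat_lit 1,nat_lit 8,nat_lit 10,nat_lit 8,nat_lit 10])
 (.leaf [nat_lit 35,nat_lit 1,nat_lit 1,nat_lit 12,nat_lit 2,nat_lit 4,nat_lit 2,nat_lit 4])
) (.leaf [nat_lit 79,nat_lit 51,nat_lit 0,nat_lit 6,nat_lit 3,nat_lit 0,nat_lit 1,nat_lit 4,nat_lit 8,nat_lit 2,nat_lit 6,nat_lit 3,nat_lit 0,nat_lit 1,nat_lit 4,nat_lit 8,nat_lit 10,nat_lit 2,nat_lit 6,nat_lit 3,nat_lit 0,nat_lit 1,nat_lit 4,nat_lit 8,nat_lit 2,nat_lit 6,nat_lit 3,nat_lit 0,nat_lit 1,nat_lit 4,nat_lit 8,nat_lit 2,nat_lit 6,nat_lit 3,nat_lit 0,nat_lit 1,nat_lit 4,nat_lit 8,nat_lit 2,nat_lit 6,nat_lit 3,nat_lit 0,nat_lit 1,nat_lit 4,nat_lit 8,nat_lit 2,nat_lit 6,nat_lit 3,nat_lit 0,nat_lit 1,nat_lit 4,nat_lit 8,nat_lit 2,nat_lit 6,nat_lit 3,nat_lit 0,nat_lit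 1,nat_lit 4,nat_lit 8,nat_lit 2,nat_lit 6,nat_lit 3,nat_lit 0,nat_lit 1,nat_lit 4,nat_lit 8,nat_lit 2])
) (.node (.leaf [nat_lit 59,nat_lit 1,nat_lit 1,nat_lit 5,nat_lit 7,nat_lit 5,nat_lit 7])
 (.leaf [nat_lit 31,nat_lit 1,nat_lit 1,nat_lit 12,nat_lit 1,nat_lit 9,nat_lit 1,nat_lit 9])
))) (.node (.node (.node (.node (.leaf [nat_lit 49,nat_lit 1,nat_lit 1,nat_lit 3,nat_lit 10,nat_lit 3,nat_lit 10])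
 (.leaf [nat_lit 20,nat_lit 2,nat_lit 1,nat_lit 12,nat_lit 8,nat_lit 0,nat_lit 8,nat_lit 0])
) (.leaf [nat_lit 79,nat_lit 58,nat_lit 0,nat_lit 6,nat_lit 3,nat_lit 0,nat_lit 1,nat_lit 4,nat_lit 8,nat_lit 10,nat_lit 2,nat_lit 6,nat_lit 3,nat_lit 0,nat_lit 1,nat_lit 4,nat_lit 8,nat_lit 2,nat_lit 6,nat_lit 3,nat_lit 0,nat_lit 1,nat_lit 4,nat_lit 8,nat_lit 2,nat_lit 6,nat_lit 3,nat_lit 0,nat_lit 1,nat_lit 4,nat_lit 8,nat_lit 2,nat_lit 6,nat_lit 3,nat_lit 0,nat_lit 1,nat_lit 4,nat_lit 8,nat_lit 2,nat_lit 6,nat_lit 3,nat_lit 0,nat_lit 1,nat_lit 4,nat_lit 8,nat_lit 2,nat_lit 6,nat_lit 3,nat_lit 0,nat_lit 1,nat_lit 4,nat_lit 8,nat_lit 2,nat_lit 6,nat_lit 3,nat_lit 0,nat_lit 1,nat_lit 4,nat_lit 8,nat_lit 2,nat_lit 6,nat_lit 3,nat_lit 0,nat_lit 1,nat_lit 4,nat_lit 8,nat_lit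 2])
) (.node (.leaf [nat_lit 18,nat_lit 1,nat_lit 1,nat_lit 0,nat_lit 6,nat_lit 0,nat_lit 6])
 (.leaf [nat_lit 24,nat_lit 3,nat_lit 1,nat_lit 12,nat_lit 1,nat_lit 2,nat_lit 1,nat_lit 2])
)) (.node (.node (.leaf [nat_lit 19,nat_lit 2,nat_lit 1,nat_lit 7,nat_lit 0,nat_lit 7,nat_lit 0])
 (.leaf [nat_lit 79,nat_lit 12,nat_lit 0,nat_lit 1,nat_lit 4,nat_lit 8,nat_lit 2,nat_lit 6,nat_lit 3,nat_lit 0,nat_lit 1,nat_lit 4,nat_lit 8,nat_lit 2,nat_lit 6,nat_lit 3,nat_lit 0,nat_lit 1,nat_lit 4,nat_lit 8,nat_lit 2,nat_lit 6,nat_lit 3,nat_lit 0,nat_lit 1,nat_lit 4,nat_lit 8,nat_lit 2,nat_lit 6,nat_lit 3,nat_lit 0,nat_lit 1,nat_lit 4,nat_lit 8,nat_lit 2,nat_lit 6,nat_lit 3,nat_lit 0,nat_lit 1,nat_lit 4,nat_lit 8,nat_lit 2,nat_lit 6,nat_lit 3,nat_lit 0,nat_lit 1,nat_lit 4,nat_lit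 8,nat_lit 2,nat_lit 6,nat_lit 3,nat_lit 0,nat_lit 1,nat_lit 4,nat_lit 8,nat_lit 10,nat_lit 2,nat_lit 6,nat_lit 3,nat_lit 0,nat_lit 1,nat_lit 4,nat_lit 8,nat_lit 2,nat_lit 6,nat_lit 3,nat_lit 0])
) (.node (.leaf [nat_lit 77,nat_lit 2,nat_lit 1,nat_lit 11,nat_lit 9,nat_lit 11,nat_lit 9])
 (.leaf [nat_lit 45,nat_lit 4,nat_lit 1,nat_lit 12,nat_lit 6,nat_lit 3,nat_lit 6,nat_lit 3,nat_lit 6,nat_lit 3])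
)))) (.node (.node (.node (.node (.node (.leaf [nat_lit 60,nat_lit 1,nat_lit 1,nat_lit 5,nat_lit 8,nat_lit 5,nat_lit 8])
 (.leaf [nat_lit 14,nat_lit 1,nat_lit 1,nat_lit 12,nat_lit 0,nat_lit 2,nat_lit 0,nat_lit 2,nat_lit 0,nat_lit 2])
) (.leaf [nat_lit 79,nat_lit 59,nat_lit 0,nat_lit 3,nat_lit 0,nat_lit 1,nat_lit 4,nat_lit 8,nat_lit 10,nat_lit 2,nat_lit 6,nat_lit 3,nat_lit 0,nat_lit 1,nat_lit 4,nat_lit 8,nat_lit 2,nat_lit 6,nat_lit 3,nat_lit 0,nat_lit 1,nat_lit 4,nat_lit 8,nat_lit 2,nat_lit 6,nat_lit 3,nat_lit 0,nat_lit 1,nat_lit 4,nat_lit 8,nat_lit 2,nat_lit 6,nat_lit 3,nat_lit 0,nat_lit 1,nat_lit 4,nat_lit 8,nat_lit 2,nat_lit 6,nat_lit 3,nat_lit 0,nat_lit 1,nat_lit 4,nat_lit 8,nat_lit 2,nat_lit 6,nat_lit 3,nat_lit 0,nat_lit 1,nat_lit 4,nat_lit 8,nat_lit 2,nat_lit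 6,nat_lit 3,nat_lit 0,nat_lit 1,nat_lit 4,nat_lit 8,nat_lit 2,nat_lit 6,nat_lit 3,nat_lit 0,nat_lit 1,nat_lit 4,nat_lit 8,nat_lit 2,nat_lit 6])
) (.node (.leaf [nat_lit 27,nat_lit 1,nat_lit 1,nat_lit 1,nat_lit 5,nat_lit 1,nat_lit 5])
 (.leaf [nat_lit 37,nat_lit 0,nat_lit 1,nat_lit 12,nat_lit 6,nat_lit 2,nat_lit 6,nat_lit 2])
)) (.node (.node (.leaf [nat_lit 31,nat_lit 2,nat_lit 1,nat_lit 9,nat_lit 1,nat_lit 9,nat_lit 1])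
 (.leaf [nat_lit 80,nat_lit 226,nat_lit 0,nat_lit 4,nat_lit 8,nat_lit 11,nat_lit 10,nat_lit 0,nat_lit 3,nat_lit 6,nat_lit 7,nat_lit 9,nat_lit 0,nat_lit 2,nat_lit 5,nat_lit 0,nat_lit 1,nat_lit 4,nat_lit 8,nat_lit 11,nat_lit 10,nat_lit 0,nat_lit 3,nat_lit 6,nat_lit 7,nat_lit 9,nat_lit 0,nat_lit 2,nat_lit 5,nat_lit 0,nat_lit 1,nat_lit 4,nat_lit 8,nat_lit 11,nat_lit 10,nat_lit 0,nat_lit 3,nat_lit 6,nat_lit 7,nat_lit 9,nat_lit 0,nat_lit 2,nat_lit 5,nat_lit 0,nat_lit 1,nat_lit 4,nat_lit 8,nat_lit 11,nat_lit 10,nat_lit 0,nat_lit 3,nat_lit 6,nat_lit 7,nat_lit 9,nat_lit 0,nat_lit 2,nat_lit 5,nat_lit 0,nat_lit 1,nat_lit 4,nat_lit 8,nat_lit 11,nat_lit 10,nat_lit 0,nat_lit 3,nat_lit 6,nat_lit 7,nat_lit 9,nat_lit 0,nat_lit 2,nat_lit 5,nat_lit 0,nat_lit 1,nat_lit 4,nat_lit 8,nat_lit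 11,nat_lit 10,nat_lit 0,nat_lit 3,nat_lit 6,nat_lit 7,nat_lit 9,nat_lit 0,nat_lit 2,nat_lit 5,nat_lit 0,nat_lit 1,nat_lit 4,nat_lit 8,nat_lit 11,nat_lit 10,nat_lit 0,nat_lit 3,nat_lit 6,nat_lit 7,nat_lit 9,nat_lit 0,nat_lit 2,nat_lit 5,nat_lit 0,nat_lit 1,nat_lit 4,nat_lit 8,nat_lit 11,nat_lit 10,nat_lit 0,nat_lit 3,nat_lit 6,nat_lit 7,nat_lit 9,nat_lit 0,nat_lit 2,nat_lit 5,nat_lit 0,nat_lit 1,nat_lit 4,nat_lit 8,nat_lit 11,nat_lit 10,nat_lit 0,nat_lit 3,nat_lit 6,nat_lit 7,nat_lit 9,nat_lit 0,nat_lit 2,nat_lit 5,nat_lit 0,nat_lit 1,nat_lit 4,nat_lit 8,nat_lit 11,nat_lit 10,nat_lit 0,nat_lit 3,nat_lit 6,nat_lit 7,nat_lit 9,nat_lit 0,nat_lit 2,nat_lit 5,nat_lit 0,nat_lit 1,nat_lit 4,nat_lit 8,nat_lit 11,nat_lit 10,nat_lit 0,nat_lit 3,nat_lit 6,nat_lit 7,nat_lit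 9,nat_lit 0,nat_lit 2,nat_lit 5,nat_lit 0,nat_lit 1,nat_lit 4,nat_lit 8,nat_lit 11,nat_lit 10,nat_lit 0,nat_lit 3,nat_lit 6,nat_lit 7,nat_lit 9,nat_lit 0,nat_lit 2,nat_lit 5,nat_lit 0,nat_lit 1,nat_lit 4,nat_lit 8,nat_lit 11,nat_lit 10,nat_lit 0,nat_lit 3,nat_lit 6,nat_lit 7,nat_lit 9,nat_lit 0,nat_lit 2,nat_lit 5,nat_lit 0,nat_lit 1,nat_lit 4,nat_lit 8,nat_lit 11,nat_lit 10,nat_lit 0,nat_lit 3,nat_lit 6,nat_lit 7,nat_lit 9,nat_lit 0,nat_lit 2,nat_lit 5,nat_lit 0,nat_lit 1,nat_lit 4,nat_lit 8,nat_lit 11,nat_lit 10,nat_lit 0,nat_lit 3,nat_lit 6,nat_lit 7,nat_lit 9,nat_lit 0,nat_lit 2,nat_lit 5,nat_lit 0,nat_lit 1,nat_lit 4,nat_lit 8,nat_lit 11,nat_lit 10,nat_lit 0,nat_lit 3,nat_lit 6,nat_lit 7,nat_lit 9,nat_lit 0,nat_lit 2,nat_lit 5,nat_lit 0,nat_lit 1,nat_lit 4,nat_lit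 8,nat_lit 11,nat_lit 10,nat_lit 0,nat_lit 3,nat_lit 6,nat_lit 7,nat_lit 9,nat_lit 0,nat_lit 2,nat_lit 5,nat_lit 0,nat_lit 1])
) (.node (.leaf [nat_lit 21,nat_lit 1,nat_lit 1,nat_lit 0,nat_lit 9,nat_lit 0,nat_lit 9])
 (.leaf [nat_lit 75,nat_lit 2,nat_lit 1,nat_lit 12,nat_lit 11,nat_lit 8,nat_lit 11,nat_lit 8,nat_lit 11,nat_lit 8])
))) (.node (.node (.node (.node (.leaf [nat_lit 35,nat_lit 1,nat_lit 1,nat_lit 2,nat_lit 4,nat_lit 2,nat_lit 4])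
 (.leaf [nat_lit 3,nat_lit 0,nat_lit 0,nat_lit 12,nat_lit 2,nat_lit 2])
) (.leaf [nat_lit 79,nat_lit 52,nat_lit 0,nat_lit 3,nat_lit 0,nat_lit 1,nat_lit 4,nat_lit 8,nat_lit 2,nat_lit 6,nat_lit 3,nat_lit 0,nat_lit 1,nat_lit 4,nat_lit 8,nat_lit 10,nat_lit 2,nat_lit 6,nat_lit 3,nat_lit 0,nat_lit 1,nat_lit 4,nat_lit 8,nat_lit 2,nat_lit 6,nat_lit 3,nat_lit 0,nat_lit 1,nat_lit 4,nat_lit 8,nat_lit 2,nat_lit 6,nat_lit 3,nat_lit 0,nat_lit 1,nat_lit 4,nat_lit 8,nat_lit 2,nat_lit 6,nat_lit 3,nat_lit 0,nat_lit 1,nat_lit 4,nat_lit 8,nat_lit 2,nat_lit 6,nat_lit 3,nat_lit 0,nat_lit 1,nat_lit 4,nat_lit 8,nat_lit 2,nat_lit 6,nat_lit 3,nat_lit 0,nat_lit 1,nat_lit 4,nat_lit 8,nat_lit 2,nat_lit 6,nat_lit 3,nat_lit 0,nat_lit 1,nat_lit 4,nat_lit 8,nat_lit 2,nat_lit 6])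
) (.node (.leaf [nat_lit 14,nat_lit 4,nat_lit 1,nat_lit 2,nat_lit 0,nat_lit 2,nat_lit 0,nat_lit 2,nat_lit 0])
 (.leaf [nat_lit 22,nat_lit 2,nat_lit 1,nat_lit 12,nat_lit 10,nat_lit 0,nat_lit 10,nat_lit 0])
)) (.node (.node (.leaf [nat_lit 38,nat_lit 2,nat_lit 1,nat_lit 7,nat_lit 2,nat_lit 7,nat_lit 2])
 (.leaf [nat_lit 79,nat_lit 60,nat_lit 1,nat_lit 3,nat_lit 6,nat_lit 2,nat_lit 10,nat_lit 8,nat_lit 4,nat_lit 1,nat_lit 0,nat_lit 3,nat_lit 6,nat_lit 2,nat_lit 8,nat_lit 4,nat_lit 1,nat_lit 0,nat_lit 3,nat_lit 6,nat_lit 2,nat_lit 8,nat_lit 4,nat_lit 1,nat_lit 0,nat_lit 3,nat_lit 6,nat_lit 2,nat_lit 8,nat_lit 4,nat_lit 1,nat_lit 0,nat_lit 3,nat_lit 6,nat_lit 2,nat_lit 8,nat_lit 4,nat_lit 1,nat_lit 0,nat_lit 3,nat_lit 6,nat_lit 2,nat_lit 8,nat_lit 4,nat_lit 1,nat_lit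 0,nat_lit 3,nat_lit 6,nat_lit 2,nat_lit 8,nat_lit 4,nat_lit 1,nat_lit 0,nat_lit 3,nat_lit 6,nat_lit 2,nat_lit 8,nat_lit 4,nat_lit 1,nat_lit 0,nat_lit 3,nat_lit 6,nat_lit 2,nat_lit 8,nat_lit 4,nat_lit 1,nat_lit 0])
) (.node (.leaf [nat_lit 79,nat_lit 59,nat_lit 1,nat_lit 0,nat_lit 3,nat_lit 6,nat_lit 2,nat_lit 10,nat_lit 8,nat_lit 4,nat_lit 1,nat_lit 0,nat_lit 3,nat_lit 6,nat_lit 2,nat_lit 8,nat_lit 4,nat_lit 1,nat_lit 0,nat_lit 3,nat_lit 6,nat_lit 2,nat_lit 8,nat_lit 4,nat_lit 1,nat_lit 0,nat_lit 3,nat_lit 6,nat_lit 2,nat_lit 8,nat_lit 4,nat_lit 1,nat_lit 0,nat_lit 3,nat_lit 6,nat_lit 2,nat_lit 8,nat_lit 4,nat_lit 1,nat_lit 0,nat_lit 3,nat_lit 6,nat_lit 2,nat_lit 8,nat_lit 4,nat_lit 1,nat_lit 0,nat_lit 3,nat_lit 6,nat_lit 2,nat_lit 8,nat_lit 4,nat_lit 1,nat_lit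 0,nat_lit 3,nat_lit 6,nat_lit 2,nat_lit 8,nat_lit 4,nat_lit 1,nat_lit 0,nat_lit 3,nat_lit 6,nat_lit 2,nat_lit 8,nat_lit 4,nat_lit 1])
 (.leaf [nat_lit 18,nat_lit 2,nat_lit 1,nat_lit 12,nat_lit 6,nat_lit 0,nat_lit 6,nat_lit 0])
)))))) (.node (.node (.node (.node (.node (.node (.node (.leaf [nat_lit 50,nat_lit 1,nat_lit 1,nat_lit 3,nat_lit 11,nat_lit 3,nat_lit 11])
 (.leaf [nat_lit 36,nat_lit 2,nat_lit 1,nat_lit 12,nat_lit 5,nat_lit 2,nat_lit 5,nat_lit 2,nat_lit 5,nat_lit 2])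
) (.leaf [nat_lit 79,nat_lit 6,nat_lit 0,nat_lit 4,nat_lit 8,nat_lit 2,nat_lit 6,nat_lit 3,nat_lit 0,nat_lit 1,nat_lit 4,nat_lit 8,nat_lit 2,nat_lit 6,nat_lit 3,nat_lit 0,nat_lit 1,nat_lit 4,nat_lit 8,nat_lit 2,nat_lit 6,nat_lit 3,nat_lit 0,nat_lit 1,nat_lit 4,nat_lit 8,nat_lit 2,nat_lit 6,nat_lit 3,nat_lit 0,nat_lit 1,nat_lit 4,nat_lit 8,nat_lit 2,nat_lit 6,nat_lit 3,nat_lit 0,nat_lit 1,nat_lit 4,nat_lit 8,nat_lit 2,nat_lit 6,nat_lit 3,nat_lit 0,nat_lit 1,nat_lit 4,nat_lit 8,nat_lit 2,nat_lit 6,nat_lit 3,nat_lit 0,nat_lit 1,nat_lit 4,nat_lit 8,nat_lit 2,nat_lit 6,nat_lit 3,nat_lit 0,nat_lit 1,nat_lit 4,nat_lit 8,nat_lit 10,nat_lit 2,nat_lit 6,nat_lit 3,nat_lit 0,nat_lit 1])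
) (.node (.leaf [nat_lit 43,nat_lit 2,nat_lit 1,nat_lit 4,nat_lit 3,nat_lit 4,nat_lit 3])
 (.leaf [nat_lit 80,nat_lit 224,nat_lit 0,nat_lit 0,nat_lit 1,nat_lit 4,nat_lit 8,nat_lit 11,nat_lit 10,nat_lit 0,nat_lit 3,nat_lit 6,nat_lit 7,nat_lit 9,nat_lit 0,nat_lit 2,nat_lit 5,nat_lit 0,nat_lit 1,nat_lit 4,nat_lit 8,nat_lit 11,nat_lit 10,nat_lit 0,nat_lit 3,nat_lit 6,nat_lit 7,nat_lit 9,nat_lit 0,nat_lit 2,nat_lit 5,nat_lit 0,nat_lit 1,nat_lit 4,nat_lit 8,nat_lit 11,nat_lit 10,nat_lit 0,nat_lit 3,nat_lit 6,nat_lit 7,nat_lit 9,nat_lit 0,nat_lit 2,nat_lit 5,nat_lit 0,nat_lit 1,nat_lit 4,nat_lit 8,nat_lit 11,nat_lit 10,nat_lit 0,nat_lit 3,nat_lit 6,nat_lit 7,nat_lit 9,nat_lit 0,nat_lit 2,nat_lit 5,nat_lit 0,nat_lit 1,nat_lit 4,nat_lit 8,nat_lit 11,nat_lit 10,nat_lit 0,nat_lit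 3,nat_lit 6,nat_lit 7,nat_lit 9,nat_lit 0,nat_lit 2,nat_lit 5,nat_lit 0,nat_lit 1,nat_lit 4,nat_lit 8,nat_lit 11,nat_lit 10,nat_lit 0,nat_lit 3,nat_lit 6,nat_lit 7,nat_lit 9,nat_lit 0,nat_lit 2,nat_lit 5,nat_lit 0,nat_lit 1,nat_lit 4,nat_lit 8,nat_lit 11,nat_lit 10,nat_lit 0,nat_lit 3,nat_lit 6,nat_lit 7,nat_lit 9,nat_lit 0,nat_lit 2,nat_lit 5,nat_lit 0,nat_lit 1,nat_lit 4,nat_lit 8,nat_lit 11,nat_lit 10,nat_lit 0,nat_lit 3,nat_lit 6,nat_lit 7,nat_lit 9,nat_lit 0,nat_lit 2,nat_lit 5,nat_lit 0,nat_lit 1,nat_lit 4,nat_lit 8,nat_lit 11,nat_lit 10,nat_lit 0,nat_lit 3,nat_lit 6,nat_lit 7,nat_lit 9,nat_lit 0,nat_lit 2,nat_lit 5,nat_lit 0,nat_lit 1,nat_lit 4,nat_lit 8,nat_lit 11,nat_lit 10,nat_lit 0,nat_lit 3,nat_lit 6,nat_lit 7,nat_lit 9,nat_lit 0,nat_lit 2,nat_lit 5,nat_lit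 0,nat_lit 1,nat_lit 4,nat_lit 8,nat_lit 11,nat_lit 10,nat_lit 0,nat_lit 3,nat_lit 6,nat_lit 7,nat_lit 9,nat_lit 0,nat_lit 2,nat_lit 5,nat_lit 0,nat_lit 1,nat_lit 4,nat_lit 8,nat_lit 11,nat_lit 10,nat_lit 0,nat_lit 3,nat_lit 6,nat_lit 7,nat_lit 9,nat_lit 0,nat_lit 2,nat_lit 5,nat_lit 0,nat_lit 1,nat_lit 4,nat_lit 8,nat_lit 11,nat_lit 10,nat_lit 0,nat_lit 3,nat_lit 6,nat_lit 7,nat_lit 9,nat_lit 0,nat_lit 2,nat_lit 5,nat_lit 0,nat_lit 1,nat_lit 4,nat_lit 8,nat_lit 11,nat_lit 10,nat_lit 0,nat_lit 3,nat_lit 6,nat_lit 7,nat_lit 9,nat_lit 0,nat_lit 2,nat_lit 5,nat_lit 0,nat_lit 1,nat_lit 4,nat_lit 8,nat_lit 11,nat_lit 10,nat_lit 0,nat_lit 3,nat_lit 6,nat_lit 7,nat_lit 9,nat_lit 0,nat_lit 2,nat_lit 5,nat_lit 0,nat_lit 1,nat_lit 4,nat_lit 8,nat_lit 11,nat_lit 10,nat_lit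 0,nat_lit 3,nat_lit 6,nat_lit 7,nat_lit 9,nat_lit 0,nat_lit 2,nat_lit 5,nat_lit 0,nat_lit 1,nat_lit 4,nat_lit 8,nat_lit 11,nat_lit 10,nat_lit 0,nat_lit 3,nat_lit 6,nat_lit 7,nat_lit 9,nat_lit 0,nat_lit 2,nat_lit 5])
)) (.node (.node (.node (.leaf [nat_lit 55,nat_lit 2,nat_lit 1,nat_lit 9,nat_lit 4,nat_lit 9,nat_lit 4])
 (.leaf [nat_lit 42,nat_lit 1,nat_lit 1,nat_lit 12,nat_lit 2,nat_lit 11,nat_lit 2,nat_lit 11])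
) (.leaf [nat_lit 80,nat_lit 232,nat_lit 1,nat_lit 10,nat_lit 11,nat_lit 8,nat_lit 4,nat_lit 1,nat_lit 0,nat_lit 5,nat_lit 2,nat_lit 0,nat_lit 9,nat_lit 7,nat_lit 6,nat_lit 3,nat_lit 0,nat_lit 10,nat_lit 11,nat_lit 8,nat_lit 4,nat_lit 1,nat_lit 0,nat_lit 5,nat_lit 2,nat_lit 0,nat_lit 9,nat_lit 7,nat_lit 6,nat_lit 3,nat_lit 0,nat_lit 10,nat_lit 11,nat_lit 8,nat_lit 4,nat_lit 1,nat_lit 0,nat_lit 5,nat_lit 2,nat_lit 0,nat_lit 9,nat_lit 7,nat_lit 6,nat_lit 3,nat_lit 0,nat_lit 10,nat_lit 11,nat_lit 8,nat_lit 4,nat_lit 1,nat_lit 0,nat_lit 5,nat_lit 2,nat_lit 0,nat_lit 9,nat_lit 7,nat_lit 6,nat_lit 3,nat_lit 0,nat_lit 10,nat_lit 11,nat_lit 8,nat_lit 4,nat_lit 1,nat_lit 0,nat_lit 5,nat_lit 2,nat_lit 0,nat_lit 9,nat_lit 7,nat_lit 6,nat_lit 3,nat_lit 0,nat_lit 10,nat_lit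 11,nat_lit 8,nat_lit 4,nat_lit 1,nat_lit 0,nat_lit 5,nat_lit 2,nat_lit 0,nat_lit 9,nat_lit 7,nat_lit 6,nat_lit 3,nat_lit 0,nat_lit 10,nat_lit 11,nat_lit 8,nat_lit 4,nat_lit 1,nat_lit 0,nat_lit 5,nat_lit 2,nat_lit 0,nat_lit 9,nat_lit 7,nat_lit 6,nat_lit 3,nat_lit 0,nat_lit 10,nat_lit 11,nat_lit 8,nat_lit 4,nat_lit 1,nat_lit 0,nat_lit 5,nat_lit 2,nat_lit 0,nat_lit 9,nat_lit 7,nat_lit 6,nat_lit 3,nat_lit 0,nat_lit 10,nat_lit 11,nat_lit 8,nat_lit 4,nat_lit 1,nat_lit 0,nat_lit 5,nat_lit 2,nat_lit 0,nat_lit 9,nat_lit 7,nat_lit 6,nat_lit 3,nat_lit 0,nat_lit 10,nat_lit 11,nat_lit 8,nat_lit 4,nat_lit 1,nat_lit 0,nat_lit 5,nat_lit 2,nat_lit 0,nat_lit 9,nat_lit 7,nat_lit 6,nat_lit 3,nat_lit 0,nat_lit 10,nat_lit 11,nat_lit 8,nat_lit 4,nat_lit 1,nat_lit 0,nat_lit 5,nat_lit 2,nat_lit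 0,nat_lit 9,nat_lit 7,nat_lit 6,nat_lit 3,nat_lit 0,nat_lit 10,nat_lit 11,nat_lit 8,nat_lit 4,nat_lit 1,nat_lit 0,nat_lit 5,nat_lit 2,nat_lit 0,nat_lit 9,nat_lit 7,nat_lit 6,nat_lit 3,nat_lit 0,nat_lit 10,nat_lit 11,nat_lit 8,nat_lit 4,nat_lit 1,nat_lit 0,nat_lit 5,nat_lit 2,nat_lit 0,nat_lit 9,nat_lit 7,nat_lit 6,nat_lit 3,nat_lit 0,nat_lit 10,nat_lit 11,nat_lit 8,nat_lit 4,nat_lit 1,nat_lit 0,nat_lit 5,nat_lit 2,nat_lit 0,nat_lit 9,nat_lit 7,nat_lit 6,nat_lit 3,nat_lit 0,nat_lit 10,nat_lit 11,nat_lit 8,nat_lit 4,nat_lit 1,nat_lit 0,nat_lit 5,nat_lit 2,nat_lit 0,nat_lit 9,nat_lit 7,nat_lit 6,nat_lit 3,nat_lit 0,nat_lit 10,nat_lit 11,nat_lit 8,nat_lit 4,nat_lit 1,nat_lit 0,nat_lit 5,nat_lit 2,nat_lit 0,nat_lit 9,nat_lit 7,nat_lit 6,nat_lit 3,nat_lit 0,nat_lit 10,nat_lit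 11,nat_lit 8,nat_lit 4,nat_lit 1,nat_lit 0,nat_lit 5,nat_lit 2,nat_lit 0,nat_lit 9,nat_lit 7,nat_lit 6,nat_lit 3,nat_lit 0])
) (.node (.leaf [nat_lit 46,nat_lit 1,nat_lit 1,nat_lit 3,nat_lit 7,nat_lit 3,nat_lit 7])
 (.leaf [nat_lit 70,nat_lit 4,nat_lit 1,nat_lit 12,nat_lit 9,nat_lit 7,nat_lit 9,nat_lit 7,nat_lit 9,nat_lit 7])
))) (.node (.node (.node (.node (.leaf [nat_lit 32,nat_lit 1,nat_lit 1,nat_lit 1,nat_lit 10,nat_lit 1,nat_lit 10])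
 (.leaf [nat_lit 55,nat_lit 3,nat_lit 1,nat_lit 12,nat_lit 4,nat_lit 9,nat_lit 4,nat_lit 9])
) (.leaf [nat_lit 79,nat_lit 60,nat_lit 0,nat_lit 0,nat_lit 1,nat_lit 4,nat_lit 8,nat_lit 10,nat_lit 2,nat_lit 6,nat_lit 3,nat_lit 0,nat_lit 1,nat_lit 4,nat_lit 8,nat_lit 2,nat_lit 6,nat_lit 3,nat_lit 0,nat_lit 1,nat_lit 4,nat_lit 8,nat_lit 2,nat_lit 6,nat_lit 3,nat_lit 0,nat_lit 1,nat_lit 4,nat_lit 8,nat_lit 2,nat_lit 6,nat_lit 3,nat_lit 0,nat_lit 1,nat_lit 4,nat_lit 8,nat_lit 2,nat_lit 6,nat_lit 3,nat_lit 0,nat_lit 1,nat_lit 4,nat_lit 8,nat_lit 2,nat_lit 6,nat_lit 3,nat_lit 0,nat_lit 1,nat_lit 4,nat_lit 8,nat_lit 2,nat_lit 6,nat_lit 3,nat_lit 0,nat_lit 1,nat_lit 4,nat_lit 8,nat_lit 2,nat_lit 6,nat_lit 3,nat_lit 0,nat_lit 1,nat_lit 4,nat_lit 8,nat_lit 2,nat_lit 6,nat_lit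 3])
) (.node (.leaf [nat_lit 61,nat_lit 2,nat_lit 1,nat_lit 9,nat_lit 5,nat_lit 9,nat_lit 5])
 (.leaf [nat_lit 20,nat_lit 3,nat_lit 1,nat_lit 12,nat_lit 0,nat_lit 8,nat_lit 0,nat_lit 8])
)) (.node (.node (.leaf [nat_lit 17,nat_lit 2,nat_lit 1,nat_lit 5,nat_lit 0,nat_lit 5,nat_lit 0])
 (.leaf [nat_lit 80,nat_lit 225,nat_lit 0,nat_lit 1,nat_lit 4,nat_lit 8,nat_lit 11,nat_lit 10,nat_lit 0,nat_lit 3,nat_lit 6,nat_lit 7,nat_lit 9,nat_lit 0,nat_lit 2,nat_lit 5,nat_lit 0,nat_lit 1,nat_lit 4,nat_lit 8,nat_lit 11,nat_lit 10,nat_lit 0,nat_lit 3,nat_lit 6,nat_lit 7,nat_lit 9,nat_lit 0,nat_lit 2,nat_lit 5,nat_lit 0,nat_lit 1,nat_lit 4,nat_lit 8,nat_lit 11,nat_lit 10,nat_lit 0,nat_lit 3,nat_lit 6,nat_lit 7,nat_lit 9,nat_lit 0,nat_lit 2,nat_lit 5,nat_lit 0,nat_lit 1,nat_lit 4,nat_lit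 8,nat_lit 11,nat_lit 10,nat_lit 0,nat_lit 3,nat_lit 6,nat_lit 7,nat_lit 9,nat_lit 0,nat_lit 2,nat_lit 5,nat_lit 0,nat_lit 1,nat_lit 4,nat_lit 8,nat_lit 11,nat_lit 10,nat_lit 0,nat_lit 3,nat_lit 6,nat_lit 7,nat_lit 9,nat_lit 0,nat_lit 2,nat_lit 5,nat_lit 0,nat_lit 1,nat_lit 4,nat_lit 8,nat_lit 11,nat_lit 10,nat_lit 0,nat_lit 3,nat_lit 6,nat_lit 7,nat_lit 9,nat_lit 0,nat_lit 2,nat_lit 5,nat_lit 0,nat_lit 1,nat_lit 4,nat_lit 8,nat_lit 11,nat_lit 10,nat_lit 0,nat_lit 3,nat_lit 6,nat_lit 7,nat_lit 9,nat_lit 0,nat_lit 2,nat_lit 5,nat_lit 0,nat_lit 1,nat_lit 4,nat_lit 8,nat_lit 11,nat_lit 10,nat_lit 0,nat_lit 3,nat_lit 6,nat_lit 7,nat_lit 9,nat_lit 0,nat_lit 2,nat_lit 5,nat_lit 0,nat_lit 1,nat_lit 4,nat_lit 8,nat_lit 11,nat_lit 10,nat_lit 0,nat_lit 3,nat_lit 6,nat_lit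 7,nat_lit 9,nat_lit 0,nat_lit 2,nat_lit 5,nat_lit 0,nat_lit 1,nat_lit 4,nat_lit 8,nat_lit 11,nat_lit 10,nat_lit 0,nat_lit 3,nat_lit 6,nat_lit 7,nat_lit 9,nat_lit 0,nat_lit 2,nat_lit 5,nat_lit 0,nat_lit 1,nat_lit 4,nat_lit 8,nat_lit 11,nat_lit 10,nat_lit 0,nat_lit 3,nat_lit 6,nat_lit 7,nat_lit 9,nat_lit 0,nat_lit 2,nat_lit 5,nat_lit 0,nat_lit 1,nat_lit 4,nat_lit 8,nat_lit 11,nat_lit 10,nat_lit 0,nat_lit 3,nat_lit 6,nat_lit 7,nat_lit 9,nat_lit 0,nat_lit 2,nat_lit 5,nat_lit 0,nat_lit 1,nat_lit 4,nat_lit 8,nat_lit 11,nat_lit 10,nat_lit 0,nat_lit 3,nat_lit 6,nat_lit 7,nat_lit 9,nat_lit 0,nat_lit 2,nat_lit 5,nat_lit 0,nat_lit 1,nat_lit 4,nat_lit 8,nat_lit 11,nat_lit 10,nat_lit 0,nat_lit 3,nat_lit 6,nat_lit 7,nat_lit 9,nat_lit 0,nat_lit 2,nat_lit 5,nat_lit 0,nat_lit 1,nat_lit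 4,nat_lit 8,nat_lit 11,nat_lit 10,nat_lit 0,nat_lit 3,nat_lit 6,nat_lit 7,nat_lit 9,nat_lit 0,nat_lit 2,nat_lit 5,nat_lit 0,nat_lit 1,nat_lit 4,nat_lit 8,nat_lit 11,nat_lit 10,nat_lit 0,nat_lit 3,nat_lit 6,nat_lit 7,nat_lit 9,nat_lit 0,nat_lit 2,nat_lit 5,nat_lit 0,nat_lit 1,nat_lit 4,nat_lit 8,nat_lit 11,nat_lit 10,nat_lit 0,nat_lit 3,nat_lit 6,nat_lit 7,nat_lit 9,nat_lit 0,nat_lit 2,nat_lit 5,nat_lit 0])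
) (.node (.leaf [nat_lit 70,nat_lit 3,nat_lit 1,nat_lit 7,nat_lit 9,nat_lit 7,nat_lit 9,nat_lit 7,nat_lit 9])
 (.leaf [nat_lit 46,nat_lit 3,nat_lit 1,nat_lit 12,nat_lit 3,nat_lit 7,nat_lit 3,nat_lit 7])
)))) (.node (.node (.node (.node (.node (.leaf [nat_lit 39,nat_lit 1,nat_lit 1,nat_lit 2,nat_lit 8,nat_lit 2,nat_lit 8])
 (.leaf [nat_lit 15,nat_lit 3,nat_lit 1,nat_lit 12,nat_lit 0,nat_lit 3,nat_lit 0,nat_lit 3,nat_lit 0,nat_lit 3])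
) (.leaf [nat_lit 79,nat_lit 31,nat_lit 0,nat_lit 3,nat_lit 0,nat_lit 1,nat_lit 4,nat_lit 8,nat_lit 2,nat_lit 6,nat_lit 3,nat_lit 0,nat_lit 1,nat_lit 4,nat_lit 8,nat_lit 2,nat_lit 6,nat_lit 3,nat_lit 0,nat_lit 1,nat_lit 4,nat_lit 8,nat_lit 2,nat_lit 6,nat_lit 3,nat_lit 0,nat_lit 1,nat_lit 4,nat_lit 8,nat_lit 2,nat_lit 6,nat_lit 3,nat_lit 0,nat_lit 1,nat_lit 4,nat_lit 8,nat_lit 10,nat_lit 2,nat_lit 6,nat_lit 3,nat_lit 0,nat_lit 1,nat_lit 4,nat_lit 8,nat_lit 2,nat_lit 6,nat_lit 3,nat_lit 0,nat_lit 1,nat_lit 4,nat_lit 8,nat_lit 2,nat_lit 6,nat_lit 3,nat_lit 0,nat_lit 1,nat_lit 4,nat_lit 8,nat_lit 2,nat_lit 6,nat_lit 3,nat_lit 0,nat_lit 1,nat_lit 4,nat_lit 8,nat_lit 2,nat_lit 6])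
) (.node (.leaf [nat_lit 34,nat_lit 1,nat_lit 1,nat_lit 2,nat_lit 3,nat_lit 2,nat_lit 3])
 (.leaf [nat_lit 22,nat_lit 3,nat_lit 1,nat_lit 12,nat_lit 0,nat_lit 10,nat_lit 0,nat_lit 10])
)) (.node (.node (.leaf [nat_lit 29,nat_lit 2,nat_lit 1,nat_lit 7,nat_lit 1,nat_lit 7,nat_lit 1])
 (.leaf [nat_lit 79,nat_lit 63,nat_lit 0,nat_lit 8,nat_lit 10,nat_lit 2,nat_lit 6,nat_lit 3,nat_lit 0,nat_lit 1,nat_lit 4,nat_lit 8,nat_lit 2,nat_lit 6,nat_lit 3,nat_lit 0,nat_lit 1,nat_lit 4,nat_lit 8,nat_lit 2,nat_lit 6,nat_lit 3,nat_lit 0,nat_lit 1,nat_lit 4,nat_lit 8,nat_lit 2,nat_lit 6,nat_lit 3,nat_lit 0,nat_lit 1,nat_lit 4,nat_lit 8,nat_lit 2,nat_lit 6,nat_lit 3,nat_lit 0,nat_lit 1,nat_lit 4,nat_lit 8,nat_lit 2,nat_lit 6,nat_lit 3,nat_lit 0,nat_lit 1,nat_lit 4,nat_lit 8,nat_lit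 2,nat_lit 6,nat_lit 3,nat_lit 0,nat_lit 1,nat_lit 4,nat_lit 8,nat_lit 2,nat_lit 6,nat_lit 3,nat_lit 0,nat_lit 1,nat_lit 4,nat_lit 8,nat_lit 2,nat_lit 6,nat_lit 3,nat_lit 0,nat_lit 1,nat_lit 4])
) (.node (.leaf [nat_lit 13,nat_lit 3,nat_lit 1,nat_lit 0,nat_lit 1,nat_lit 0,nat_lit 1,nat_lit 0,nat_lit 1])
 (.leaf [nat_lit 42,nat_lit 2,nat_lit 1,nat_lit 12,nat_lit 11,nat_lit 2,nat_lit 11,nat_lit 2])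
))) (.node (.node (.node (.node (.leaf [nat_lit 78,nat_lit 4,nat_lit 1,nat_lit 11,nat_lit 10,nat_lit 11,nat_lit 10,nat_lit 11,nat_lit 10])
 (.leaf [nat_lit 2,nat_lit 0,nat_lit 0,nat_lit 12,nat_lit 1,nat_lit 1])
) (.leaf [nat_lit 79,nat_lit 14,nat_lit 0,nat_lit 8,nat_lit 2,nat_lit 6,nat_lit 3,nat_lit 0,nat_lit 1,nat_lit 4,nat_lit 8,nat_lit 2,nat_lit 6,nat_lit 3,nat_lit 0,nat_lit 1,nat_lit 4,nat_lit 8,nat_lit 2,nat_lit 6,nat_lit 3,nat_lit 0,nat_lit 1,nat_lit 4,nat_lit 8,nat_lit 2,nat_lit 6,nat_lit 3,nat_lit 0,nat_lit 1,nat_lit 4,nat_lit 8,nat_lit 2,nat_lit 6,nat_lit 3,nat_lit 0,nat_lit 1,nat_lit 4,nat_lit 8,nat_lit 2,nat_lit 6,nat_lit 3,nat_lit 0,nat_lit 1,nat_lit 4,nat_lit 8,nat_lit 2,nat_lit 6,nat_lit 3,nat_lit 0,nat_lit 1,nat_lit 4,nat_lit 8,nat_lit 10,nat_lit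 2,nat_lit 6,nat_lit 3,nat_lit 0,nat_lit 1,nat_lit 4,nat_lit 8,nat_lit 2,nat_lit 6,nat_lit 3,nat_lit 0,nat_lit 1,nat_lit 4])
) (.node (.leaf [nat_lit 66,nat_lit 2,nat_lit 1,nat_lit 9,nat_lit 6,nat_lit 9,nat_lit 6])
 (.leaf [nat_lit 18,nat_lit 1,nat_lit 1,nat_lit 12,nat_lit 0,nat_lit 6,nat_lit 0,nat_lit 6])
)) (.node (.node (.leaf [nat_lit 35,nat_lit 2,nat_lit 1,nat_lit 4,nat_lit 2,nat_lit 4,nat_lit 2])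
 (.leaf [nat_lit 79,nat_lit 28,nat_lit 0,nat_lit 8,nat_lit 2,nat_lit 6,nat_lit 3,nat_lit 0,nat_lit 1,nat_lit 4,nat_lit 8,nat_lit 2,nat_lit 6,nat_lit 3,nat_lit 0,nat_lit 1,nat_lit 4,nat_lit 8,nat_lit 2,nat_lit 6,nat_lit 3,nat_lit 0,nat_lit 1,nat_lit 4,nat_lit 8,nat_lit 2,nat_lit 6,nat_lit 3,nat_lit 0,nat_lit 1,nat_lit 4,nat_lit 8,nat_lit 2,nat_lit 6,nat_lit 3,nat_lit 0,nat_lit 1,nat_lit 4,nat_lit 8,nat_lit 10,nat_lit 2,nat_lit 6,nat_lit 3,nat_lit 0,nat_lit 1,nat_lit 4,nat_lit 8,nat_lit 2,nat_lit 6,nat_lit 3,nat_lit 0,nat_lit 1,nat_lit 4,nat_lit 8,nat_lit 2,nat_lit 6,nat_lit 3,nat_lit 0,nat_lit 1,nat_lit 4,nat_lit 8,nat_lit 2,nat_lit 6,nat_lit 3,nat_lit 0,nat_lit 1,nat_lit 4])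
) (.node (.leaf [nat_lit 64,nat_lit 4,nat_lit 1,nat_lit 7,nat_lit 6,nat_lit 7,nat_lit 6,nat_lit 7,nat_lit 6])
 (.leaf [nat_lit 24,nat_lit 2,nat_lit 1,nat_lit 12,nat_lit 2,nat_lit 1,nat_lit 2,nat_lit 1])
))))) (.node (.node (.node (.node (.node (.node (.leaf [nat_lit 72,nat_lit 1,nat_lit 1,nat_lit 7,nat_lit 11,nat_lit 7,nat_lit 11])
 (.leaf [nat_lit 58,nat_lit 1,nat_lit 1,nat_lit 12,nat_lit 5,nat_lit 6,nat_lit 5,nat_lit 6])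
) (.leaf [nat_lit 76,nat_lit 2,nat_lit 1,nat_lit 10,nat_lit 9,nat_lit 10,nat_lit 9])
) (.node (.leaf [nat_lit 48,nat_lit 2,nat_lit 1,nat_lit 9,nat_lit 3,nat_lit 9,nat_lit 3])
 (.leaf [nat_lit 34,nat_lit 1,nat_lit 1,nat_lit 12,nat_lit 2,nat_lit 3,nat_lit 2,nat_lit 3])
)) (.node (.node (.node (.leaf [nat_lit 25,nat_lit 2,nat_lit 1,nat_lit 3,nat_lit 1,nat_lit 3,nat_lit 1])
 (.leaf [nat_lit 79,nat_lit 5,nat_lit 1,nat_lit 12,nat_lit 6,nat_lit 2,nat_lit 8,nat_lit 4,nat_lit 1,nat_lit 0,nat_lit 3,nat_lit 6,nat_lit 2,nat_lit 8,nat_lit 4,nat_lit 1,nat_lit 0,nat_lit 3,nat_lit 6,nat_lit 2,nat_lit 8,nat_lit 4,nat_lit 1,nat_lit 0,nat_lit 3,nat_lit 6,nat_lit 2,nat_lit 8,nat_lit 4,nat_lit 1,nat_lit 0,nat_lit 3,nat_lit 6,nat_lit 2,nat_lit 8,nat_lit 4,nat_lit 1,nat_lit 0,nat_lit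 3,nat_lit 6,nat_lit 2,nat_lit 8,nat_lit 4,nat_lit 1,nat_lit 0,nat_lit 3,nat_lit 6,nat_lit 2,nat_lit 8,nat_lit 4,nat_lit 1,nat_lit 0,nat_lit 3,nat_lit 6,nat_lit 2,nat_lit 8,nat_lit 4,nat_lit 1,nat_lit 0,nat_lit 3,nat_lit 6,nat_lit 2,nat_lit 10,nat_lit 8,nat_lit 4,nat_lit 1,nat_lit 0,nat_lit 3])
) (.leaf [nat_lit 79,nat_lit 47,nat_lit 1,nat_lit 6,nat_lit 2,nat_lit 8,nat_lit 4,nat_lit 1,nat_lit 0,nat_lit 3,nat_lit 6,nat_lit 2,nat_lit 8,nat_lit 4,nat_lit 1,nat_lit 0,nat_lit 3,nat_lit 6,nat_lit 2,nat_lit 10,nat_lit 8,nat_lit 4,nat_lit 1,nat_lit 0,nat_lit 3,nat_lit 6,nat_lit 2,nat_lit 8,nat_lit 4,nat_lit 1,nat_lit 0,nat_lit 3,nat_lit 6,nat_lit 2,nat_lit 8,nat_lit 4,nat_lit 1,nat_lit 0,nat_lit 3,nat_lit 6,nat_lit 2,nat_lit 8,nat_lit 4,nat_lit 1,nat_lit 0,nat_lit 3,nat_lit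 6,nat_lit 2,nat_lit 8,nat_lit 4,nat_lit 1,nat_lit 0,nat_lit 3,nat_lit 6,nat_lit 2,nat_lit 8,nat_lit 4,nat_lit 1,nat_lit 0,nat_lit 3,nat_lit 6,nat_lit 2,nat_lit 8,nat_lit 4,nat_lit 1,nat_lit 0,nat_lit 3])
) (.node (.leaf [nat_lit 69,nat_lit 2,nat_lit 1,nat_lit 8,nat_lit 7,nat_lit 8,nat_lit 7])
 (.leaf [nat_lit 40,nat_lit 3,nat_lit 1,nat_lit 12,nat_lit 2,nat_lit 9,nat_lit 2,nat_lit 9])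
))) (.node (.node (.node (.node (.leaf [nat_lit 62,nat_lit 1,nat_lit 1,nat_lit 5,nat_lit 10,nat_lit 5,nat_lit 10])
 (.leaf [nat_lit 1,nat_lit 0,nat_lit 0,nat_lit 12,nat_lit 0,nat_lit 0])
) (.leaf [nat_lit 79,nat_lit 54,nat_lit 0,nat_lit 1,nat_lit 4,nat_lit 8,nat_lit 2,nat_lit 6,nat_lit 3,nat_lit 0,nat_lit 1,nat_lit 4,nat_lit 8,nat_lit 10,nat_lit 2,nat_lit 6,nat_lit 3,nat_lit 0,nat_lit 1,nat_lit 4,nat_lit 8,nat_lit 2,nat_lit 6,nat_lit 3,nat_lit 0,nat_lit 1,nat_lit 4,nat_lit 8,nat_lit 2,nat_lit 6,nat_lit 3,nat_lit 0,nat_lit 1,nat_lit 4,nat_lit 8,nat_lit 2,nat_lit 6,nat_lit 3,nat_lit 0,nat_lit 1,nat_lit 4,nat_lit 8,nat_lit 2,nat_lit 6,nat_lit 3,nat_lit 0,nat_lit 1,nat_lit 4,nat_lit 8,nat_lit 2,nat_lit 6,nat_lit 3,nat_lit 0,nat_lit 1,nat_lit 4,nat_lit 8,nat_lit 2,nat_lit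 6,nat_lit 3,nat_lit 0,nat_lit 1,nat_lit 4,nat_lit 8,nat_lit 2,nat_lit 6,nat_lit 3,nat_lit 0])
) (.node (.leaf [nat_lit 45,nat_lit 3,nat_lit 1,nat_lit 3,nat_lit 6,nat_lit 3,nat_lit 6,nat_lit 3,nat_lit 6])
 (.leaf [nat_lit 50,nat_lit 0,nat_lit 1,nat_lit 12,nat_lit 11,nat_lit 3,nat_lit 11,nat_lit 3])
)) (.node (.node (.leaf [nat_lit 21,nat_lit 2,nat_lit 1,nat_lit 9,nat_lit 0,nat_lit 9,nat_lit 0])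
 (.leaf [nat_lit 80,nat_lit 223,nat_lit 0,nat_lit 5,nat_lit 0,nat_lit 1,nat_lit 4,nat_lit 8,nat_lit 11,nat_lit 10,nat_lit 0,nat_lit 3,nat_lit 6,nat_lit 7,nat_lit 9,nat_lit 0,nat_lit 2,nat_lit 5,nat_lit 0,nat_lit 1,nat_lit 4,nat_lit 8,nat_lit 11,nat_lit 10,nat_lit 0,nat_lit 3,nat_lit 6,nat_lit 7,nat_lit 9,nat_lit 0,nat_lit 2,nat_lit 5,nat_lit 0,nat_lit 1,nat_lit 4,nat_lit 8,nat_lit 11,nat_lit 10,nat_lit 0,nat_lit 3,nat_lit 6,nat_lit 7,nat_lit 9,nat_lit 0,nat_lit 2,nat_lit 5,nat_lit 0,nat_lit 1,nat_lit 4,nat_lit 8,nat_lit 11,nat_lit 10,nat_lit 0,nat_lit 3,nat_lit 6,nat_lit 7,nat_lit 9,nat_lit 0,nat_lit 2,nat_lit 5,nat_lit 0,nat_lit 1,nat_lit 4,nat_lit 8,nat_lit 11,nat_lit 10,nat_lit 0,nat_lit 3,nat_lit 6,nat_lit 7,nat_lit 9,nat_lit 0,nat_lit 2,nat_lit 5,nat_lit 0,nat_lit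 1,nat_lit 4,nat_lit 8,nat_lit 11,nat_lit 10,nat_lit 0,nat_lit 3,nat_lit 6,nat_lit 7,nat_lit 9,nat_lit 0,nat_lit 2,nat_lit 5,nat_lit 0,nat_lit 1,nat_lit 4,nat_lit 8,nat_lit 11,nat_lit 10,nat_lit 0,nat_lit 3,nat_lit 6,nat_lit 7,nat_lit 9,nat_lit 0,nat_lit 2,nat_lit 5,nat_lit 0,nat_lit 1,nat_lit 4,nat_lit 8,nat_lit 11,nat_lit 10,nat_lit 0,nat_lit 3,nat_lit 6,nat_lit 7,nat_lit 9,nat_lit 0,nat_lit 2,nat_lit 5,nat_lit 0,nat_lit 1,nat_lit 4,nat_lit 8,nat_lit 11,nat_lit 10,nat_lit 0,nat_lit 3,nat_lit 6,nat_lit 7,nat_lit 9,nat_lit 0,nat_lit 2,nat_lit 5,nat_lit 0,nat_lit 1,nat_lit 4,nat_lit 8,nat_lit 11,nat_lit 10,nat_lit 0,nat_lit 3,nat_lit 6,nat_lit 7,nat_lit 9,nat_lit 0,nat_lit 2,nat_lit 5,nat_lit 0,nat_lit 1,nat_lit 4,nat_lit 8,nat_lit 11,nat_lit 10,nat_lit 0,nat_lit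 3,nat_lit 6,nat_lit 7,nat_lit 9,nat_lit 0,nat_lit 2,nat_lit 5,nat_lit 0,nat_lit 1,nat_lit 4,nat_lit 8,nat_lit 11,nat_lit 10,nat_lit 0,nat_lit 3,nat_lit 6,nat_lit 7,nat_lit 9,nat_lit 0,nat_lit 2,nat_lit 5,nat_lit 0,nat_lit 1,nat_lit 4,nat_lit 8,nat_lit 11,nat_lit 10,nat_lit 0,nat_lit 3,nat_lit 6,nat_lit 7,nat_lit 9,nat_lit 0,nat_lit 2,nat_lit 5,nat_lit 0,nat_lit 1,nat_lit 4,nat_lit 8,nat_lit 11,nat_lit 10,nat_lit 0,nat_lit 3,nat_lit 6,nat_lit 7,nat_lit 9,nat_lit 0,nat_lit 2,nat_lit 5,nat_lit 0,nat_lit 1,nat_lit 4,nat_lit 8,nat_lit 11,nat_lit 10,nat_lit 0,nat_lit 3,nat_lit 6,nat_lit 7,nat_lit 9,nat_lit 0,nat_lit 2,nat_lit 5,nat_lit 0,nat_lit 1,nat_lit 4,nat_lit 8,nat_lit 11,nat_lit 10,nat_lit 0,nat_lit 3,nat_lit 6,nat_lit 7,nat_lit 9,nat_lit 0,nat_lit 2,nat_lit 5,nat_lit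 0,nat_lit 1,nat_lit 4,nat_lit 8,nat_lit 11,nat_lit 10,nat_lit 0,nat_lit 3,nat_lit 6,nat_lit 7,nat_lit 9,nat_lit 0,nat_lit 2])
) (.node (.leaf [nat_lit 36,nat_lit 4,nat_lit 1,nat_lit 5,nat_lit 2,nat_lit 5,nat_lit 2,nat_lit 5,nat_lit 2])
 (.leaf [nat_lit 71,nat_lit 2,nat_lit 1,nat_lit 12,nat_lit 10,nat_lit 7,nat_lit 10,nat_lit 7])
)))) (.node (.node (.node (.node (.node (.leaf [nat_lit 69,nat_lit 1,nat_lit 1,nat_lit 7,nat_lit 8,nat_lit 7,nat_lit 8])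
 (.leaf [nat_lit 17,nat_lit 1,nat_lit 1,nat_lit 12,nat_lit 0,nat_lit 5,nat_lit 0,nat_lit 5])
) (.leaf [nat_lit 79,nat_lit 49,nat_lit 0,nat_lit 8,nat_lit 2,nat_lit 6,nat_lit 3,nat_lit 0,nat_lit 1,nat_lit 4,nat_lit 8,nat_lit 2,nat_lit 6,nat_lit 3,nat_lit 0,nat_lit 1,nat_lit 4,nat_lit 8,nat_lit 10,nat_lit 2,nat_lit 6,nat_lit 3,nat_lit 0,nat_lit 1,nat_lit 4,nat_lit 8,nat_lit 2,nat_lit 6,nat_lit 3,nat_lit 0,nat_lit 1,nat_lit 4,nat_lit 8,nat_lit 2,nat_lit 6,nat_lit 3,nat_lit 0,nat_lit 1,nat_lit 4,nat_lit 8,nat_lit 2,nat_lit 6,nat_lit 3,nat_lit 0,nat_lit 1,nat_lit 4,nat_lit 8,nat_lit 2,nat_lit 6,nat_lit 3,nat_lit 0,nat_lit 1,nat_lit 4,nat_lit 8,nat_lit 2,nat_lit 6,nat_lit 3,nat_lit 0,nat_lit 1,nat_lit 4,nat_lit 8,nat_lit 2,nat_lit 6,nat_lit 3,nat_lit 0,nat_lit 1,nat_lit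 4])
) (.node (.leaf [nat_lit 51,nat_lit 1,nat_lit 1,nat_lit 4,nat_lit 5,nat_lit 4,nat_lit 5])
 (.leaf [nat_lit 46,nat_lit 2,nat_lit 1,nat_lit 12,nat_lit 7,nat_lit 3,nat_lit 7,nat_lit 3])
)) (.node (.node (.leaf [nat_lit 75,nat_lit 3,nat_lit 1,nat_lit 8,nat_lit 11,nat_lit 8,nat_lit 11,nat_lit 8,nat_lit 11])
 (.leaf [nat_lit 79,nat_lit 19,nat_lit 0,nat_lit 1,nat_lit 4,nat_lit 8,nat_lit 2,nat_lit 6,nat_lit 3,nat_lit 0,nat_lit 1,nat_lit 4,nat_lit 8,nat_lit 2,nat_lit 6,nat_lit 3,nat_lit 0,nat_lit 1,nat_lit 4,nat_lit 8,nat_lit 2,nat_lit 6,nat_lit 3,nat_lit 0,nat_lit 1,nat_lit 4,nat_lit 8,nat_lit 2,nat_lit 6,nat_lit 3,nat_lit 0,nat_lit 1,nat_lit 4,nat_lit 8,nat_lit 2,nat_lit 6,nat_lit 3,nat_lit 0,nat_lit 1,nat_lit 4,nat_lit 8,nat_lit 2,nat_lit 6,nat_lit 3,nat_lit 0,nat_lit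 1,nat_lit 4,nat_lit 8,nat_lit 10,nat_lit 2,nat_lit 6,nat_lit 3,nat_lit 0,nat_lit 1,nat_lit 4,nat_lit 8,nat_lit 2,nat_lit 6,nat_lit 3,nat_lit 0,nat_lit 1,nat_lit 4,nat_lit 8,nat_lit 2,nat_lit 6,nat_lit 3,nat_lit 0])
) (.node (.leaf [nat_lit 48,nat_lit 1,nat_lit 1,nat_lit 3,nat_lit 9,nat_lit 3,nat_lit 9])
 (.leaf [nat_lit 50,nat_lit 1,nat_lit 1,nat_lit 12,nat_lit 3,nat_lit 11,nat_lit 3,nat_lit 11])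
))) (.node (.node (.node (.node (.leaf [nat_lit 51,nat_lit 2,nat_lit 1,nat_lit 5,nat_lit 4,nat_lit 5,nat_lit 4])
 (.leaf [nat_lit 79,nat_lit 55,nat_lit 1,nat_lit 2,nat_lit 8,nat_lit 4,nat_lit 1,nat_lit 0,nat_lit 3,nat_lit 6,nat_lit 2,nat_lit 10,nat_lit 8,nat_lit 4,nat_lit 1,nat_lit 0,nat_lit 3,nat_lit 6,nat_lit 2,nat_lit 8,nat_lit 4,nat_lit 1,nat_lit 0,nat_lit 3,nat_lit 6,nat_lit 2,nat_lit 8,nat_lit 4,nat_lit 1,nat_lit 0,nat_lit 3,nat_lit 6,nat_lit 2,nat_lit 8,nat_lit 4,nat_lit 1,nat_lit 0,nat_lit 3,nat_lit 6,nat_lit 2,nat_lit 8,nat_lit 4,nat_lit 1,nat_lit 0,nat_lit 3,nat_lit 6,nat_lit 2,nat_lit 8,nat_lit 4,nat_lit 1,nat_lit 0,nat_lit 3,nat_lit 6,nat_lit 2,nat_lit 8,nat_lit 4,nat_lit 1,nat_lit 0,nat_lit 3,nat_lit 6,nat_lit 2,nat_lit 8,nat_lit 4,nat_lit 1,nat_lit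 0,nat_lit 3,nat_lit 6])
) (.leaf [nat_lit 80,nat_lit 228,nat_lit 0,nat_lit 11,nat_lit 10,nat_lit 0,nat_lit 3,nat_lit 6,nat_lit 7,nat_lit 9,nat_lit 0,nat_lit 2,nat_lit 5,nat_lit 0,nat_lit 1,nat_lit 4,nat_lit 8,nat_lit 11,nat_lit 10,nat_lit 0,nat_lit 3,nat_lit 6,nat_lit 7,nat_lit 9,nat_lit 0,nat_lit 2,nat_lit 5,nat_lit 0,nat_lit 1,nat_lit 4,nat_lit 8,nat_lit 11,nat_lit 10,nat_lit 0,nat_lit 3,nat_lit 6,nat_lit 7,nat_lit 9,nat_lit 0,nat_lit 2,nat_lit 5,nat_lit 0,nat_lit 1,nat_lit 4,nat_lit 8,nat_lit 11,nat_lit 10,nat_lit 0,nat_lit 3,nat_lit 6,nat_lit 7,nat_lit 9,nat_lit 0,nat_lit 2,nat_lit 5,nat_lit 0,nat_lit 1,nat_lit 4,nat_lit 8,nat_lit 11,nat_lit 10,nat_lit 0,nat_lit 3,nat_lit 6,nat_lit 7,nat_lit 9,nat_lit 0,nat_lit 2,nat_lit 5,nat_lit 0,nat_lit 1,nat_lit 4,nat_lit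 8,nat_lit 11,nat_lit 10,nat_lit 0,nat_lit 3,nat_lit 6,nat_lit 7,nat_lit 9,nat_lit 0,nat_lit 2,nat_lit 5,nat_lit 0,nat_lit 1,nat_lit 4,nat_lit 8,nat_lit 11,nat_lit 10,nat_lit 0,nat_lit 3,nat_lit 6,nat_lit 7,nat_lit 9,nat_lit 0,nat_lit 2,nat_lit 5,nat_lit 0,nat_lit 1,nat_lit 4,nat_lit 8,nat_lit 11,nat_lit 10,nat_lit 0,nat_lit 3,nat_lit 6,nat_lit 7,nat_lit 9,nat_lit 0,nat_lit 2,nat_lit 5,nat_lit 0,nat_lit 1,nat_lit 4,nat_lit 8,nat_lit 11,nat_lit 10,nat_lit 0,nat_lit 3,nat_lit 6,nat_lit 7,nat_lit 9,nat_lit 0,nat_lit 2,nat_lit 5,nat_lit 0,nat_lit 1,nat_lit 4,nat_lit 8,nat_lit 11,nat_lit 10,nat_lit 0,nat_lit 3,nat_lit 6,nat_lit 7,nat_lit 9,nat_lit 0,nat_lit 2,nat_lit 5,nat_lit 0,nat_lit 1,nat_lit 4,nat_lit 8,nat_lit 11,nat_lit 10,nat_lit 0,nat_lit 3,nat_lit 6,nat_lit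 7,nat_lit 9,nat_lit 0,nat_lit 2,nat_lit 5,nat_lit 0,nat_lit 1,nat_lit 4,nat_lit 8,nat_lit 11,nat_lit 10,nat_lit 0,nat_lit 3,nat_lit 6,nat_lit 7,nat_lit 9,nat_lit 0,nat_lit 2,nat_lit 5,nat_lit 0,nat_lit 1,nat_lit 4,nat_lit 8,nat_lit 11,nat_lit 10,nat_lit 0,nat_lit 3,nat_lit 6,nat_lit 7,nat_lit 9,nat_lit 0,nat_lit 2,nat_lit 5,nat_lit 0,nat_lit 1,nat_lit 4,nat_lit 8,nat_lit 11,nat_lit 10,nat_lit 0,nat_lit 3,nat_lit 6,nat_lit 7,nat_lit 9,nat_lit 0,nat_lit 2,nat_lit 5,nat_lit 0,nat_lit 1,nat_lit 4,nat_lit 8,nat_lit 11,nat_lit 10,nat_lit 0,nat_lit 3,nat_lit 6,nat_lit 7,nat_lit 9,nat_lit 0,nat_lit 2,nat_lit 5,nat_lit 0,nat_lit 1,nat_lit 4,nat_lit 8,nat_lit 11,nat_lit 10,nat_lit 0,nat_lit 3,nat_lit 6,nat_lit 7,nat_lit 9,nat_lit 0,nat_lit 2,nat_lit 5,nat_lit 0,nat_lit 1,nat_lit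 4,nat_lit 8,nat_lit 11,nat_lit 10,nat_lit 0,nat_lit 3,nat_lit 6,nat_lit 7,nat_lit 9,nat_lit 0,nat_lit 2,nat_lit 5,nat_lit 0,nat_lit 1,nat_lit 4,nat_lit 8])
) (.node (.leaf [nat_lit 44,nat_lit 1,nat_lit 1,nat_lit 3,nat_lit 5,nat_lit 3,nat_lit 5])
 (.leaf [nat_lit 57,nat_lit 0,nat_lit 1,nat_lit 12,nat_lit 11,nat_lit 4,nat_lit 11,nat_lit 4])
)) (.node (.node (.leaf [nat_lit 40,nat_lit 2,nat_lit 1,nat_lit 9,nat_lit 2,nat_lit 9,nat_lit 2])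
 (.leaf [nat_lit 80,nat_lit 229,nat_lit 1,nat_lit 6,nat_lit 3,nat_lit 0,nat_lit 10,nat_lit 11,nat_lit 8,nat_lit 4,nat_lit 1,nat_lit 0,nat_lit 5,nat_lit 2,nat_lit 0,nat_lit 9,nat_lit 7,nat_lit 6,nat_lit 3,nat_lit 0,nat_lit 10,nat_lit 11,nat_lit 8,nat_lit 4,nat_lit 1,nat_lit 0,nat_lit 5,nat_lit 2,nat_lit 0,nat_lit 9,nat_lit 7,nat_lit 6,nat_lit 3,nat_lit 0,nat_lit 10,nat_lit 11,nat_lit 8,nat_lit 4,nat_lit 1,nat_lit 0,nat_lit 5,nat_lit 2,nat_lit 0,nat_lit 9,nat_lit 7,nat_lit 6,nat_lit 3,nat_lit 0,nat_lit 10,nat_lit 11,nat_lit 8,nat_lit 4,nat_lit 1,nat_lit 0,nat_lit 5,nat_lit 2,nat_lit 0,nat_lit 9,nat_lit 7,nat_lit 6,nat_lit 3,nat_lit 0,nat_lit 10,nat_lit 11,nat_lit 8,nat_lit 4,nat_lit 1,nat_lit 0,nat_lit 5,nat_lit 2,nat_lit 0,nat_lit 9,nat_lit 7,nat_lit 6,nat_lit 3,nat_lit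 0,nat_lit 10,nat_lit 11,nat_lit 8,nat_lit 4,nat_lit 1,nat_lit 0,nat_lit 5,nat_lit 2,nat_lit 0,nat_lit 9,nat_lit 7,nat_lit 6,nat_lit 3,nat_lit 0,nat_lit 10,nat_lit 11,nat_lit 8,nat_lit 4,nat_lit 1,nat_lit 0,nat_lit 5,nat_lit 2,nat_lit 0,nat_lit 9,nat_lit 7,nat_lit 6,nat_lit 3,nat_lit 0,nat_lit 10,nat_lit 11,nat_lit 8,nat_lit 4,nat_lit 1,nat_lit 0,nat_lit 5,nat_lit 2,nat_lit 0,nat_lit 9,nat_lit 7,nat_lit 6,nat_lit 3,nat_lit 0,nat_lit 10,nat_lit 11,nat_lit 8,nat_lit 4,nat_lit 1,nat_lit 0,nat_lit 5,nat_lit 2,nat_lit 0,nat_lit 9,nat_lit 7,nat_lit 6,nat_lit 3,nat_lit 0,nat_lit 10,nat_lit 11,nat_lit 8,nat_lit 4,nat_lit 1,nat_lit 0,nat_lit 5,nat_lit 2,nat_lit 0,nat_lit 9,nat_lit 7,nat_lit 6,nat_lit 3,nat_lit 0,nat_lit 10,nat_lit 11,nat_lit 8,nat_lit 4,nat_lit 1,nat_lit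 0,nat_lit 5,nat_lit 2,nat_lit 0,nat_lit 9,nat_lit 7,nat_lit 6,nat_lit 3,nat_lit 0,nat_lit 10,nat_lit 11,nat_lit 8,nat_lit 4,nat_lit 1,nat_lit 0,nat_lit 5,nat_lit 2,nat_lit 0,nat_lit 9,nat_lit 7,nat_lit 6,nat_lit 3,nat_lit 0,nat_lit 10,nat_lit 11,nat_lit 8,nat_lit 4,nat_lit 1,nat_lit 0,nat_lit 5,nat_lit 2,nat_lit 0,nat_lit 9,nat_lit 7,nat_lit 6,nat_lit 3,nat_lit 0,nat_lit 10,nat_lit 11,nat_lit 8,nat_lit 4,nat_lit 1,nat_lit 0,nat_lit 5,nat_lit 2,nat_lit 0,nat_lit 9,nat_lit 7,nat_lit 6,nat_lit 3,nat_lit 0,nat_lit 10,nat_lit 11,nat_lit 8,nat_lit 4,nat_lit 1,nat_lit 0,nat_lit 5,nat_lit 2,nat_lit 0,nat_lit 9,nat_lit 7,nat_lit 6,nat_lit 3,nat_lit 0,nat_lit 10,nat_lit 11,nat_lit 8,nat_lit 4,nat_lit 1,nat_lit 0,nat_lit 5,nat_lit 2,nat_lit 0,nat_lit 9,nat_lit 7,nat_lit 6,nat_lit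 3,nat_lit 0,nat_lit 10,nat_lit 11,nat_lit 8,nat_lit 4,nat_lit 1,nat_lit 0,nat_lit 5,nat_lit 2,nat_lit 0,nat_lit 9,nat_lit 7])
) (.node (.leaf [nat_lit 79,nat_lit 37,nat_lit 1,nat_lit 1,nat_lit 0,nat_lit 3,nat_lit 6,nat_lit 2,nat_lit 8,nat_lit 4,nat_lit 1,nat_lit 0,nat_lit 3,nat_lit 6,nat_lit 2,nat_lit 8,nat_lit 4,nat_lit 1,nat_lit 0,nat_lit 3,nat_lit 6,nat_lit 2,nat_lit 8,nat_lit 4,nat_lit 1,nat_lit 0,nat_lit 3,nat_lit 6,nat_lit 2,nat_lit 10,nat_lit 8,nat_lit 4,nat_lit 1,nat_lit 0,nat_lit 3,nat_lit 6,nat_lit 2,nat_lit 8,nat_lit 4,nat_lit 1,nat_lit 0,nat_lit 3,nat_lit 6,nat_lit 2,nat_lit 8,nat_lit 4,nat_lit 1,nat_lit 0,nat_lit 3,nat_lit 6,nat_lit 2,nat_lit 8,nat_lit 4,nat_lit 1,nat_lit 0,nat_lit 3,nat_lit 6,nat_lit 2,nat_lit 8,nat_lit 4,nat_lit 1,nat_lit 0,nat_lit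 3,nat_lit 6,nat_lit 2,nat_lit 8,nat_lit 4])
 (.leaf [nat_lit 52,nat_lit 2,nat_lit 1,nat_lit 12,nat_lit 6,nat_lit 4,nat_lit 6,nat_lit 4])
))))))))

end Cfsg.Agent.Spor.MFi24
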