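import Mathlib
import Cfsg.Agent.Spor.Fi24.HtC0
import Cfsg.Agent.Spor.Fi24.HtC1
import Cfsg.Agent.Spor.Fi24.HtC2
import Cfsg.Agent.Spor.Fi24.HtC3
import Cfsg.Agent.Spor.Fi24.HtC4
import Cfsg.Agent.Spor.Fi24.HtC5
import Cfsg.Agent.Spor.Fi24.HtC6
import Cfsg.Agent.Spor.Fi24.HtC7
import Cfsg.Agent.Spor.Fi24.HtC8
import Cfsg.Agent.Spor.Fi24.HtC9
import Cfsg.Agent.Spor.Fi24.HtC10
import Cfsg.Agent.Spor.Fi24.HtC11

/-! Generated by tools/pg: coset enumeration ht -/

set_option autoImplicit false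
set_option maxRecDepth 100000
set_option linter.unusedVariables false
set_option exponentiation.threshold 100000

namespace Cfsg.Agent.Spor.MFi24

open Cfsg.Agent.Spor


theorem ht_c4 : ht.Upto ht.N := (((((((((((((((((((((((((((((((((((((((((((((((((((((((((((((((((((((((((((((((((((((((((((((((((((((((((((((((((((((((((((((((((((((((((((((((((((((((((((((((TC.upto_zero ht).step _ ht_s0).step _ ht_s1).step _ ht_s2).step _ ht_s3).step _ ht_s4).step _ ht_s5).step _ ht_s6).step _ ht_s7).step _ ht_s8).step _ ht_s9).step _ ht_s10).step _ ht_s11).step _ ht_s12).step _ ht_s13).step _ ht_s14).step _ ht_s15).step _ ht_s16).step _ ht_s17).step _ ht_s18).step _ ht_s19).step _ ht_s20).step _ ht_s21).step _ ht_s22).step _ ht_s23).step _ ht_s24).step _ ht_s25).step _ ht_s26).step _ ht_s27).step _ ht_s28).step _ ht_s29).step _ ht_s30).step _ ht_s31).step _ ht_s32).step _ ht_s33).step _ ht_s34).step _ ht_s35).step _ ht_s36).step _ ht_s37).step _ ht_s38).step _ ht_s39).step _ ht_s40).step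 _ ht_s41).step _ ht_s42).step _ ht_s43).step _ ht_s44).step _ ht_s45).step _ ht_s46).step _ ht_s47).step _ ht_s48).step _ ht_s49).step _ ht_s50).step _ ht_s51).step _ ht_s52).step _ ht_s53).step _ ht_s54).step _ ht_s55).step _ ht_s56).step _ ht_s57).step _ ht_s58).step _ ht_s59).step _ ht_s60).step _ ht_s61).step _ ht_s62).step _ ht_s63).step _ ht_s64).step _ ht_s65).step _ ht_s66).step _ ht_s67).step _ ht_s68).step _ ht_s69).step _ ht_s70).step _ ht_s71).step _ ht_s72).step _ ht_s73).step _ ht_s74).step _ ht_s75).step _ ht_s76).step _ ht_s77).step _ ht_s78).step _ ht_s79).step _ ht_s80).step _ ht_s81).step _ ht_s82).step _ ht_s83).step _ ht_s84).step _ ht_s85).step _ ht_s86).step _ ht_s87).step _ ht_s88).step _ ht_s89).step _ ht_s90).step _ ht_s91).step _ ht_s92).step _ ht_s93).step _ ht_s94).step _ ht_s95).step _ ht_s96).step _ ht_s97).step _ ht_s98).step _ ht_s99).step _ ht_s100).step _ ht_s101).step _ ht_s102).step _ ht_s103).step _ ht_s104).step _ ht_s105).step _ ht_s106).step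 _ ht_s107).step _ ht_s108).step _ ht_s109).step _ ht_s110).step _ ht_s111).step _ ht_s112).step _ ht_s113).step _ ht_s114).step _ ht_s115).step _ ht_s116).step _ ht_s117).step _ ht_s118).step _ ht_s119).step _ ht_s120).step _ ht_s121).step _ ht_s122).step _ ht_s123).step _ ht_s124).step _ ht_s125).step _ ht_s126).step _ ht_s127).step _ ht_s128).step _ ht_s129).step _ ht_s130).step _ ht_s131).step _ ht_s132).step _ ht_s133).step _ ht_s134).step _ ht_s135).step _ ht_s136).step _ ht_s137).step _ ht_s138).step _ ht_s139).step _ ht_s140).step _ ht_s141).step _ ht_s142).step _ ht_s143).step _ ht_s144).step _ ht_s145).step _ ht_s146).step _ ht_s147).step _ ht_s148).step _ ht_s149).step _ ht_s150).step _ ht_s151).step _ ht_s152).step _ ht_s153).step _ ht_s154).step _ ht_s155).step _ ht_s156).step _ ht_s157)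
theorem ht_c5 : ht.UptoE ht.N := ((((TC.uptoE_n ht).step _ ht_e0).step _ ht_e1).step _ ht_e2)
theorem ht_bound {G : Type*} [Group G] {g : ℕ → G} {H : Subgroup G} (hinv : ∀ x < 12, g x * g (ht_inv x) = 1)
    (hrels : ∀ i, evalW g (ht_rels.get i) = 1) (hH : ∀ x < 11, g x ∈ H) (hhws : ∀ i, evalW g (ht_hws.get i) ∈ H) :
    H.relIndex (genLt g 12) ≠ 0 ∧ H.relIndex (genLt g 12) ≤ 306936 :=
  TC.relIndex_le (T := ht) hinv hrels hH hhws ht_c1 ht_c2 ht_c3 ht_c4 ht_c5

end Cfsg.Agent.Spor.MFi24
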