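import Mathlib
import Cfsg.Agent.Spor.Fi24.TabD

/-! Generated by tools/pg: tables of Fi24 on 306936 points -/

set_option autoImplicit false
set_option maxRecDepth 100000
set_option linter.unusedVariables false
set_option exponentiation.threshold 100000

namespace Cfsg.Agent.Spor.MFi24

open Cfsg.Agent.Spor



end Cfsg.Agent.Spor.MFi24
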