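import Mathlib
import Cfsg.Agent.Spor.Fi24.OrbD

/-! Generated by tools/pg: orbits of Fi24 -/

set_option autoImplicit false
set_option maxRecDepth 100000
set_option linter.unusedVariables false
set_option exponentiation.threshold 100000

namespace Cfsg.Agent.Spor.MFi24

open Cfsg.Agent.Spor

theorem cov_2 : allRange (nat_lit 40000) (nat_lit 20000) (fun p => band (Nat.ble 256 (Ec p)) (orbOK KT (nat_lit 10) Ec (fun r => !allL [nat_lit 0,nat_lit 8,nat_lit 1] fun s => !Nat.beq s r) p)) = true := by decide +kernel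

theorem cov_3 : allRange (nat_lit 60000) (nat_lit 20000) (fun p => band (Nat.ble 256 (Ec p)) (orbOK KT (nat_lit 10) Ec (fun r => !allL [nat_lit 0,nat_lit 8,nat_lit 1] fun s => !Nat.beq s r) p)) = true := by decide +kernel

theorem cov_4 : allRange (nat_lit 80000) (nat_lit 20000) (fun p => band (Nat.ble 256 (Ec p)) (orbOK KT (nat_lit 10) Ec (fun r => !allL [nat_lit 0,nat_lit 8,nat_lit 1] fun s => !Nat.beq s r) p)) = true := by decide +kernel

theorem cov_5 : allRange (nat_lit 100000) (nat_lit 20000) (fun p => band (Nat.ble 256 (Ec p)) (orbOK KT (nat_lit 10) Ec (fun r => !allL [nat_lit 0,nat_lit 8,nat_lit 1] fun s => !Nat.beq s r) p)) = true := by decide +kernel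

theorem cov_6 : allRange (nat_lit 120000) (nat_lit 20000) (fun p => band (Nat.ble 256 (Ec p)) (orbOK KT (nat_lit 10) Ec (fun r => !allL [nat_lit 0,nat_lit 8,nat_lit 1] fun s => !Nat.beq s r) p)) = true := by decide +kernel

theorem cov_7 : allRange (nat_lit 140000) (nat_lit 20000) (fun p => band (Nat.ble 256 (Ec p)) (orbOK KT (nat_lit 10) Ec (fun r => !allL [nat_lit 0,nat_lit 8,nat_lit 1] fun s => !Nat.beq s r) p)) = true := by decide +kernel

theorem cov_8 : allRange (nat_lit 160000) (nat_lit 20000) (fun p => band (Nat.ble 256 (Ec p)) (orbOK KT (nat_lit 10) Ec (fun r => !allL [nat_lit 0,nat_lit 8,nat_lit 1] fun s => !Nat.beq s r) p)) = true := by decide +kernel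

theorem cov_9 : allRange (nat_lit 180000) (nat_lit 20000) (fun p => band (Nat.ble 256 (Ec p)) (orbOK KT (nat_lit 10) Ec (fun r => !allL [nat_lit 0,nat_lit 8,nat_lit 1] fun s => !Nat.beq s r) p)) = true := by decide +kernel

theorem cov_10 : allRange (nat_lit 200000) (nat_lit 20000) (fun p => band (Nat.ble 256 (Ec p)) (orbOK KT (nat_lit 10) Ec (fun r => !allL [nat_lit 0,nat_lit 8,nat_lit 1] fun s => !Nat.beq s r) p)) = true := by decide +kernel

theorem cov_11 : allRange (nat_lit 220000) (nat_lit 20000) (fun p => band (Nat.ble 256 (Ec p)) (orbOK KT (nat_lit 10) Ec (fun r => !allL [nat_lit 0,nat_lit 8,nat_lit 1] fun s => !Nat.beq s r) p)) = true := by decide +kernel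

theorem cov_12 : allRange (nat_lit 240000) (nat_lit 20000) (fun p => band (Nat.ble 256 (Ec p)) (orbOK KT (nat_lit 10) Ec (fun r => !allL [nat_lit 0,nat_lit 8,nat_lit 1] fun s => !Nat.beq s r) p)) = true := by decide +kernel

theorem cov_13 : allRange (nat_lit 260000) (nat_lit 20000) (fun p => band (Nat.ble 256 (Ec p)) (orbOK KT (nat_lit 10) Ec (fun r => !allL [nat_lit 0,nat_lit 8,nat_lit 1] fun s => !Nat.beq s r) p)) = true := by decide +kernel

theorem cov_14 : allRange (nat_lit 280000) (nat_lit 20000) (fun p => band (Nat.ble 256 (Ec p)) (orbOK KT (nat_lit 10) Ec (fun r => !allL [nat_lit 0,nat_lit 8,nat_lit 1] fun s => !Nat.beq s r) p)) = true := by decide +kernel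

theorem cov_15 : allRange (nat_lit 300000) (nat_lit 6936) (fun p => band (Nat.ble 256 (Ec p)) (orbOK KT (nat_lit 10) Ec (fun r => !allL [nat_lit 0,nat_lit 8,nat_lit 1] fun s => !Nat.beq s r) p)) = true := by decide +kernel

end Cfsg.Agent.Spor.MFi24
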