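import Mathlib
import Cfsg.Agent.Spor.Fi24.Pres
import Cfsg.Agent.Spor.Fi24.Tab
import Cfsg.Agent.Spor.Fi24.RepD0

/-! Generated by tools/pg: the action of Fi24 on 306936 points -/

set_option autoImplicit false
set_option maxRecDepth 100000
set_option linter.unusedVariables false
set_option exponentiation.threshold 100000

namespace Cfsg.Agent.Spor.MFi24

open Cfsg.Agent.Spor

noncomputable def dg : List (ℕ × ℕ) := [(nat_lit 247, nat_lit 0x3ffff800000000000000000000000000000000000000000000001ffffc00000000000000000000000000000000000000000000000ffffe000000000000000000000000000000000000000000000007ffff000000000000000000000000000000000000000000000003ffff8000000000000000000000000000000000000000000000000000000000000000000000000000000000000000000000000000ffffe000000000000000000000000000000000000000000000007ffff000000000000000000000000000000000000000000000003ffff8000000000000000000000000000000000000000000000000000000000000000000000000000000000000000000000000000), (nat_lit 494, nat_lit 0x3ffff800000000000000000000000000000000000000000000001ffffc00000000000000000000000000000000000000000000000ffffe000000000000000000000000000000000000000000000007ffff000000000000000000000000000000000000000000000003ffff800000000000000000000000000000000000000000000001ffffc0000000000000000000000000000000000000000000000000000000000000000000000000000000000000000000000000007ffff000000000000000000000000000000000000000000000003ffff8000000000000000000000000000000000000000000),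 (nat_lit 741, nat_lit 0x7ffff000000000000000000000000000000000000000000000003ffff800000000000000000000000000000000000000000000001ffffc00000000000000000000000000000000000000000000000ffffe000000000000000000000000000000000000000000000000000000000000000000000000000000000000000000), (nat_lit 988, nat_lit 0x7ffff000000000000000000000000000000000000000000000003ffff800000000000000000000000000000000000000000000001ffffc00000000000000000000000000000000000000000000000ffffe0000000000000000000000000000000000000000000000000000000000000000000000000000000000000000000000000003ffff800000000000000000000000000000000000000000000001ffffc00000000000000000000000000000000000000000000000ffffe000000000000000000000000000000000), (nat_lit 1235, nat_lit 0x7ffff000000000000000000000000000000000000000000000003ffff800000000000000000000000000000000000000000000001ffffc00000000000000000000000000000000000000000000000ffffe000000000000000000000000000000000000000000000007ffff000000000000000000000000000000000000000000000003ffff800000000000000000000000000000000000000000000001ffffc0000000000000000000000000000),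 (nat_lit 1482, nat_lit 0x7ffff000000000000000000000000000000000000000000000003ffff800000000000000000000000000000000000000000000001ffffc00000000000000000000000000000000000000000000000ffffe000000000000000000000000000000000000000000000007ffff000000000000000000000000000000000000000000000003ffff800000000000000000000000), (nat_lit 1729, nat_lit 0x7ffff000000000000000000000000000000000000000000000003ffff800000000000000000000000000000000000000000000001ffffc00000000000000000000000000000000000000000000000ffffe000000000000000000000000000000000000000000000007ffff0000000000000000000), (nat_lit 1976, nat_lit 0x7ffff000000000000000000000000000000000000000000000003ffff800000000000000000000000000000000000000000000001ffffc00000000000000000000000000000000000000000000000ffffe00000000000000), (nat_lit 2223, nat_lit 0x7ffff000000000000000000000000000000000000000000000003ffff800000000000000000000000000000000000000000000001ffffc000000000), (nat_lit 2470, nat_lit 0x7ffff000000000000000000000000000000000000000000000003ffff80000),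 (nat_lit 2717, nat_lit 0x7ffff)]
noncomputable def Ed : List (ℕ × ℕ) := [(nat_lit 0, nat_lit 0x1), (nat_lit 0, nat_lit 0x2), (nat_lit 0, nat_lit 0x3), (nat_lit 1, nat_lit 0x4), (nat_lit 2, nat_lit 0x5), (nat_lit 3, nat_lit 0x6), (nat_lit 4, nat_lit 0x8), (nat_lit 6, nat_lit 0x7), (nat_lit 7, nat_lit 0x9), (nat_lit 8, nat_lit 0xb), (nat_lit 10, nat_lit 0xb)]
noncomputable def cx : ℕ → Bool := coxPt (nat_lit 306936) (nat_lit 19) (nat_lit 524287) (nat_lit 228) (nat_lit 0xfffffffffffffffffffffffffffffffffffffffffffffffffffffffff) R [nat_lit 11,nat_lit 10,nat_lit 9,nat_lit 8,nat_lit 7,nat_lit 6,nat_lit 5,nat_lit 4,nat_lit 3,nat_lit 2,nat_lit 1,nat_lit 0] dg Ed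
noncomputable def Rs : LT :=
(.node (.node (.node (.node (.node (.node (.node (.leaf [nat_lit 0,nat_lit 1,nat_lit 0,nat_lit 1,nat_lit 0,nat_lit 1])
 (.leaf [nat_lit 9,nat_lit 11,nat_lit 9,nat_lit 11])
) (.leaf [nat_lit 3,nat_lit 6,nat_lit 3,nat_lit 6,nat_lit 3,nat_lit 6])
) (.node (.leaf [nat_lit 1,nat_lit 7,nat_lit 1,nat_lit 7])
 (.leaf [nat_lit 5,nat_lit 9,nat_lit 5,nat_lit 9])
)) (.node (.node (.leaf [nat_lit 0,nat_lit 9,nat_lit 0,nat_lit 9])
 (.leaf [nat_lit 4,nat_lit 7,nat_lit 4,nat_lit 7])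
) (.node (.leaf [nat_lit 2,nat_lit 6,nat_lit 2,nat_lit 6])
 (.leaf [nat_lit 7,nat_lit 8,nat_lit 7,nat_lit 8])
))) (.node (.node (.node (.leaf [nat_lit 0,nat_lit 5,nat_lit 0,nat_lit 5])
 (.leaf [nat_lit 3,nat_lit 10,nat_lit 3,nat_lit 10])
) (.node (.leaf [nat_lit 1,nat_lit 11,nat_lit 1,nat_lit 11])
 (.leaf [nat_lit 6,nat_lit 8,nat_lit 6,nat_lit 8])
)) (.node (.node (.leaf [nat_lit 1,nat_lit 3,nat_lit 1,nat_lit 3])
 (.leaf [nat_lit 4,nat_lit 11,nat_lit 4,nat_lit 11])
) (.node (.leaf [nat_lit 2,nat_lit 10,nat_lit 2,nat_lit 10])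
 (.leaf [nat_lit 8,nat_lit 9,nat_lit 8,nat_lit 9])
)))) (.node (.node (.node (.node (.leaf [nat_lit 0,nat_lit 3,nat_lit 0,nat_lit 3,nat_lit 0,nat_lit 3])
 (.leaf [nat_lit 3,nat_lit 8,nat_lit 3,nat_lit 8])
) (.node (.leaf [nat_lit 1,nat_lit 9,nat_lit 1,nat_lit 9])
 (.leaf [nat_lit 5,nat_lit 11,nat_lit 5,nat_lit 11])
)) (.node (.node (.leaf [nat_lit 0,nat_lit 11,nat_lit 0,nat_lit 11])
 (.leaf [nat_lit 4,nat_lit 9,nat_lit 4,nat_lit 9])
) (.node (.leaf [nat_lit 2,nat_lit 8,nat_lit 2,nat_lit 8])
 (.leaf [nat_lit 7,nat_lit 10,nat_lit 7,nat_lit 10])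
))) (.node (.node (.node (.leaf [nat_lit 0,nat_lit 7,nat_lit 0,nat_lit 7])
 (.leaf [nat_lit 4,nat_lit 5,nat_lit 4,nat_lit 5])
) (.node (.leaf [nat_lit 2,nat_lit 4,nat_lit 2,nat_lit 4])
 (.leaf [nat_lit 6,nat_lit 10,nat_lit 6,nat_lit 10])
)) (.node (.node (.leaf [nat_lit 1,nat_lit 5,nat_lit 1,nat_lit 5])
 (.leaf [nat_lit 5,nat_lit 7,nat_lit 5,nat_lit 7])
) (.node (.leaf [nat_lit 3,nat_lit 4,nat_lit 3,nat_lit 4])
 (.leaf [nat_lit 8,nat_lit 11,nat_lit 8,nat_lit 11,nat_lit 8,nat_lit 11])
))))) (.node (.node (.node (.node (.node (.node (.leaf [nat_lit 0,nat_lit 2,nat_lit 0,nat_lit 2,nat_lit 0,nat_lit 2])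
 (.leaf [nat_lit 10,nat_lit 11,nat_lit 10,nat_lit 11,nat_lit 10,nat_lit 11])
) (.leaf [nat_lit 3,nat_lit 7,nat_lit 3,nat_lit 7])
) (.node (.leaf [nat_lit 1,nat_lit 8,nat_lit 1,nat_lit 8])
 (.leaf [nat_lit 5,nat_lit 10,nat_lit 5,nat_lit 10])
)) (.node (.node (.leaf [nat_lit 0,nat_lit 10,nat_lit 0,nat_lit 10])
 (.leaf [nat_lit 4,nat_lit 8,nat_lit 4,nat_lit 8,nat_lit 4,nat_lit 8])
) (.node (.leaf [nat_lit 2,nat_lit 7,nat_lit 2,nat_lit 7])
 (.leaf [nat_lit 7,nat_lit 9,nat_lit 7,nat_lit 9,nat_lit 7,nat_lit 9])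
))) (.node (.node (.node (.leaf [nat_lit 0,nat_lit 6,nat_lit 0,nat_lit 6])
 (.leaf [nat_lit 3,nat_lit 11,nat_lit 3,nat_lit 11])
) (.node (.leaf [nat_lit 2,nat_lit 3,nat_lit 2,nat_lit 3])
 (.leaf [nat_lit 6,nat_lit 9,nat_lit 6,nat_lit 9])
)) (.node (.node (.leaf [nat_lit 1,nat_lit 4,nat_lit 1,nat_lit 4,nat_lit 1,nat_lit 4])
 (.leaf [nat_lit 5,nat_lit 6,nat_lit 5,nat_lit 6])
) (.node (.leaf [nat_lit 2,nat_lit 11,nat_lit 2,nat_lit 11])
 (.leaf [nat_lit 8,nat_lit 10,nat_lit 8,nat_lit 10])
)))) (.node (.node (.node (.node (.leaf [nat_lit 0,nat_lit 4,nat_lit 0,nat_lit 4])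
 (.leaf [nat_lit 3,nat_lit 9,nat_lit 3,nat_lit 9])
) (.node (.leaf [nat_lit 1,nat_lit 10,nat_lit 1,nat_lit 10])
 (.leaf [nat_lit 6,nat_lit 7,nat_lit 6,nat_lit 7,nat_lit 6,nat_lit 7])
)) (.node (.node (.leaf [nat_lit 1,nat_lit 2,nat_lit 1,nat_lit 2])
 (.leaf [nat_lit 4,nat_lit 10,nat_lit 4,nat_lit 10])
) (.node (.leaf [nat_lit 2,nat_lit 9,nat_lit 2,nat_lit 9])
 (.leaf [nat_lit 7,nat_lit 11,nat_lit 7,nat_lit 11])
))) (.node (.node (.node (.leaf [nat_lit 0,nat_lit 8,nat_lit 0,nat_lit 8])
 (.leaf [nat_lit 4,nat_lit 6,nat_lit 4,nat_lit 6])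
) (.node (.leaf [nat_lit 2,nat_lit 5,nat_lit 2,nat_lit 5,nat_lit 2,nat_lit 5])
 (.leaf [nat_lit 6,nat_lit 11,nat_lit 6,nat_lit 11])
)) (.node (.node (.leaf [nat_lit 1,nat_lit 6,nat_lit 1,nat_lit 6])
 (.leaf [nat_lit 5,nat_lit 8,nat_lit 5,nat_lit 8])
) (.node (.leaf [nat_lit 3,nat_lit 5,nat_lit 3,nat_lit 5])
 (.leaf [nat_lit 9,nat_lit 10,nat_lit 9,nat_lit 10])
))))))
noncomputable def Rp : LT :=
(.node (.node (.node (.node (.leaf [nat_lit 0,nat_lit 0])
 (.leaf [nat_lit 8,nat_lit 8])
) (.leaf [nat_lit 4,nat_lit 4])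
) (.node (.node (.leaf [nat_lit 2,nat_lit 2])
 (.leaf [nat_lit 10,nat_lit 10])
) (.leaf [nat_lit 6,nat_lit 6])
)) (.node (.node (.node (.leaf [nat_lit 1,nat_lit 1])
 (.leaf [nat_lit 9,nat_lit 9])
) (.leaf [nat_lit 5,nat_lit 5])
) (.node (.node (.leaf [nat_lit 3,nat_lit 3])
 (.leaf [nat_lit 11,nat_lit 11])
) (.leaf [nat_lit 7,nat_lit 7])
)))

noncomputable def F0_t : BT :=
(.node (.node F0_t0 F0_t2) (.node F0_t1 F0_t3))

noncomputable def F0 : ℕ → ℕ := fun c => Nat.land (Nat.rec (nat_lit 0) (fun j _ => Nat.shiftRight (BT.get F0_t j) (Nat.mul (nat_lit 19) (Nat.land c (nat_lit 511)))) (Nat.add (Nat.shiftRight c (nat_lit 9)) (nat_lit 1))) (nat_lit 524287)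

noncomputable def F1_t : BT :=
(.node (.node F1_t0 F1_t2) (.node F1_t1 F1_t3))

noncomputable def F1 : ℕ → ℕ := fun c => Nat.land (Nat.rec (nat_lit 0) (fun j _ => Nat.shiftRight (BT.get F1_t j) (Nat.mul (nat_lit 19) (Nat.land c (nat_lit 511)))) (Nat.add (Nat.shiftRight c (nat_lit 9)) (nat_lit 1))) (nat_lit 524287)

end Cfsg.Agent.Spor.MFi24
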