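import Mathlib
import Cfsg.Agent.Spor.Fi24.RepD

/-! Generated by tools/pg: the action of Fi24 on 306936 points -/

set_option autoImplicit false
set_option maxRecDepth 100000
set_option linter.unusedVariables false
set_option exponentiation.threshold 100000

namespace Cfsg.Agent.Spor.MFi24

open Cfsg.Agent.Spor

theorem fb0_9 : allRange (nat_lit 225000) (nat_lit 25000) (fun i => force i fun p => cycOK F0 (fun q => Nat.beq (traceP S [nat_lit 10] q) p) p (nat_lit 9) p) = true := by decide +kernel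

theorem fb0_10 : allRange (nat_lit 250000) (nat_lit 25000) (fun i => force i fun p => cycOK F0 (fun q => Nat.beq (traceP S [nat_lit 10] q) p) p (nat_lit 9) p) = true := by decide +kernel

theorem fb0_11 : allRange (nat_lit 275000) (nat_lit 25000) (fun i => force i fun p => cycOK F0 (fun q => Nat.beq (traceP S [nat_lit 10] q) p) p (nat_lit 9) p) = true := by decide +kernel

theorem fb0_12 : allRange (nat_lit 300000) (nat_lit 6936) (fun i => force i fun p => cycOK F0 (fun q => Nat.beq (traceP S [nat_lit 10] q) p) p (nat_lit 9) p) = true := by decide +kernel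

theorem fa1_0 : allRange (nat_lit 0) (nat_lit 8000) (fun i => Nat.beq (traceP S [nat_lit 0,nat_lit 1,nat_lit 4,nat_lit 8,nat_lit 11,nat_lit 10,nat_lit 0,nat_lit 3,nat_lit 6,nat_lit 7,nat_lit 9,nat_lit 0,nat_lit 2,nat_lit 5] i) (F1 i)) = true := by decide +kernel

theorem fa1_1 : allRange (nat_lit 8000) (nat_lit 8000) (fun i => Nat.beq (traceP S [nat_lit 0,nat_lit 1,nat_lit 4,nat_lit 8,nat_lit 11,nat_lit 10,nat_lit 0,nat_lit 3,nat_lit 6,nat_lit 7,nat_lit 9,nat_lit 0,nat_lit 2,nat_lit 5] i) (F1 i)) = true := by decide +kernel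

theorem fa1_2 : allRange (nat_lit 16000) (nat_lit 8000) (fun i => Nat.beq (traceP S [nat_lit 0,nat_lit 1,nat_lit 4,nat_lit 8,nat_lit 11,nat_lit 10,nat_lit 0,nat_lit 3,nat_lit 6,nat_lit 7,nat_lit 9,nat_lit 0,nat_lit 2,nat_lit 5] i) (F1 i)) = true := by decide +kernel

theorem fa1_3 : allRange (nat_lit 24000) (nat_lit 8000) (fun i => Nat.beq (traceP S [nat_lit 0,nat_lit 1,nat_lit 4,nat_lit 8,nat_lit 11,nat_lit 10,nat_lit 0,nat_lit 3,nat_lit 6,nat_lit 7,nat_lit 9,nat_lit 0,nat_lit 2,nat_lit 5] i) (F1 i)) = true := by decide +kernel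

theorem fa1_4 : allRange (nat_lit 32000) (nat_lit 8000) (fun i => Nat.beq (traceP S [nat_lit 0,nat_lit 1,nat_lit 4,nat_lit 8,nat_lit 11,nat_lit 10,nat_lit 0,nat_lit 3,nat_lit 6,nat_lit 7,nat_lit 9,nat_lit 0,nat_lit 2,nat_lit 5] i) (F1 i)) = true := by decide +kernel

theorem fa1_5 : allRange (nat_lit 40000) (nat_lit 8000) (fun i => Nat.beq (traceP S [nat_lit 0,nat_lit 1,nat_lit 4,nat_lit 8,nat_lit 11,nat_lit 10,nat_lit 0,nat_lit 3,nat_lit 6,nat_lit 7,nat_lit 9,nat_lit 0,nat_lit 2,nat_lit 5] i) (F1 i)) = true := by decide +kernel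

theorem fa1_6 : allRange (nat_lit 48000) (nat_lit 8000) (fun i => Nat.beq (traceP S [nat_lit 0,nat_lit 1,nat_lit 4,nat_lit 8,nat_lit 11,nat_lit 10,nat_lit 0,nat_lit 3,nat_lit 6,nat_lit 7,nat_lit 9,nat_lit 0,nat_lit 2,nat_lit 5] i) (F1 i)) = true := by decide +kernel

theorem fa1_7 : allRange (nat_lit 56000) (nat_lit 8000) (fun i => Nat.beq (traceP S [nat_lit 0,nat_lit 1,nat_lit 4,nat_lit 8,nat_lit 11,nat_lit 10,nat_lit 0,nat_lit 3,nat_lit 6,nat_lit 7,nat_lit 9,nat_lit 0,nat_lit 2,nat_lit 5] i) (F1 i)) = true := by decide +kernel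

theorem fa1_8 : allRange (nat_lit 64000) (nat_lit 8000) (fun i => Nat.beq (traceP S [nat_lit 0,nat_lit 1,nat_lit 4,nat_lit 8,nat_lit 11,nat_lit 10,nat_lit 0,nat_lit 3,nat_lit 6,nat_lit 7,nat_lit 9,nat_lit 0,nat_lit 2,nat_lit 5] i) (F1 i)) = true := by decide +kernel

theorem fa1_9 : allRange (nat_lit 72000) (nat_lit 8000) (fun i => Nat.beq (traceP S [nat_lit 0,nat_lit 1,nat_lit 4,nat_lit 8,nat_lit 11,nat_lit 10,nat_lit 0,nat_lit 3,nat_lit 6,nat_lit 7,nat_lit 9,nat_lit 0,nat_lit 2,nat_lit 5] i) (F1 i)) = true := by decide +kernel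

theorem fa1_10 : allRange (nat_lit 80000) (nat_lit 8000) (fun i => Nat.beq (traceP S [nat_lit 0,nat_lit 1,nat_lit 4,nat_lit 8,nat_lit 11,nat_lit 10,nat_lit 0,nat_lit 3,nat_lit 6,nat_lit 7,nat_lit 9,nat_lit 0,nat_lit 2,nat_lit 5] i) (F1 i)) = true := by decide +kernel

theorem fa1_11 : allRange (nat_lit 88000) (nat_lit 8000) (fun i => Nat.beq (traceP S [nat_lit 0,nat_lit 1,nat_lit 4,nat_lit 8,nat_lit 11,nat_lit 10,nat_lit 0,nat_lit 3,nat_lit 6,nat_lit 7,nat_lit 9,nat_lit 0,nat_lit 2,nat_lit 5] i) (F1 i)) = true := by decide +kernel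

end Cfsg.Agent.Spor.MFi24
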