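import Mathlib
import Cfsg.Agent.Spor.Fi24.RepD

/-! Generated by tools/pg: the action of Fi24 on 306936 points -/

set_option autoImplicit false
set_option maxRecDepth 100000
set_option linter.unusedVariables false
set_option exponentiation.threshold 100000

namespace Cfsg.Agent.Spor.MFi24

open Cfsg.Agent.Spor

theorem fa1_12 : allRange (nat_lit 96000) (nat_lit 8000) (fun i => Nat.beq (traceP S [nat_lit 0,nat_lit 1,nat_lit 4,nat_lit 8,nat_lit 11,nat_lit 10,nat_lit 0,nat_lit 3,nat_lit 6,nat_lit 7,nat_lit 9,nat_lit 0,nat_lit 2,nat_lit 5] i) (F1 i)) = true := by decide +kernel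

theorem fa1_13 : allRange (nat_lit 104000) (nat_lit 8000) (fun i => Nat.beq (traceP S [nat_lit 0,nat_lit 1,nat_lit 4,nat_lit 8,nat_lit 11,nat_lit 10,nat_lit 0,nat_lit 3,nat_lit 6,nat_lit 7,nat_lit 9,nat_lit 0,nat_lit 2,nat_lit 5] i) (F1 i)) = true := by decide +kernel

theorem fa1_14 : allRange (nat_lit 112000) (nat_lit 8000) (fun i => Nat.beq (traceP S [nat_lit 0,nat_lit 1,nat_lit 4,nat_lit 8,nat_lit 11,nat_lit 10,nat_lit 0,nat_lit 3,nat_lit 6,nat_lit 7,nat_lit 9,nat_lit 0,nat_lit 2,nat_lit 5] i) (F1 i)) = true := by decide +kernel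

theorem fa1_15 : allRange (nat_lit 120000) (nat_lit 8000) (fun i => Nat.beq (traceP S [nat_lit 0,nat_lit 1,nat_lit 4,nat_lit 8,nat_lit 11,nat_lit 10,nat_lit 0,nat_lit 3,nat_lit 6,nat_lit 7,nat_lit 9,nat_lit 0,nat_lit 2,nat_lit 5] i) (F1 i)) = true := by decide +kernel

theorem fa1_16 : allRange (nat_lit 128000) (nat_lit 8000) (fun i => Nat.beq (traceP S [nat_lit 0,nat_lit 1,nat_lit 4,nat_lit 8,nat_lit 11,nat_lit 10,nat_lit 0,nat_lit 3,nat_lit 6,nat_lit 7,nat_lit 9,nat_lit 0,nat_lit 2,nat_lit 5] i) (F1 i)) = true := by decide +kernel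

theorem fa1_17 : allRange (nat_lit 136000) (nat_lit 8000) (fun i => Nat.beq (traceP S [nat_lit 0,nat_lit 1,nat_lit 4,nat_lit 8,nat_lit 11,nat_lit 10,nat_lit 0,nat_lit 3,nat_lit 6,nat_lit 7,nat_lit 9,nat_lit 0,nat_lit 2,nat_lit 5] i) (F1 i)) = true := by decide +kernel

theorem fa1_18 : allRange (nat_lit 144000) (nat_lit 8000) (fun i => Nat.beq (traceP S [nat_lit 0,nat_lit 1,nat_lit 4,nat_lit 8,nat_lit 11,nat_lit 10,nat_lit 0,nat_lit 3,nat_lit 6,nat_lit 7,nat_lit 9,nat_lit 0,nat_lit 2,nat_lit 5] i) (F1 i)) = true := by decide +kernel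

theorem fa1_19 : allRange (nat_lit 152000) (nat_lit 8000) (fun i => Nat.beq (traceP S [nat_lit 0,nat_lit 1,nat_lit 4,nat_lit 8,nat_lit 11,nat_lit 10,nat_lit 0,nat_lit 3,nat_lit 6,nat_lit 7,nat_lit 9,nat_lit 0,nat_lit 2,nat_lit 5] i) (F1 i)) = true := by decide +kernel

theorem fa1_20 : allRange (nat_lit 160000) (nat_lit 8000) (fun i => Nat.beq (traceP S [nat_lit 0,nat_lit 1,nat_lit 4,nat_lit 8,nat_lit 11,nat_lit 10,nat_lit 0,nat_lit 3,nat_lit 6,nat_lit 7,nat_lit 9,nat_lit 0,nat_lit 2,nat_lit 5] i) (F1 i)) = true := by decide +kernel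

theorem fa1_21 : allRange (nat_lit 168000) (nat_lit 8000) (fun i => Nat.beq (traceP S [nat_lit 0,nat_lit 1,nat_lit 4,nat_lit 8,nat_lit 11,nat_lit 10,nat_lit 0,nat_lit 3,nat_lit 6,nat_lit 7,nat_lit 9,nat_lit 0,nat_lit 2,nat_lit 5] i) (F1 i)) = true := by decide +kernel

theorem fa1_22 : allRange (nat_lit 176000) (nat_lit 8000) (fun i => Nat.beq (traceP S [nat_lit 0,nat_lit 1,nat_lit 4,nat_lit 8,nat_lit 11,nat_lit 10,nat_lit 0,nat_lit 3,nat_lit 6,nat_lit 7,nat_lit 9,nat_lit 0,nat_lit 2,nat_lit 5] i) (F1 i)) = true := by decide +kernel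

theorem fa1_23 : allRange (nat_lit 184000) (nat_lit 8000) (fun i => Nat.beq (traceP S [nat_lit 0,nat_lit 1,nat_lit 4,nat_lit 8,nat_lit 11,nat_lit 10,nat_lit 0,nat_lit 3,nat_lit 6,nat_lit 7,nat_lit 9,nat_lit 0,nat_lit 2,nat_lit 5] i) (F1 i)) = true := by decide +kernel

theorem fa1_24 : allRange (nat_lit 192000) (nat_lit 8000) (fun i => Nat.beq (traceP S [nat_lit 0,nat_lit 1,nat_lit 4,nat_lit 8,nat_lit 11,nat_lit 10,nat_lit 0,nat_lit 3,nat_lit 6,nat_lit 7,nat_lit 9,nat_lit 0,nat_lit 2,nat_lit 5] i) (F1 i)) = true := by decide +kernel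

theorem fa1_25 : allRange (nat_lit 200000) (nat_lit 8000) (fun i => Nat.beq (traceP S [nat_lit 0,nat_lit 1,nat_lit 4,nat_lit 8,nat_lit 11,nat_lit 10,nat_lit 0,nat_lit 3,nat_lit 6,nat_lit 7,nat_lit 9,nat_lit 0,nat_lit 2,nat_lit 5] i) (F1 i)) = true := by decide +kernel

theorem fa1_26 : allRange (nat_lit 208000) (nat_lit 8000) (fun i => Nat.beq (traceP S [nat_lit 0,nat_lit 1,nat_lit 4,nat_lit 8,nat_lit 11,nat_lit 10,nat_lit 0,nat_lit 3,nat_lit 6,nat_lit 7,nat_lit 9,nat_lit 0,nat_lit 2,nat_lit 5] i) (F1 i)) = true := by decide +kernel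

theorem fa1_27 : allRange (nat_lit 216000) (nat_lit 8000) (fun i => Nat.beq (traceP S [nat_lit 0,nat_lit 1,nat_lit 4,nat_lit 8,nat_lit 11,nat_lit 10,nat_lit 0,nat_lit 3,nat_lit 6,nat_lit 7,nat_lit 9,nat_lit 0,nat_lit 2,nat_lit 5] i) (F1 i)) = true := by decide +kernel

end Cfsg.Agent.Spor.MFi24
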