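import Mathlib
import Cfsg.Agent.Spor.Fi24.RepD

/-! Generated by tools/pg: the action of Fi24 on 306936 points -/

set_option autoImplicit false
set_option maxRecDepth 100000
set_option linter.unusedVariables false
set_option exponentiation.threshold 100000

namespace Cfsg.Agent.Spor.MFi24

open Cfsg.Agent.Spor

theorem fa1_28 : allRange (nat_lit 224000) (nat_lit 8000) (fun i => Nat.beq (traceP S [nat_lit 0,nat_lit 1,nat_lit 4,nat_lit 8,nat_lit 11,nat_lit 10,nat_lit 0,nat_lit 3,nat_lit 6,nat_lit 7,nat_lit 9,nat_lit 0,nat_lit 2,nat_lit 5] i) (F1 i)) = true := by decide +kernel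

theorem fa1_29 : allRange (nat_lit 232000) (nat_lit 8000) (fun i => Nat.beq (traceP S [nat_lit 0,nat_lit 1,nat_lit 4,nat_lit 8,nat_lit 11,nat_lit 10,nat_lit 0,nat_lit 3,nat_lit 6,nat_lit 7,nat_lit 9,nat_lit 0,nat_lit 2,nat_lit 5] i) (F1 i)) = true := by decide +kernel

theorem fa1_30 : allRange (nat_lit 240000) (nat_lit 8000) (fun i => Nat.beq (traceP S [nat_lit 0,nat_lit 1,nat_lit 4,nat_lit 8,nat_lit 11,nat_lit 10,nat_lit 0,nat_lit 3,nat_lit 6,nat_lit 7,nat_lit 9,nat_lit 0,nat_lit 2,nat_lit 5] i) (F1 i)) = true := by decide +kernel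

theorem fa1_31 : allRange (nat_lit 248000) (nat_lit 8000) (fun i => Nat.beq (traceP S [nat_lit 0,nat_lit 1,nat_lit 4,nat_lit 8,nat_lit 11,nat_lit 10,nat_lit 0,nat_lit 3,nat_lit 6,nat_lit 7,nat_lit 9,nat_lit 0,nat_lit 2,nat_lit 5] i) (F1 i)) = true := by decide +kernel

theorem fa1_32 : allRange (nat_lit 256000) (nat_lit 8000) (fun i => Nat.beq (traceP S [nat_lit 0,nat_lit 1,nat_lit 4,nat_lit 8,nat_lit 11,nat_lit 10,nat_lit 0,nat_lit 3,nat_lit 6,nat_lit 7,nat_lit 9,nat_lit 0,nat_lit 2,nat_lit 5] i) (F1 i)) = true := by decide +kernel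

theorem fa1_33 : allRange (nat_lit 264000) (nat_lit 8000) (fun i => Nat.beq (traceP S [nat_lit 0,nat_lit 1,nat_lit 4,nat_lit 8,nat_lit 11,nat_lit 10,nat_lit 0,nat_lit 3,nat_lit 6,nat_lit 7,nat_lit 9,nat_lit 0,nat_lit 2,nat_lit 5] i) (F1 i)) = true := by decide +kernel

theorem fa1_34 : allRange (nat_lit 272000) (nat_lit 8000) (fun i => Nat.beq (traceP S [nat_lit 0,nat_lit 1,nat_lit 4,nat_lit 8,nat_lit 11,nat_lit 10,nat_lit 0,nat_lit 3,nat_lit 6,nat_lit 7,nat_lit 9,nat_lit 0,nat_lit 2,nat_lit 5] i) (F1 i)) = true := by decide +kernel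

theorem fa1_35 : allRange (nat_lit 280000) (nat_lit 8000) (fun i => Nat.beq (traceP S [nat_lit 0,nat_lit 1,nat_lit 4,nat_lit 8,nat_lit 11,nat_lit 10,nat_lit 0,nat_lit 3,nat_lit 6,nat_lit 7,nat_lit 9,nat_lit 0,nat_lit 2,nat_lit 5] i) (F1 i)) = true := by decide +kernel

theorem fa1_36 : allRange (nat_lit 288000) (nat_lit 8000) (fun i => Nat.beq (traceP S [nat_lit 0,nat_lit 1,nat_lit 4,nat_lit 8,nat_lit 11,nat_lit 10,nat_lit 0,nat_lit 3,nat_lit 6,nat_lit 7,nat_lit 9,nat_lit 0,nat_lit 2,nat_lit 5] i) (F1 i)) = true := by decide +kernel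

theorem fa1_37 : allRange (nat_lit 296000) (nat_lit 8000) (fun i => Nat.beq (traceP S [nat_lit 0,nat_lit 1,nat_lit 4,nat_lit 8,nat_lit 11,nat_lit 10,nat_lit 0,nat_lit 3,nat_lit 6,nat_lit 7,nat_lit 9,nat_lit 0,nat_lit 2,nat_lit 5] i) (F1 i)) = true := by decide +kernel

theorem fa1_38 : allRange (nat_lit 304000) (nat_lit 2936) (fun i => Nat.beq (traceP S [nat_lit 0,nat_lit 1,nat_lit 4,nat_lit 8,nat_lit 11,nat_lit 10,nat_lit 0,nat_lit 3,nat_lit 6,nat_lit 7,nat_lit 9,nat_lit 0,nat_lit 2,nat_lit 5] i) (F1 i)) = true := by decide +kernel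

theorem fb1_0 : allRange (nat_lit 0) (nat_lit 25000) (fun i => force i fun p => cycOK F1 (fun q => Nat.beq (traceP S [] q) p) p (nat_lit 17) p) = true := by decide +kernel

theorem fb1_1 : allRange (nat_lit 25000) (nat_lit 25000) (fun i => force i fun p => cycOK F1 (fun q => Nat.beq (traceP S [] q) p) p (nat_lit 17) p) = true := by decide +kernel

theorem fb1_2 : allRange (nat_lit 50000) (nat_lit 25000) (fun i => force i fun p => cycOK F1 (fun q => Nat.beq (traceP S [] q) p) p (nat_lit 17) p) = true := by decide +kernel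

theorem fb1_3 : allRange (nat_lit 75000) (nat_lit 25000) (fun i => force i fun p => cycOK F1 (fun q => Nat.beq (traceP S [] q) p) p (nat_lit 17) p) = true := by decide +kernel

theorem fb1_4 : allRange (nat_lit 100000) (nat_lit 25000) (fun i => force i fun p => cycOK F1 (fun q => Nat.beq (traceP S [] q) p) p (nat_lit 17) p) = true := by decide +kernel

end Cfsg.Agent.Spor.MFi24
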