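import Mathlib
import Cfsg.Agent.Spor.Fi24.RepD

/-! Generated by tools/pg: the action of Fi24 on 306936 points -/

set_option autoImplicit false
set_option maxRecDepth 100000
set_option linter.unusedVariables false
set_option exponentiation.threshold 100000

namespace Cfsg.Agent.Spor.MFi24

open Cfsg.Agent.Spor

theorem cxc_128 : allRange (nat_lit 304640) (nat_lit 2296) cx = true := by decide +kernel

theorem fa0_0 : allRange (nat_lit 0) (nat_lit 14492) (fun i => Nat.beq (traceP S [nat_lit 2,nat_lit 6,nat_lit 3,nat_lit 0,nat_lit 1,nat_lit 4,nat_lit 8] i) (F0 i)) = true := by decide +kernel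

theorem fa0_1 : allRange (nat_lit 14492) (nat_lit 14492) (fun i => Nat.beq (traceP S [nat_lit 2,nat_lit 6,nat_lit 3,nat_lit 0,nat_lit 1,nat_lit 4,nat_lit 8] i) (F0 i)) = true := by decide +kernel

theorem fa0_2 : allRange (nat_lit 28984) (nat_lit 14492) (fun i => Nat.beq (traceP S [nat_lit 2,nat_lit 6,nat_lit 3,nat_lit 0,nat_lit 1,nat_lit 4,nat_lit 8] i) (F0 i)) = true := by decide +kernel

theorem fa0_3 : allRange (nat_lit 43476) (nat_lit 14492) (fun i => Nat.beq (traceP S [nat_lit 2,nat_lit 6,nat_lit 3,nat_lit 0,nat_lit 1,nat_lit 4,nat_lit 8] i) (F0 i)) = true := by decide +kernel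

theorem fa0_4 : allRange (nat_lit 57968) (nat_lit 14492) (fun i => Nat.beq (traceP S [nat_lit 2,nat_lit 6,nat_lit 3,nat_lit 0,nat_lit 1,nat_lit 4,nat_lit 8] i) (F0 i)) = true := by decide +kernel

theorem fa0_5 : allRange (nat_lit 72460) (nat_lit 14492) (fun i => Nat.beq (traceP S [nat_lit 2,nat_lit 6,nat_lit 3,nat_lit 0,nat_lit 1,nat_lit 4,nat_lit 8] i) (F0 i)) = true := by decide +kernel

theorem fa0_6 : allRange (nat_lit 86952) (nat_lit 14492) (fun i => Nat.beq (traceP S [nat_lit 2,nat_lit 6,nat_lit 3,nat_lit 0,nat_lit 1,nat_lit 4,nat_lit 8] i) (F0 i)) = true := by decide +kernel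

theorem fa0_7 : allRange (nat_lit 101444) (nat_lit 14492) (fun i => Nat.beq (traceP S [nat_lit 2,nat_lit 6,nat_lit 3,nat_lit 0,nat_lit 1,nat_lit 4,nat_lit 8] i) (F0 i)) = true := by decide +kernel

theorem fa0_8 : allRange (nat_lit 115936) (nat_lit 14492) (fun i => Nat.beq (traceP S [nat_lit 2,nat_lit 6,nat_lit 3,nat_lit 0,nat_lit 1,nat_lit 4,nat_lit 8] i) (F0 i)) = true := by decide +kernel

theorem fa0_9 : allRange (nat_lit 130428) (nat_lit 14492) (fun i => Nat.beq (traceP S [nat_lit 2,nat_lit 6,nat_lit 3,nat_lit 0,nat_lit 1,nat_lit 4,nat_lit 8] i) (F0 i)) = true := by decide +kernel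

theorem fa0_10 : allRange (nat_lit 144920) (nat_lit 14492) (fun i => Nat.beq (traceP S [nat_lit 2,nat_lit 6,nat_lit 3,nat_lit 0,nat_lit 1,nat_lit 4,nat_lit 8] i) (F0 i)) = true := by decide +kernel

theorem fa0_11 : allRange (nat_lit 159412) (nat_lit 14492) (fun i => Nat.beq (traceP S [nat_lit 2,nat_lit 6,nat_lit 3,nat_lit 0,nat_lit 1,nat_lit 4,nat_lit 8] i) (F0 i)) = true := by decide +kernel

theorem fa0_12 : allRange (nat_lit 173904) (nat_lit 14492) (fun i => Nat.beq (traceP S [nat_lit 2,nat_lit 6,nat_lit 3,nat_lit 0,nat_lit 1,nat_lit 4,nat_lit 8] i) (F0 i)) = true := by decide +kernel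

theorem fa0_13 : allRange (nat_lit 188396) (nat_lit 14492) (fun i => Nat.beq (traceP S [nat_lit 2,nat_lit 6,nat_lit 3,nat_lit 0,nat_lit 1,nat_lit 4,nat_lit 8] i) (F0 i)) = true := by decide +kernel

theorem fa0_14 : allRange (nat_lit 202888) (nat_lit 14492) (fun i => Nat.beq (traceP S [nat_lit 2,nat_lit 6,nat_lit 3,nat_lit 0,nat_lit 1,nat_lit 4,nat_lit 8] i) (F0 i)) = true := by decide +kernel

end Cfsg.Agent.Spor.MFi24
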