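import Mathlib
import Cfsg.Agent.Spor.Fi24.RepC0
import Cfsg.Agent.Spor.Fi24.RepC1
import Cfsg.Agent.Spor.Fi24.RepC2
import Cfsg.Agent.Spor.Fi24.RepC3
import Cfsg.Agent.Spor.Fi24.RepC4
import Cfsg.Agent.Spor.Fi24.RepC5
import Cfsg.Agent.Spor.Fi24.RepC6
import Cfsg.Agent.Spor.Fi24.RepC7
import Cfsg.Agent.Spor.Fi24.RepC8
import Cfsg.Agent.Spor.Fi24.RepC9
import Cfsg.Agent.Spor.Fi24.RepC10
import Cfsg.Agent.Spor.Fi24.RepC11
import Cfsg.Agent.Spor.Fi24.RepC12
import Cfsg.Agent.Spor.Fi24.RepC13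
import Cfsg.Agent.Spor.Comp.Derive

/-! Generated by tools/pg: the action of Fi24 on 306936 points -/

set_option autoImplicit false
set_option maxRecDepth 100000
set_option linter.unusedVariables false
set_option exponentiation.threshold 100000

namespace Cfsg.Agent.Spor.MFi24

open Cfsg.Agent.Spor


theorem cxc_u20 : allRange (nat_lit 0) (nat_lit 49980) cx = true := (allRange_join' (nat_lit 49980) (allRange_join' (nat_lit 47600) (allRange_join' (nat_lit 45220) (allRange_join' (nat_lit 42840) (allRange_join' (nat_lit 40460) (allRange_join' (nat_lit 38080) (allRange_join' (nat_lit 35700) (allRange_join' (nat_lit 33320) (allRange_join' (nat_lit 30940) (allRange_join' (nat_lit 28560) (allRange_join' (nat_lit 26180) (allRange_join' (nat_lit 23800) (allRange_join' (nat_lit 21420) (allRange_join' (nat_lit 19040) (allRange_join' (nat_lit 16660) (allRange_join' (nat_lit 14280) (allRange_join' (nat_lit 11900) (allRange_join' (nat_lit 9520) (allRange_join' (nat_lit 7140) (allRange_join'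 (nat_lit 4760) cxc_0 cxc_1 rfl) cxc_2 rfl) cxc_3 rfl) cxc_4 rfl) cxc_5 rfl) cxc_6 rfl) cxc_7 rfl) cxc_8 rfl) cxc_9 rfl) cxc_10 rfl) cxc_11 rfl) cxc_12 rfl) cxc_13 rfl) cxc_14 rfl) cxc_15 rfl) cxc_16 rfl) cxc_17 rfl) cxc_18 rfl) cxc_19 rfl) cxc_20 rfl)
theorem cxc_u40 : allRange (nat_lit 0) (nat_lit 97580) cx = true := (allRange_join' (nat_lit 97580) (allRange_join' (nat_lit 95200) (allRange_join' (nat_lit 92820) (allRange_join' (nat_lit 90440) (allRange_join' (nat_lit 88060) (allRange_join' (nat_lit 85680) (allRange_join' (nat_lit 83300) (allRange_join' (nat_lit 80920) (allRange_join' (nat_lit 78540) (allRange_join' (nat_lit 76160) (allRange_join' (nat_lit 73780) (allRange_join' (nat_lit 71400) (allRange_join' (nat_lit 69020) (allRange_join' (nat_lit 66640) (allRange_join' (nat_lit 64260) (allRange_join' (nat_lit 61880) (allRange_join' (nat_lit 59500) (allRange_join' (nat_lit 57120) (allRange_join' (nat_lit 54740) (allRange_join' (nat_lit 52360) cxc_u20 cxc_21 rfl) cxc_22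 rfl) cxc_23 rfl) cxc_24 rfl) cxc_25 rfl) cxc_26 rfl) cxc_27 rfl) cxc_28 rfl) cxc_29 rfl) cxc_30 rfl) cxc_31 rfl) cxc_32 rfl) cxc_33 rfl) cxc_34 rfl) cxc_35 rfl) cxc_36 rfl) cxc_37 rfl) cxc_38 rfl) cxc_39 rfl) cxc_40 rfl)
theorem cxc_u60 : allRange (nat_lit 0) (nat_lit 145180) cx = true := (allRange_join' (nat_lit 145180) (allRange_join' (nat_lit 142800) (allRange_join' (nat_lit 140420) (allRange_join' (nat_lit 138040) (allRange_join' (nat_lit 135660) (allRange_join' (nat_lit 133280) (allRange_join' (nat_lit 130900) (allRange_join' (nat_lit 128520) (allRange_join' (nat_lit 126140) (allRange_join' (nat_lit 123760) (allRange_join' (nat_lit 121380) (allRange_join' (nat_lit 119000) (allRange_join' (nat_lit 116620) (allRange_join' (nat_lit 114240) (allRange_join' (nat_lit 111860) (allRange_join' (nat_lit 109480) (allRange_join' (nat_lit 107100) (allRange_join' (nat_lit 104720) (allRange_join' (nat_lit 102340) (allRange_join' (nat_lit 99960) cxc_u40 cxc_41 rfl) cxc_42 rfl) cxc_43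 rfl) cxc_44 rfl) cxc_45 rfl) cxc_46 rfl) cxc_47 rfl) cxc_48 rfl) cxc_49 rfl) cxc_50 rfl) cxc_51 rfl) cxc_52 rfl) cxc_53 rfl) cxc_54 rfl) cxc_55 rfl) cxc_56 rfl) cxc_57 rfl) cxc_58 rfl) cxc_59 rfl) cxc_60 rfl)
theorem cxc_u80 : allRange (nat_lit 0) (nat_lit 192780) cx = true := (allRange_join' (nat_lit 192780) (allRange_join' (nat_lit 190400) (allRange_join' (nat_lit 188020) (allRange_join' (nat_lit 185640) (allRange_join' (nat_lit 183260) (allRange_join' (nat_lit 180880) (allRange_join' (nat_lit 178500) (allRange_join' (nat_lit 176120) (allRange_join' (nat_lit 173740) (allRange_join' (nat_lit 171360) (allRange_join' (nat_lit 168980) (allRange_join' (nat_lit 166600) (allRange_join' (nat_lit 164220) (allRange_join' (nat_lit 161840) (allRange_join' (nat_lit 159460) (allRange_join' (nat_lit 157080) (allRange_join' (nat_lit 154700) (allRange_join' (nat_lit 152320) (allRange_join' (nat_lit 149940) (allRange_join' (nat_lit 147560) cxc_u60 cxc_61 rfl) cxc_62 rfl) cxc_63 rfl) cxc_64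 rfl) cxc_65 rfl) cxc_66 rfl) cxc_67 rfl) cxc_68 rfl) cxc_69 rfl) cxc_70 rfl) cxc_71 rfl) cxc_72 rfl) cxc_73 rfl) cxc_74 rfl) cxc_75 rfl) cxc_76 rfl) cxc_77 rfl) cxc_78 rfl) cxc_79 rfl) cxc_80 rfl)
theorem cxc_u100 : allRange (nat_lit 0) (nat_lit 240380) cx = true := (allRange_join' (nat_lit 240380) (allRange_join' (nat_lit 238000) (allRange_join' (nat_lit 235620) (allRange_join' (nat_lit 233240) (allRange_join' (nat_lit 230860) (allRange_join' (nat_lit 228480) (allRange_join' (nat_lit 226100) (allRange_join' (nat_lit 223720) (allRange_join' (nat_lit 221340) (allRange_join' (nat_lit 218960) (allRange_join' (nat_lit 216580) (allRange_join' (nat_lit 214200) (allRange_join' (nat_lit 211820) (allRange_join' (nat_lit 209440) (allRange_join' (nat_lit 207060) (allRange_join' (nat_lit 204680) (allRange_join' (nat_lit 202300) (allRange_join' (nat_lit 199920) (allRange_join' (nat_lit 197540) (allRange_join' (nat_lit 195160) cxc_u80 cxc_81 rfl) cxc_82 rfl) cxc_83 rfl) cxc_84 rfl) cxc_85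 rfl) cxc_86 rfl) cxc_87 rfl) cxc_88 rfl) cxc_89 rfl) cxc_90 rfl) cxc_91 rfl) cxc_92 rfl) cxc_93 rfl) cxc_94 rfl) cxc_95 rfl) cxc_96 rfl) cxc_97 rfl) cxc_98 rfl) cxc_99 rfl) cxc_100 rfl)
theorem cxc_u120 : allRange (nat_lit 0) (nat_lit 287980) cx = true := (allRange_join' (nat_lit 287980) (allRange_join' (nat_lit 285600) (allRange_join' (nat_lit 283220) (allRange_join' (nat_lit 280840) (allRange_join' (nat_lit 278460) (allRange_join' (nat_lit 276080) (allRange_join' (nat_lit 273700) (allRange_join' (nat_lit 271320) (allRange_join' (nat_lit 268940) (allRange_join' (nat_lit 266560) (allRange_join' (nat_lit 264180) (allRange_join' (nat_lit 261800) (allRange_join' (nat_lit 259420) (allRange_join' (nat_lit 257040) (allRange_join' (nat_lit 254660) (allRange_join' (nat_lit 252280) (allRange_join' (nat_lit 249900) (allRange_join' (nat_lit 247520) (allRange_join' (nat_lit 245140) (allRange_join' (nat_lit 242760) cxc_u100 cxc_101 rfl) cxc_102 rfl) cxc_103 rfl) cxc_104 rfl) cxc_105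 rfl) cxc_106 rfl) cxc_107 rfl) cxc_108 rfl) cxc_109 rfl) cxc_110 rfl) cxc_111 rfl) cxc_112 rfl) cxc_113 rfl) cxc_114 rfl) cxc_115 rfl) cxc_116 rfl) cxc_117 rfl) cxc_118 rfl) cxc_119 rfl) cxc_120 rfl)
theorem cxc : allRange (nat_lit 0) (nat_lit 306936) cx = true := (allRange_join' (nat_lit 306936) (allRange_join' (nat_lit 304640) (allRange_join' (nat_lit 302260) (allRange_join' (nat_lit 299880) (allRange_join' (nat_lit 297500) (allRange_join' (nat_lit 295120) (allRange_join' (nat_lit 292740) (allRange_join' (nat_lit 290360) cxc_u120 cxc_121 rfl) cxc_122 rfl) cxc_123 rfl) cxc_124 rfl) cxc_125 rfl) cxc_126 rfl) cxc_127 rfl) cxc_128 rfl)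

theorem cxa : (∀ x < 12, invOK 306936 (S x) (S x) = true) ∧
    ∀ t : LT, t.all (coxLeaf 19 12 dg Ed) = true → ∀ i, evalW (fun x => permOf 306936 (S x)) (t.get i) = 1 :=
  cox_all cxc (by decide +kernel)

theorem tabsP : Tabs (finE 306936) 306936 S (fun x => permOf 306936 (S x)) 12 := tabs_permOf (inv := fun x => x) cxa.1

theorem relS : ∀ i, evalW (fun x => permOf 306936 (S x)) ((LT.node Rp Rs).get i) = 1 :=
  LT.forall_node (P := fun w => evalW _ w = 1) (pairs_rel (inv := fun x => x) cxa.1 (by decide +kernel))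
    (cxa.2 Rs (by decide +kernel))

theorem fa0_u20 : allRange (nat_lit 0) (nat_lit 304332) (fun i => Nat.beq (traceP S [nat_lit 2,nat_lit 6,nat_lit 3,nat_lit 0,nat_lit 1,nat_lit 4,nat_lit 8] i) (F0 i)) = true := (allRange_join' (nat_lit 304332) (allRange_join' (nat_lit 289840) (allRange_join' (nat_lit 275348) (allRange_join' (nat_lit 260856) (allRange_join' (nat_lit 246364) (allRange_join' (nat_lit 231872) (allRange_join' (nat_lit 217380) (allRange_join' (nat_lit 202888) (allRange_join' (nat_lit 188396) (allRange_join' (nat_lit 173904) (allRange_join' (nat_lit 159412) (allRange_join' (nat_lit 144920) (allRange_join' (nat_lit 130428) (allRange_join' (nat_lit 115936) (allRange_join' (nat_lit 101444) (allRange_join' (nat_lit 86952) (allRange_join' (nat_lit 72460) (allRange_join' (nat_lit 57968) (allRange_join' (nat_lit 43476) (allRange_join' (nat_lit 28984) fa0_0 fa0_1 rfl) fa0_2 rfl) fa0_3 rfl) fa0_4 rfl) fa0_5 rfl) fa0_6 rfl) fa0_7 rfl) fa0_8 rfl) fa0_9 rfl) fa0_10 rfl)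 fa0_11 rfl) fa0_12 rfl) fa0_13 rfl) fa0_14 rfl) fa0_15 rfl) fa0_16 rfl) fa0_17 rfl) fa0_18 rfl) fa0_19 rfl) fa0_20 rfl)
theorem fa0 : allRange (nat_lit 0) (nat_lit 306936) (fun i => Nat.beq (traceP S [nat_lit 2,nat_lit 6,nat_lit 3,nat_lit 0,nat_lit 1,nat_lit 4,nat_lit 8] i) (F0 i)) = true := (allRange_join' (nat_lit 306936) fa0_u20 fa0_21 rfl)
theorem fb0 : allRange (nat_lit 0) (nat_lit 306936) (fun i => force i fun p => cycOK F0 (fun q => Nat.beq (traceP S [nat_lit 10] q) p) p (nat_lit 9) p) = true := (allRange_join' (nat_lit 306936) (allRange_join' (nat_lit 300000) (allRange_join' (nat_lit 275000) (allRange_join' (nat_lit 250000) (allRange_join' (nat_lit 225000) (allRange_join' (nat_lit 200000) (allRange_join' (nat_lit 175000) (allRange_join' (nat_lit 150000) (allRange_join' (nat_lit 125000) (allRange_join' (nat_lit 100000) (allRange_join' (nat_lit 75000) (allRange_join' (nat_lit 50000) fb0_0 fb0_1 rfl) fb0_2 rfl) fb0_3 rfl) fb0_4 rfl) fb0_5 rfl) fb0_6 rfl) fb0_7 rfl)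 fb0_8 rfl) fb0_9 rfl) fb0_10 rfl) fb0_11 rfl) fb0_12 rfl)
theorem relL0 : evalW (fun x => permOf 306936 (S x)) (appL [10] (powW 9 [2, 6, 3, 0, 1, 4, 8])) = 1 :=
  tabsP.pow_rel_min (fun a _ h => finE_faithful a h) (by decide +kernel) (commute_of_tree relS (by decide +kernel)) fa0 fb0

theorem fa1_u20 : allRange (nat_lit 0) (nat_lit 168000) (fun i => Nat.beq (traceP S [nat_lit 0,nat_lit 1,nat_lit 4,nat_lit 8,nat_lit 11,nat_lit 10,nat_lit 0,nat_lit 3,nat_lit 6,nat_lit 7,nat_lit 9,nat_lit 0,nat_lit 2,nat_lit 5] i) (F1 i)) = true := (allRange_join' (nat_lit 168000) (allRange_join' (nat_lit 160000) (allRange_join' (nat_lit 152000) (allRange_join' (nat_lit 144000) (allRange_join' (nat_lit 136000) (allRange_join' (nat_lit 128000) (allRange_join' (nat_lit 120000) (allRange_join' (nat_lit 112000) (allRange_join' (nat_lit 104000) (allRange_join' (nat_lit 96000) (allRange_join' (nat_lit 88000) (allRange_join' (nat_lit 80000) (allRange_join' (nat_lit 72000) (allRange_join' (nat_lit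 64000) (allRange_join' (nat_lit 56000) (allRange_join' (nat_lit 48000) (allRange_join' (nat_lit 40000) (allRange_join' (nat_lit 32000) (allRange_join' (nat_lit 24000) (allRange_join' (nat_lit 16000) fa1_0 fa1_1 rfl) fa1_2 rfl) fa1_3 rfl) fa1_4 rfl) fa1_5 rfl) fa1_6 rfl) fa1_7 rfl) fa1_8 rfl) fa1_9 rfl) fa1_10 rfl) fa1_11 rfl) fa1_12 rfl) fa1_13 rfl) fa1_14 rfl) fa1_15 rfl) fa1_16 rfl) fa1_17 rfl) fa1_18 rfl) fa1_19 rfl) fa1_20 rfl)
theorem fa1 : allRange (nat_lit 0) (nat_lit 306936) (fun i => Nat.beq (traceP S [nat_lit 0,nat_lit 1,nat_lit 4,nat_lit 8,nat_lit 11,nat_lit 10,nat_lit 0,nat_lit 3,nat_lit 6,nat_lit 7,nat_lit 9,nat_lit 0,nat_lit 2,nat_lit 5] i) (F1 i)) = true := (allRange_join' (nat_lit 306936) (allRange_join' (nat_lit 304000) (allRange_join' (nat_lit 296000) (allRange_join' (nat_lit 288000) (allRange_join' (nat_lit 280000) (allRange_join' (nat_lit 272000) (allRange_join' (nat_lit 264000) (allRange_join' (nat_lit 256000) (allRange_join' (nat_lit 248000) (allRange_join'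 (nat_lit 240000) (allRange_join' (nat_lit 232000) (allRange_join' (nat_lit 224000) (allRange_join' (nat_lit 216000) (allRange_join' (nat_lit 208000) (allRange_join' (nat_lit 200000) (allRange_join' (nat_lit 192000) (allRange_join' (nat_lit 184000) (allRange_join' (nat_lit 176000) fa1_u20 fa1_21 rfl) fa1_22 rfl) fa1_23 rfl) fa1_24 rfl) fa1_25 rfl) fa1_26 rfl) fa1_27 rfl) fa1_28 rfl) fa1_29 rfl) fa1_30 rfl) fa1_31 rfl) fa1_32 rfl) fa1_33 rfl) fa1_34 rfl) fa1_35 rfl) fa1_36 rfl) fa1_37 rfl) fa1_38 rfl)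
theorem fb1 : allRange (nat_lit 0) (nat_lit 306936) (fun i => force i fun p => cycOK F1 (fun q => Nat.beq (traceP S [] q) p) p (nat_lit 17) p) = true := (allRange_join' (nat_lit 306936) (allRange_join' (nat_lit 300000) (allRange_join' (nat_lit 275000) (allRange_join' (nat_lit 250000) (allRange_join' (nat_lit 225000) (allRange_join' (nat_lit 200000) (allRange_join' (nat_lit 175000) (allRange_join' (nat_lit 150000) (allRange_join' (nat_lit 125000) (allRange_join' (nat_lit 100000) (allRange_join' (nat_lit 75000) (allRange_join' (nat_lit 50000) fb1_0 fb1_1 rfl) fb1_2 rfl) fb1_3 rfl) fb1_4 rfl) fb1_5 rfl) fb1_6 rfl) fb1_7 rfl) fb1_8 rfl) fb1_9 rfl) fb1_10 rfl) fb1_11 rfl) fb1_12 rfl)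
theorem relL1 : evalW (fun x => permOf 306936 (S x)) (appL [] (powW 17 [0, 1, 4, 8, 11, 10, 0, 3, 6, 7, 9, 0, 2, 5])) = 1 :=
  tabsP.pow_rel_min (fun a _ h => finE_faithful a h) (by decide +kernel) (Commute.one_left _) fa1 fb1

theorem exHom : ∃ φ : Cfsg.Spor.Fi24 →* Equiv.Perm (Fin 306936), ∀ x < 12, φ (g x) = permOf 306936 (S x) :=
  exists_presHom hL (t := (LT.node (LT.node (LT.node Rp Rs) (.leaf (appL [10] (powW 9 [2, 6, 3, 0, 1, 4, 8])))) (.leaf (appL [] (powW 17 [0, 1, 4, 8, 11, 10, 0, 3, 6, 7, 9, 0, 2, 5])))))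
    (LT.forall_node (P := fun w => evalW _ w = 1) (LT.forall_node (P := fun w => evalW _ w = 1) relS (fun _ => relL0)) (fun _ => relL1))
    (by decide +kernel) (by decide +kernel) (by decide +kernel)

/-- The permutation representation of degree 306936. -/
noncomputable def phi : Cfsg.Spor.Fi24 →* Equiv.Perm (Fin 306936) := exHom.choose

/-- The action on 306936 points. -/
noncomputable instance act : MulAction Cfsg.Spor.Fi24 (Fin 306936) := MulAction.compHom _ phi

theorem smul_def (y : Cfsg.Spor.Fi24) (i : Fin 306936) : y • i = phi y i := rfl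

/-- The generators act by the tables `S`. -/
theorem tabs0 : Tabs (finE 306936) 306936 S g 12 := tabs_compHom phi tabsP exHom.choose_spec

end Cfsg.Agent.Spor.MFi24
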