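import Mathlib
import Cfsg.Agent.Spor.Fi24.Rep
import Cfsg.Agent.Spor.Fi24.SpU
import Cfsg.Agent.Spor.Fi24.SpC
import Cfsg.Agent.Spor.Comp.Derive
import Cfsg.Agent.Spor.Fi24.UA9
import Cfsg.Agent.Spor.Fi24.MU

/-! Generated by tools/pg: the spider relation in Fi24 -/

set_option autoImplicit false
set_option maxRecDepth 100000
set_option linter.unusedVariables false
set_option exponentiation.threshold 100000

namespace Cfsg.Agent.Spor.MFi24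

open Cfsg.Agent.Spor

theorem hW_pairs {V : List (List ℕ)} (h : ∀ w ∈ V, evalW g w = 1) :
    ∀ w ∈ (List.range 12).map (fun x => [x, x]) ++ V, evalW g w = 1 := fun w hw => by
  rcases List.mem_append.1 hw with h1 | h1
  · obtain ⟨x, hx, rfl⟩ := List.mem_map.1 h1
    have := hinv x (List.mem_range.1 hx)
    rw [(nbeq_iff _ _).1 ((allLt_iff 12 fun x => Nat.beq (inv x) x).1 (by decide +kernel) x (List.mem_range.1 hx))] at this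
    simpa using this
  · exact h w h1

theorem sq (x : ℕ) (hx : x < 12) : g x * g x = 1 := by
  simpa using hW_pairs hW [x, x] (List.mem_append_left _ (List.mem_map.2 ⟨x, List.mem_range.2 hx, rfl⟩))

/-- The letters in the order d c h e b f a l i g j k. -/
noncomputable def iA : ℕ → ℕ := getP (nat_lit 8) (nat_lit 255) (nat_lit 0xb0907050a08060403020100)

/-- The generators in the order d c h e b f a l i g j k. -/
noncomputable abbrev gA : ℕ → Cfsg.Spor.Fi24 := fun x => g (iA x)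

theorem hAinv (m : ℕ) (hm : m ≤ 12) {iv : ℕ → ℕ} (h : allLt m (fun x => Nat.beq (iv x) x) = true) :
    ∀ x < m, gA x * gA (iv x) = 1 := fun x hx => by
  rw [(nbeq_iff _ _).1 ((allLt_iff _ _).1 h x hx)]
  exact sq _ ((blt_iff _ _).1 ((allLt_iff 12 fun x => blt (iA x) 12).1 (by decide +kernel) x (by omega)))

theorem tabsA : Tabs (finE 306936) 306936 (fun x => S (iA x)) gA 12 := tabs0.comp (by decide +kernel)

/-- The letters in the order d c h e b f g j i a k l. -/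
noncomputable def iB : ℕ → ℕ := getP (nat_lit 8) (nat_lit 255) (nat_lit 0xa0b08050907060403020100)

/-- The generators in the order d c h e b f g j i a k l. -/
noncomputable abbrev gB : ℕ → Cfsg.Spor.Fi24 := fun x => g (iB x)

theorem hBinv (m : ℕ) (hm : m ≤ 12) {iv : ℕ → ℕ} (h : allLt m (fun x => Nat.beq (iv x) x) = true) :
    ∀ x < m, gB x * gB (iv x) = 1 := fun x hx => by
  rw [(nbeq_iff _ _).1 ((allLt_iff _ _).1 h x hx)]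
  exact sq _ ((blt_iff _ _).1 ((allLt_iff 12 fun x => blt (iB x) 12).1 (by decide +kernel) x (by omega)))

theorem tabsB : Tabs (finE 306936) 306936 (fun x => S (iB x)) gB 12 := tabs0.comp (by decide +kernel)

theorem ubA0 : Nat.card (genLt gA 0) ≠ 0 ∧ Nat.card (genLt gA 0) ≤ 1 := by rw [card_genLt_zero]; decide

theorem ubA1 : Nat.card (genLt gA 1) ≠ 0 ∧ Nat.card (genLt gA 1) ≤ 2 :=
  card_le_of_relIndex (genLt_mono _ (by decide)) (uA1_bound (hAinv 1 (by decide) (by decide +kernel))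
    (rels_comp (ι := iA) (hW_pairs hW) (by decide +kernel))
    (fun _ => mem_genLt _) (leaf_nil_mem _ _)) ubA0

theorem ubA2 : Nat.card (genLt gA 2) ≠ 0 ∧ Nat.card (genLt gA 2) ≤ 6 :=
  card_le_of_relIndex (genLt_mono _ (by decide)) (uA2_bound (hAinv 2 (by decide) (by decide +kernel))
    (rels_comp (ι := iA) (hW_pairs hW) (by decide +kernel))
    (fun _ => mem_genLt _) (leaf_nil_mem _ _)) ubA1

theorem ubA3 : Nat.card (genLt gA 3) ≠ 0 ∧ Nat.card (genLt gA 3) ≤ 24 :=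
  card_le_of_relIndex (genLt_mono _ (by decide)) (uA3_bound (hAinv 3 (by decide) (by decide +kernel))
    (rels_comp (ι := iA) (hW_pairs hW) (by decide +kernel))
    (fun _ => mem_genLt _) (leaf_nil_mem _ _)) ubA2

theorem ubA4 : Nat.card (genLt gA 4) ≠ 0 ∧ Nat.card (genLt gA 4) ≤ 192 :=
  card_le_of_relIndex (genLt_mono _ (by decide)) (uA4_bound (hAinv 4 (by decide) (by decide +kernel))
    (rels_comp (ι := iA) (hW_pairs hW) (by decide +kernel))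
    (fun _ => mem_genLt _) (leaf_nil_mem _ _)) ubA3

theorem ubA5 : Nat.card (genLt gA 5) ≠ 0 ∧ Nat.card (genLt gA 5) ≤ 1920 :=
  card_le_of_relIndex (genLt_mono _ (by decide)) (uA5_bound (hAinv 5 (by decide) (by decide +kernel))
    (rels_comp (ι := iA) (hW_pairs hW) (by decide +kernel))
    (fun _ => mem_genLt _) (leaf_nil_mem _ _)) ubA4

theorem ubA6 : Nat.card (genLt gA 6) ≠ 0 ∧ Nat.card (genLt gA 6) ≤ 51840 :=
  card_le_of_relIndex (genLt_mono _ (by decide)) (uA6_bound (hAinv 6 (by decide) (by decide +kernel))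
    (rels_comp (ι := iA) (hW_pairs hW) (by decide +kernel))
    (fun _ => mem_genLt _) (leaf_nil_mem _ _)) ubA5

theorem ubA7 : Nat.card (genLt gA 7) ≠ 0 ∧ Nat.card (genLt gA 7) ≤ 2903040 :=
  card_le_of_relIndex (genLt_mono _ (by decide)) (uA7_bound (hAinv 7 (by decide) (by decide +kernel))
    (rels_comp (ι := iA) (hW_pairs hW) (by decide +kernel))
    (fun _ => mem_genLt _) (leaf_nil_mem _ _)) ubA6

theorem ubA8 : Nat.card (genLt gA 8) ≠ 0 ∧ Nat.card (genLt gA 8) ≤ 2903040 :=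
  card_le_of_relIndex (genLt_mono _ (by decide)) (uA8_bound (hAinv 8 (by decide) (by decide +kernel))
    (rels_comp (ι := iA) (hW_pairs hW) (by decide +kernel))
    (fun _ => mem_genLt _) (leaf_nil_mem _ _)) ubA7

theorem ubA9 : Nat.card (genLt gA 9) ≠ 0 ∧ Nat.card (genLt gA 9) ≤ 27512110080 :=
  card_le_of_relIndex (genLt_mono _ (by decide)) (uA9_bound (hAinv 9 (by decide) (by decide +kernel))
    (rels_comp (ι := iA) (hW_pairs hW) (by decide +kernel))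
    (fun _ => mem_genLt _) (leaf_nil_mem _ _)) ubA8

theorem tabs_c7 : Tabs (fun i => (finE 306936) (Pc7 i)) 56 c7_S gA 8 :=
  ((tabsA.mono (by decide)).restrict' (by decide +kernel))

theorem inj_c7 : Set.InjOn (fun i => (finE 306936) (Pc7 i)) (Set.Iio 56) :=
  injOn_restrict (Q := Qc7) (finE_injOn 306936) (by decide +kernel)

theorem tabs_c8 : Tabs (fun i => (finE 306936) (Pc8 i)) 728 c8_S gA 9 :=
  ((tabsA.mono (by decide)).restrict' (by decide +kernel))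

theorem inj_c8 : Set.InjOn (fun i => (finE 306936) (Pc8 i)) (Set.Iio 728) :=
  injOn_restrict (Q := Qc8) (finE_injOn 306936) (by decide +kernel)

theorem base7 : IsBase (fun i => (finE 306936) (Pc7 i)) (genLt gA 8) [5, 7, 1, 10, 0, 3] := by
  rw [← c7_gen]; exact c7_base0 inj_c7 tabs_c7 ubA8

/-- The spider word to the tenth power. -/
noncomputable def t : Cfsg.Spor.Fi24 := evalW g [0, 1, 4, 0, 3, 6, 0, 2, 5, 0, 1, 4, 0, 3, 6, 0, 2, 5, 0, 1, 4, 0, 3, 6, 0, 2, 5, 0, 1, 4, 0, 3, 6, 0, 2, 5, 0, 1, 4, 0, 3, 6, 0, 2, 5, 0, 1, 4, 0, 3, 6, 0, 2, 5, 0, 1, 4, 0, 3, 6, 0, 2, 5, 0, 1, 4, 0, 3, 6, 0, 2, 5, 0, 1, 4, 0, 3, 6, 0, 2, 5, 0, 1, 4, 0, 3, 6, 0, 2, 5]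

theorem t_A : evalW gA [0, 1, 4, 0, 3, 5, 0, 2, 8, 0, 1, 4, 0, 3, 5, 0, 2, 8, 0, 1, 4, 0, 3, 5, 0, 2, 8, 0, 1, 4, 0, 3, 5, 0, 2, 8, 0, 1, 4, 0, 3, 5, 0, 2, 8, 0, 1, 4, 0, 3, 5, 0, 2, 8, 0, 1, 4, 0, 3, 5, 0, 2, 8, 0, 1, 4, 0, 3, 5, 0, 2, 8, 0, 1, 4, 0, 3, 5, 0, 2, 8, 0, 1, 4, 0, 3, 5, 0, 2, 8] = t := evalW_comp g iA (by decide +kernel)

theorem t_cube : t ^ 3 = 1 := by
  have h := base7 _ (mA_mem0 (hAinv 9 (by decide) (by decide +kernel))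
    (rels_comp (ι := iA) (hW_pairs hW) (by decide +kernel))
    (fun _ => mem_genLt _) (leaf_nil_mem _ _)) (tabsA.fix_restrict (by decide +kernel))
  rw [← t_A, ← evalW_powW]
  exact h

theorem t_comm : Commute (g 5) t := by
  have h := base7 _ (mA_mem1 (hAinv 9 (by decide) (by decide +kernel))
    (rels_comp (ι := iA) (hW_pairs hW) (by decide +kernel))
    (fun _ => mem_genLt _) (leaf_nil_mem _ _)) (tabsA.fix_restrict (by decide +kernel))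
  rw [evalW_comp g iA (w := conjW inv [5] [0, 1, 4, 0, 3, 6, 0, 2, 5, 0, 1, 4, 0, 3, 6, 0, 2, 5, 0, 1, 4, 0, 3, 6, 0, 2, 5, 0, 1, 4, 0, 3, 6, 0, 2, 5, 0, 1, 4, 0, 3, 6, 0, 2, 5, 0, 1, 4, 0, 3, 6, 0, 2, 5, 0, 1, 4, 0, 3, 6, 0, 2, 5, 0, 1, 4, 0, 3, 6, 0, 2, 5, 0, 1, 4, 0, 3, 6, 0, 2, 5, 0, 1, 4, 0, 3, 6, 0, 2, 5] ++ invW inv [0, 1, 4, 0, 3, 6, 0, 2, 5, 0, 1, 4, 0, 3, 6, 0, 2, 5, 0, 1, 4, 0, 3, 6, 0, 2, 5, 0, 1, 4, 0, 3, 6, 0, 2, 5, 0, 1, 4, 0, 3, 6, 0, 2, 5, 0, 1, 4, 0, 3, 6, 0, 2, 5, 0, 1, 4, 0, 3, 6, 0, 2, 5, 0, 1, 4, 0, 3, 6, 0, 2, 5, 0, 1, 4, 0, 3, 6, 0, 2, 5, 0, 1, 4, 0, 3, 6, 0, 2, 5]) (by decide +kernel), evalW_append,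
    evalW_conjW hinv (by decide +kernel), evalW_invW fun x hx => hinv x ((lettersLt_iff 12 _).1 (by decide +kernel) x hx),
    evalW_cons g 5, evalW_nil, mul_one, mul_inv_eq_one, mul_inv_eq_iff_eq_mul] at h
  exact h

theorem fix8 : Finite (fixB (fun i => (finE 306936) (Pc8 i)) (genLt gA 9) [5, 7, 1, 10, 9, 0]) ∧
    Nat.card (fixB (fun i => (finE 306936) (Pc8 i)) (genLt gA 9) [5, 7, 1, 10, 9, 0]) ≤ 3 :=
  card_fix_le (c := 9170703360) ubA9 inf_le_left fun h => c8_fix0 inj_c8 tabs_c8 _ h (c8_gen gA).le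

theorem u_eq : evalW g [4, 1, 0, 3, 6, 7, 2, 4, 1, 0, 3, 6, 7, 2, 4, 1, 0, 3, 6, 7, 2, 4, 1, 0, 3, 6, 7, 2, 4, 1, 0, 3, 6, 7, 2, 4, 1, 0, 3, 6, 7, 2, 4, 1, 0, 3, 6, 7, 2, 4, 1, 0, 3, 6, 7, 2, 4, 1, 0, 3, 6, 7, 2, 5, 2, 7, 6, 3, 0, 1, 4, 2, 7, 6, 3, 0, 1, 4, 2, 7, 6, 3, 0, 1, 4, 2, 7, 6, 3, 0, 1, 4, 2, 7, 6, 3, 0, 1, 4, 2, 7, 6, 3, 0, 1, 4, 2, 7, 6, 3, 0, 1, 4, 2, 7, 6, 3, 0, 1, 4, 2, 7, 6, 3, 0, 1, 4, 5] = evalW g [4, 1, 0, 3, 6, 7, 2, 4, 1, 0, 3, 6, 7, 2, 4, 1, 0, 3, 6, 7, 2, 4, 1, 0, 3, 6, 7, 2, 4, 1, 0, 3, 6, 7, 2, 4, 1, 0, 3, 6, 7, 2, 4, 1, 0, 3, 6, 7, 2, 4, 1, 0, 3, 6, 7, 2, 4, 1, 0, 3, 6, 7, 2] * g 5 * (evalW g [4, 1, 0, 3, 6, 7, 2, 4, 1, 0, 3, 6, 7, 2, 4, 1, 0, 3, 6, 7, 2, 4, 1, 0, 3, 6, 7, 2, 4, 1, 0, 3, 6, 7, 2, 4, 1, 0, 3, 6, 7, 2, 4, 1, 0, 3, 6, 7, 2, 4, 1, 0, 3, 6, 7, 2, 4, 1, 0, 3, 6, 7, 2])⁻¹ * g 5 := by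
  rw [show ([4, 1, 0, 3, 6, 7, 2, 4, 1, 0, 3, 6, 7, 2, 4, 1, 0, 3, 6, 7, 2, 4, 1, 0, 3, 6, 7, 2, 4, 1, 0, 3, 6, 7, 2, 4, 1, 0, 3, 6, 7, 2, 4, 1, 0, 3, 6, 7, 2, 4, 1, 0, 3, 6, 7, 2, 4, 1, 0, 3, 6, 7, 2, 5, 2, 7, 6, 3, 0, 1, 4, 2, 7, 6, 3, 0, 1, 4, 2, 7, 6, 3, 0, 1, 4, 2, 7, 6, 3, 0, 1, 4, 2, 7, 6, 3, 0, 1, 4, 2, 7, 6, 3, 0, 1, 4, 2, 7, 6, 3, 0, 1, 4, 2, 7, 6, 3, 0, 1, 4, 2, 7, 6, 3, 0, 1, 4, 5] : List ℕ) = conjW inv [4, 1, 0, 3, 6, 7, 2, 4, 1, 0, 3, 6, 7, 2, 4, 1, 0, 3, 6, 7, 2, 4, 1, 0, 3, 6, 7, 2, 4, 1, 0, 3, 6, 7, 2, 4, 1, 0, 3, 6, 7, 2, 4, 1, 0, 3, 6, 7, 2, 4, 1, 0, 3, 6, 7, 2, 4, 1, 0, 3, 6, 7, 2] [5] ++ [5] by decide +kernel, evalW_append,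
    evalW_conjW hinv (by decide +kernel), evalW_cons g 5, evalW_nil, mul_one]

theorem t_or_u : t = 1 ∨ evalW g [4, 1, 0, 3, 6, 7, 2, 4, 1, 0, 3, 6, 7, 2, 4, 1, 0, 3, 6, 7, 2, 4, 1, 0, 3, 6, 7, 2, 4, 1, 0, 3, 6, 7, 2, 4, 1, 0, 3, 6, 7, 2, 4, 1, 0, 3, 6, 7, 2, 4, 1, 0, 3, 6, 7, 2, 4, 1, 0, 3, 6, 7, 2, 5, 2, 7, 6, 3, 0, 1, 4, 2, 7, 6, 3, 0, 1, 4, 2, 7, 6, 3, 0, 1, 4, 2, 7, 6, 3, 0, 1, 4, 2, 7, 6, 3, 0, 1, 4, 2, 7, 6, 3, 0, 1, 4, 2, 7, 6, 3, 0, 1, 4, 2, 7, 6, 3, 0, 1, 4, 2, 7, 6, 3, 0, 1, 4, 5] = 1 := by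
  have h1 : t ∈ fixB (fun i => (finE 306936) (Pc8 i)) (genLt gA 9) [5, 7, 1, 10, 9, 0] := by
    rw [← t_A]
    exact mem_fixB.2 ⟨evalW_mem_genLt gA (by decide +kernel), tabsA.fix_restrict (by decide +kernel)⟩
  have h2 : evalW g [4, 1, 0, 3, 6, 7, 2, 4, 1, 0, 3, 6, 7, 2, 4, 1, 0, 3, 6, 7, 2, 4, 1, 0, 3, 6, 7, 2, 4, 1, 0, 3, 6, 7, 2, 4, 1, 0, 3, 6, 7, 2, 4, 1, 0, 3, 6, 7, 2, 4, 1, 0, 3, 6, 7, 2, 4, 1, 0, 3, 6, 7, 2, 5, 2, 7, 6, 3, 0, 1, 4, 2, 7, 6, 3, 0, 1, 4, 2, 7, 6, 3, 0, 1, 4, 2, 7, 6, 3, 0, 1, 4, 2, 7, 6, 3, 0, 1, 4, 2, 7, 6, 3, 0, 1, 4, 2, 7, 6, 3, 0, 1, 4, 2, 7, 6, 3, 0, 1, 4, 2, 7, 6, 3, 0, 1, 4, 5] ∈ fixB (fun i => (finE 306936) (Pc8 i)) (genLt gA 9) [5, 7, 1, 10, 9, 0] := by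
    rw [← evalW_comp g iA (v := [4, 1, 0, 3, 5, 9, 2, 4, 1, 0, 3, 5, 9, 2, 4, 1, 0, 3, 5, 9, 2, 4, 1, 0, 3, 5, 9, 2, 4, 1, 0, 3, 5, 9, 2, 4, 1, 0, 3, 5, 9, 2, 4, 1, 0, 3, 5, 9, 2, 4, 1, 0, 3, 5, 9, 2, 4, 1, 0, 3, 5, 9, 2, 8, 2, 9, 5, 3, 0, 1, 4, 2, 9, 5, 3, 0, 1, 4, 2, 9, 5, 3, 0, 1, 4, 2, 9, 5, 3, 0, 1, 4, 2, 9, 5, 3, 0, 1, 4, 2, 9, 5, 3, 0, 1, 4, 2, 9, 5, 3, 0, 1, 4, 2, 9, 5, 3, 0, 1, 4, 2, 9, 5, 3, 0, 1, 4, 8]) (by decide +kernel)]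
    exact mem_fixB.2 ⟨mU_mem0 (hAinv 10 (by decide) (by decide +kernel))
    (rels_comp (ι := iA) (hW_pairs hW) (by decide +kernel))
      (fun _ => mem_genLt _) (leaf_nil_mem _ _), tabsA.fix_restrict (by decide +kernel)⟩
  refine (eq_one_or_mem_zpowers Nat.prime_three fix8 h1 h2 t_cube).imp_right fun h => ?_
  rw [u_eq] at h ⊢
  exact comm_eq_one_of_zpowers (sq 5 (by decide)) t_cube t_comm h

theorem ubB0 : Nat.card (genLt gB 0) ≠ 0 ∧ Nat.card (genLt gB 0) ≤ 1 := by rw [card_genLt_zero]; decide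

theorem ubB1 : Nat.card (genLt gB 1) ≠ 0 ∧ Nat.card (genLt gB 1) ≤ 2 :=
  card_le_of_relIndex (genLt_mono _ (by decide)) (uB1_bound (hBinv 1 (by decide) (by decide +kernel))
    (rels_comp (ι := iB) (hW_pairs hW) (by decide +kernel))
    (fun _ => mem_genLt _) (leaf_nil_mem _ _)) ubB0

theorem ubB2 : Nat.card (genLt gB 2) ≠ 0 ∧ Nat.card (genLt gB 2) ≤ 6 :=
  card_le_of_relIndex (genLt_mono _ (by decide)) (uB2_bound (hBinv 2 (by decide) (by decide +kernel))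
    (rels_comp (ι := iB) (hW_pairs hW) (by decide +kernel))
    (fun _ => mem_genLt _) (leaf_nil_mem _ _)) ubB1

theorem ubB3 : Nat.card (genLt gB 3) ≠ 0 ∧ Nat.card (genLt gB 3) ≤ 24 :=
  card_le_of_relIndex (genLt_mono _ (by decide)) (uB3_bound (hBinv 3 (by decide) (by decide +kernel))
    (rels_comp (ι := iB) (hW_pairs hW) (by decide +kernel))
    (fun _ => mem_genLt _) (leaf_nil_mem _ _)) ubB2

theorem ubB4 : Nat.card (genLt gB 4) ≠ 0 ∧ Nat.card (genLt gB 4) ≤ 192 :=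
  card_le_of_relIndex (genLt_mono _ (by decide)) (uB4_bound (hBinv 4 (by decide) (by decide +kernel))
    (rels_comp (ι := iB) (hW_pairs hW) (by decide +kernel))
    (fun _ => mem_genLt _) (leaf_nil_mem _ _)) ubB3

theorem ubB5 : Nat.card (genLt gB 5) ≠ 0 ∧ Nat.card (genLt gB 5) ≤ 1920 :=
  card_le_of_relIndex (genLt_mono _ (by decide)) (uB5_bound (hBinv 5 (by decide) (by decide +kernel))
    (rels_comp (ι := iB) (hW_pairs hW) (by decide +kernel))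
    (fun _ => mem_genLt _) (leaf_nil_mem _ _)) ubB4

theorem ubB6 : Nat.card (genLt gB 6) ≠ 0 ∧ Nat.card (genLt gB 6) ≤ 51840 :=
  card_le_of_relIndex (genLt_mono _ (by decide)) (uB6_bound (hBinv 6 (by decide) (by decide +kernel))
    (rels_comp (ι := iB) (hW_pairs hW) (by decide +kernel))
    (fun _ => mem_genLt _) (leaf_nil_mem _ _)) ubB5

theorem ubB7 : Nat.card (genLt gB 7) ≠ 0 ∧ Nat.card (genLt gB 7) ≤ 2903040 :=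
  card_le_of_relIndex (genLt_mono _ (by decide)) (uB7_bound (hBinv 7 (by decide) (by decide +kernel))
    (rels_comp (ι := iB) (hW_pairs hW) (by decide +kernel))
    (fun _ => mem_genLt _) (leaf_nil_mem _ _)) ubB6

theorem ubB8 : Nat.card (genLt gB 8) ≠ 0 ∧ Nat.card (genLt gB 8) ≤ 696729600 :=
  card_le_of_relIndex (genLt_mono _ (by decide)) (uB8_bound (hBinv 8 (by decide) (by decide +kernel))
    (rels_comp (ι := iB) (hW_pairs hW) (by decide +kernel))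
    (fun _ => mem_genLt _) (leaf_nil_mem _ _)) ubB7

theorem tabs_e8 : Tabs (fun i => (finE 306936) (Pe8 i)) 120 e8_S gB 8 :=
  ((tabsB.mono (by decide)).restrict' (by decide +kernel))

theorem inj_e8 : Set.InjOn (fun i => (finE 306936) (Pe8 i)) (Set.Iio 120) :=
  injOn_restrict (Q := Qe8) (finE_injOn 306936) (by decide +kernel)

theorem fixE8 : Finite (fixB (fun i => (finE 306936) (Pe8 i)) (genLt gB 8) [1, 2, 5, 10, 18, 0, 29]) ∧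
    Nat.card (fixB (fun i => (finE 306936) (Pe8 i)) (genLt gB 8) [1, 2, 5, 10, 18, 0, 29]) ≤ 2 :=
  card_fix_le (c := 348364800) ubB8 inf_le_left fun h => e8_fix0 inj_e8 tabs_e8 _ h (e8_gen gB).le

/-- The spider relation holds in the presented group Fi24. -/
theorem t_eq_one : t = 1 := by
  refine t_or_u.elim id fun hu => eq_one_of_card_lt Nat.prime_three fixE8 (by decide) ?_ t_cube
  rw [t, ← evalW_comp g iB (v := [0, 1, 4, 0, 3, 5, 0, 2, 8, 0, 1, 4, 0, 3, 5, 0, 2, 8, 0, 1, 4, 0, 3, 5, 0, 2, 8, 0, 1, 4, 0, 3, 5, 0, 2, 8, 0, 1, 4, 0, 3, 5, 0, 2, 8, 0, 1, 4, 0, 3, 5, 0, 2, 8, 0, 1, 4, 0, 3, 5, 0, 2, 8, 0, 1, 4, 0, 3, 5, 0, 2, 8, 0, 1, 4, 0, 3, 5, 0, 2, 8, 0, 1, 4, 0, 3, 5, 0, 2, 8]) (by decide +kernel)]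
  exact mem_fixB.2 ⟨mT_mem0 (hBinv 9 (by decide) (by decide +kernel))
    (rels_comp (ι := iB) (hW_pairs (hW_cons hW hu)) (by decide +kernel))
    (fun _ => mem_genLt _) (leaf_nil_mem _ _), tabsB.fix_restrict (by decide +kernel)⟩

end Cfsg.Agent.Spor.MFi24
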